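import Groth.Agent.AzInvLib.Iso
import Groth.Agent.AzInvLib.HullTensorMod
import Groth.Agent.CSA.Azumaya

/-!
# Compatible isomorphisms over a hull descend to a stage
-/

set_option autoImplicit false
set_option linter.style.haveILetI false

universe u v w w'

open TensorProduct

namespace Groth.Agent.AzInvLib

open Groth.Agent.HenselLib CategoryTheory

variable {S : Type u} {R : Type v} [CommRing S] [CommRing R] [Algebra S R] {lam : R ≃ₐ[S] R}
variable {A : Type w} [Ring A] [Algebra S A] [Algebra R A] [IsScalarTower S R A]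
variable {A' : Type w'} [Ring A'] [Algebra S A'] [Algebra R A'] [IsScalarTower S R A']

section Candidate

variable (T : Type*) [CommRing T] [Algebra S T] {k : ℕ} (g : Fin k → A →ₗ[R] R) (w : Fin k → T ⊗[S] A')

/-- The candidate map. -/
noncomputable def cand (a : A) : T ⊗[S] A' := ∑ i, ((1 : T) ⊗ₜ[S] algebraMap R A' (g i a)) * w i

theorem cand_add (a b : A) : cand T g w (a + b) = cand T g w a + cand T g w b := by
  simp [cand, TensorProduct.tmul_add, add_mul, Finset.sum_add_distrib]

theorem cand_zero : cand T g w 0 = 0 := by simp [cand]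

theorem cand_smul (r : R) (a : A) : cand T g w (r • a) = ((1 : T) ⊗ₜ[S] algebraMap R A' r) * cand T g w a := by
  simp [cand, Finset.mul_sum, ← mul_assoc, map_mul]

omit [IsScalarTower S R A] [IsScalarTower S R A'] in
theorem one_tmul_algebraMap_commute (r : R) (z : T ⊗[S] A') :
    ((1 : T) ⊗ₜ[S] algebraMap R A' r) * z = z * ((1 : T) ⊗ₜ[S] algebraMap R A' r) := by
  induction z using TensorProduct.induction_on with
  | zero => simp
  | add a b ha hb => rw [mul_add, add_mul, ha, hb]
  | tmul c a => simp [Algebra.commutes]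

omit [IsScalarTower S R A] [IsScalarTower S R A'] in
/-- Maps compatible with the scalars agreeing on generators agree. -/
theorem eq_of_gen {x : Fin k → A} (hx : ∀ a, ∑ i, g i a • x i = a) {F G : A → T ⊗[S] A'}
    (hFa : ∀ a b, F (a + b) = F a + F b) (hGa : ∀ a b, G (a + b) = G a + G b)
    (hFs : ∀ (r : R) a, F (r • a) = ((1 : T) ⊗ₜ[S] algebraMap R A' r) * F a)
    (hGs : ∀ (r : R) a, G (r • a) = ((1 : T) ⊗ₜ[S] algebraMap R A' r) * G a)
    (h : ∀ i, F (x i) = G (x i)) (a : A) : F a = G a := by
  let F' := AddMonoidHom.mk' F hFa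
  let G' := AddMonoidHom.mk' G hGa
  show F' a = G' a
  rw [← hx a, map_sum, map_sum]
  refine Finset.sum_congr rfl fun i _ => ?_
  show F _ = G _
  rw [hFs, hGs, h]

/-- A candidate satisfying the finitely many conditions gives a compatible homomorphism. -/
theorem exists_hom_of_cand {x : Fin k → A} (hx : ∀ a, ∑ i, g i a • x i = a) (h1 : cand T g w 1 = 1)
    (hmul : ∀ i j, cand T g w (x i * x j) = cand T g w (x i) * cand T g w (x j)) :
    ∃ F : T ⊗[S] A →ₐ[T] T ⊗[S] A', (∀ a, F ((1 : T) ⊗ₜ[S] a) = cand T g w a) ∧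
      ∀ (r : R) z, F (((1 : T) ⊗ₜ[S] algebraMap R A r) * z) = ((1 : T) ⊗ₜ[S] algebraMap R A' r) * F z := by
  have hs := cand_smul (S := S) T g w
  have hm1 : ∀ i b, cand T g w (x i * b) = cand T g w (x i) * cand T g w b := fun i =>
    eq_of_gen (S := S) (A' := A') T g hx (F := fun b => cand T g w (x i * b))
      (G := fun b => cand T g w (x i) * cand T g w b)
      (fun a b => by simp only [mul_add, cand_add]) (fun a b => by simp only [cand_add, mul_add])
      (fun r a => by simp only [mul_smul_comm, hs])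
      (fun r a => by rw [hs, ← mul_assoc, ← one_tmul_algebraMap_commute, mul_assoc]) (hmul i)
  have hm : ∀ a b, cand T g w (a * b) = cand T g w a * cand T g w b := fun a b =>
    eq_of_gen (S := S) (A' := A') T g hx (F := fun a => cand T g w (a * b))
      (G := fun a => cand T g w a * cand T g w b)
      (fun a c => by simp only [add_mul, cand_add]) (fun a c => by simp only [cand_add, add_mul])
      (fun r a => by simp only [smul_mul_assoc, hs]) (fun r a => by simp only [hs, mul_assoc])
      (fun i => hm1 i b) a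
  let ρ : A →ₐ[S] T ⊗[S] A' :=
    { toFun := cand T g w
      map_one' := h1
      map_mul' := hm
      map_zero' := cand_zero T g w
      map_add' := cand_add T g w
      commutes' := fun s => by
        rw [Algebra.algebraMap_eq_smul_one, ← algebraMap_smul R s (1 : A), hs, h1, mul_one,
          ← IsScalarTower.algebraMap_apply, Algebra.algebraMap_eq_smul_one (A := A'), TensorProduct.tmul_smul,
          ← Algebra.TensorProduct.one_def, Algebra.algebraMap_eq_smul_one] }
  refine ⟨Algebra.TensorProduct.lift (Algebra.ofId T _) ρ fun s a => Algebra.commutes s _, fun a => ?_, fun r z => ?_⟩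
  · simp [ρ, ← Algebra.TensorProduct.one_def]
  · rw [map_mul, Algebra.TensorProduct.lift_tmul, map_one, one_mul]
    congr 1
    show cand T g w (algebraMap R A r) = _
    rw [Algebra.algebraMap_eq_smul_one, hs, h1, mul_one]

theorem trans'_cand {T' : Type*} [CommRing T'] [Algebra S T'] (φ : T →ₐ[S] T') (a : A) :
    trans' T' φ A' (cand T g w a) = cand T' g (fun i => trans' T' φ A' (w i)) a := by
  simp only [cand, map_sum, map_mul]
  simp [trans']

omit [IsScalarTower S R A] in
/-- Semilinearity of a base-changed involution. -/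
theorem bc_algebraMap_mul (t' : AzInv.LamInv R A' lam) (r : R) (z : T ⊗[S] A') :
    t'.bc S lam T (((1 : T) ⊗ₜ[S] algebraMap R A' r) * z) = ((1 : T) ⊗ₜ[S] algebraMap R A' (lam r)) * t'.bc S lam T z := by
  induction z using TensorProduct.induction_on with
  | zero => simp
  | add a c ha hc => simp only [mul_add, map_add, ha, hc]
  | tmul c a => simp [AzInv.LamInv.map_mul, AzInv.LamInv.map_algebraMap, Algebra.commutes]

end Candidate

theorem transMap_eq {K : Type u} [CommRing K] [Algebra S K] {P Q : Pt S K} (h : P ⟶ Q) (B : Type*) [Ring B]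
    [Algebra S B] (z : P.Ring ⊗[S] B) : ModStage.transMap B h z = trans' Q.Ring h.map B z := by
  induction z using TensorProduct.induction_on with
  | zero => simp
  | add a b ha hb => simp only [map_add, ha, hb]
  | tmul c a => simp [ModStage.transMap, trans']

theorem stageMap_eq {K : Type u} [CommRing K] [Algebra S K] {P : Pt S K} (B : Type*) [Ring B]
    [Algebra S B] (z : P.Ring ⊗[S] B) : ModStage.stageMap B P z = trans' (Hull S K) (ι P) B z := by
  induction z using TensorProduct.induction_on with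
  | zero => simp
  | add a b ha hb => simp only [map_add, ha, hb]
  | tmul c a => simp [ModStage.stageMap, trans']

/-- Finitely many equalities valid in the limit hold at a stage. -/
theorem exists_trans_eq {K : Type u} [CommRing K] [Algebra S K] {P : Pt S K} {B : Type*} [Ring B] [Algebra S B]
    {α : Type*} [Fintype α] (F G : α → P.Ring ⊗[S] B)
    (h : ∀ a, trans' (Hull S K) (ι P) B (F a) = trans' (Hull S K) (ι P) B (G a)) :
    ∃ (Q : Pt S K) (e : P ⟶ Q), ∀ a, trans' Q.Ring e.map B (F a) = trans' Q.Ring e.map B (G a) := by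
  obtain ⟨Q, e, he⟩ := ModStage.exists_transMap_eq_zero_finset B (P := P) Finset.univ (fun a => F a - G a) fun a _ => by
    rw [map_sub, stageMap_eq, stageMap_eq, h, sub_self]
  refine ⟨Q, e, fun a => ?_⟩
  have := he a (Finset.mem_univ a)
  rwa [map_sub, transMap_eq, transMap_eq, sub_eq_zero] at this

variable [Module.Finite R A] [Module.Projective R A] [Module.Finite R A'] [Module.Projective R A']

/-- Compatible isomorphisms over a hull intertwining involutions exist at some stage. -/
theorem exists_stage_iso {K : Type u} [CommRing K] [Algebra S K] (t : AzInv.LamInv R A lam)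
    (t' : AzInv.LamInv R A' lam) (φ : LIso S R (Hull S K) A A') (hφ : φ.Intertwines t t') :
    ∃ (Q : Pt S K) (ψ : LIso S R Q.Ring A A'), ψ.Intertwines t t' := by
  classical
  obtain ⟨k, x, g, hx⟩ := CSA.exists_dual_basis (R := R) A
  obtain ⟨l, y, g', hy⟩ := CSA.exists_dual_basis (R := R) A'
  obtain ⟨P₁, w₁, hw₁⟩ := ModStage.exists_stage_finite (K := K) A' fun i => φ.f ((1 : Hull S K) ⊗ₜ[S] x i)
  obtain ⟨P₂, w₂, hw₂⟩ := ModStage.exists_stage_finite (K := K) A fun i => φ.f.symm ((1 : Hull S K) ⊗ₜ[S] y i)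
  obtain ⟨P, e₁, e₂, -⟩ := IsFilteredOrEmpty.cocone_objs P₁ P₂
  let w : Fin k → P.Ring ⊗[S] A' := fun i => trans' P.Ring e₁.map A' (w₁ i)
  let w' : Fin l → P.Ring ⊗[S] A := fun i => trans' P.Ring e₂.map A (w₂ i)
  have hw : ∀ i, trans' (Hull S K) (ι P) A' (w i) = φ.f ((1 : Hull S K) ⊗ₜ[S] x i) := fun i => by
    show trans' (Hull S K) (ι P) A' (trans' P.Ring e₁.map A' (w₁ i)) = _
    rw [← stageMap_eq, ← transMap_eq, ModStage.stageMap_transMap, hw₁]
  have hw' : ∀ i, trans' (Hull S K) (ι P) A (w' i) = φ.f.symm ((1 : Hull S K) ⊗ₜ[S] y i) := fun i => by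
    show trans' (Hull S K) (ι P) A (trans' P.Ring e₂.map A (w₂ i)) = _
    rw [← stageMap_eq, ← transMap_eq, ModStage.stageMap_transMap, hw₂]
  have hρ : ∀ a, trans' (Hull S K) (ι P) A' (cand P.Ring g w a) = φ.f ((1 : Hull S K) ⊗ₜ[S] a) := fun a => by
    rw [trans'_cand]
    simp only [hw, cand, ← φ.compat, Algebra.TensorProduct.tmul_mul_tmul, one_mul, ← map_sum,
      ← TensorProduct.tmul_sum, ← Algebra.smul_def, hx]
  have hρ' : ∀ a, trans' (Hull S K) (ι P) A (cand P.Ring g' w' a) = φ.f.symm ((1 : Hull S K) ⊗ₜ[S] a) := fun a => by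
    rw [trans'_cand]
    have hc := φ.symm.compat
    simp only [LIso.symm] at hc
    simp only [hw', cand, ← hc, Algebra.TensorProduct.tmul_mul_tmul, one_mul, ← map_sum,
      ← TensorProduct.tmul_sum, ← Algebra.smul_def, hy]
  -- homomorphism conditions
  obtain ⟨Q₁, f₁, hQ₁⟩ := exists_trans_eq (B := A')
    (α := Option ((Fin k × Fin k) ⊕ Fin k))
    (fun a => a.elim (cand P.Ring g w 1) (Sum.elim (fun p => cand P.Ring g w (x p.1 * x p.2))
      fun i => cand P.Ring g w (t (x i))))
    (fun a => a.elim 1 (Sum.elim (fun p => cand P.Ring g w (x p.1) * cand P.Ring g w (x p.2))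
      fun i => t'.bc S lam P.Ring (cand P.Ring g w (x i)))) (by
      rintro (_ | ⟨i, j⟩ | i)
      · show trans' _ _ _ (cand P.Ring g w 1) = trans' _ _ _ 1
        rw [hρ, map_one, ← Algebra.TensorProduct.one_def, map_one]
      · show trans' _ _ _ (cand P.Ring g w (x i * x j)) = trans' _ _ _ (cand P.Ring g w (x i) * cand P.Ring g w (x j))
        rw [map_mul, hρ, hρ, hρ, ← map_mul, Algebra.TensorProduct.tmul_mul_tmul, one_mul]
      · show trans' _ _ _ (cand P.Ring g w (t (x i))) = trans' _ _ _ (t'.bc S lam P.Ring (cand P.Ring g w (x i)))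
        rw [← trans'_bc, hρ, hρ, ← hφ, AzInv.LamInv.bc_tmul])
  obtain ⟨Q₂, f₂, hQ₂⟩ := exists_trans_eq (B := A) (α := Option (Fin l × Fin l))
    (fun a => a.elim (cand P.Ring g' w' 1) fun p => cand P.Ring g' w' (y p.1 * y p.2))
    (fun a => a.elim 1 fun p => cand P.Ring g' w' (y p.1) * cand P.Ring g' w' (y p.2)) (by
      rintro (_ | ⟨i, j⟩)
      · show trans' _ _ _ (cand P.Ring g' w' 1) = trans' _ _ _ 1
        rw [hρ', map_one, ← Algebra.TensorProduct.one_def, map_one]
      · show trans' _ _ _ (cand P.Ring g' w' (y i * y j)) = trans' _ _ _ (cand P.Ring g' w' (y i) * cand P.Ring g' w' (y j))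
        rw [map_mul, hρ', hρ', hρ', ← map_mul, Algebra.TensorProduct.tmul_mul_tmul, one_mul])
  obtain ⟨Q₀, a₁, a₂, -⟩ := IsFilteredOrEmpty.cocone_objs Q₁ Q₂
  let d₁ := f₁ ≫ a₁
  let d₂ := f₂ ≫ a₂
  obtain ⟨Q, q, hq⟩ : ∃ (Q : Pt S K) (q : Q₀ ⟶ Q), d₁ ≫ q = d₂ ≫ q :=
    ⟨IsFiltered.coeq d₁ d₂, IsFiltered.coeqHom d₁ d₂, IsFiltered.coeq_condition d₁ d₂⟩
  let d := d₁ ≫ q
  have hd₁ : ∀ z z' : P.Ring ⊗[S] A', trans' Q₁.Ring f₁.map A' z = trans' Q₁.Ring f₁.map A' z' →
      trans' Q.Ring d.map A' z = trans' Q.Ring d.map A' z' := fun z z' h => by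
    have e : ∀ z, trans' Q.Ring d.map A' z = trans' Q.Ring (a₁ ≫ q).map A' (trans' Q₁.Ring f₁.map A' z) := fun z => by
      induction z using TensorProduct.induction_on with
      | zero => simp
      | add a b ha hb => simp only [map_add, ha, hb]
      | tmul c a => simp [trans', d, d₁, Pt.comp_map]
    rw [e, e, h]
  have hd₂ : ∀ z z' : P.Ring ⊗[S] A, trans' Q₂.Ring f₂.map A z = trans' Q₂.Ring f₂.map A z' →
      trans' Q.Ring d.map A z = trans' Q.Ring d.map A z' := fun z z' h => by
    have e : ∀ z, trans' Q.Ring d.map A z = trans' Q.Ring (a₂ ≫ q).map A (trans' Q₂.Ring f₂.map A z) := fun z => by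
      induction z using TensorProduct.induction_on with
      | zero => simp
      | add a b ha hb => simp only [map_add, ha, hb]
      | tmul c a =>
        have : d = d₂ ≫ q := hq
        simp [trans', this, d₂, Pt.comp_map]
    rw [e, e, h]
  let v : Fin k → Q.Ring ⊗[S] A' := fun i => trans' Q.Ring d.map A' (w i)
  let v' : Fin l → Q.Ring ⊗[S] A := fun i => trans' Q.Ring d.map A (w' i)
  obtain ⟨F, hF, hFc⟩ := exists_hom_of_cand Q.Ring g v hx
    (by have := hd₁ _ _ (hQ₁ none); simpa [trans'_cand] using this)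
    (fun i j => by have := hd₁ _ _ (hQ₁ (some (Sum.inl (i, j)))); simpa [trans'_cand] using this)
  obtain ⟨F', hF', hF'c⟩ := exists_hom_of_cand Q.Ring g' v' hy
    (by have := hd₂ _ _ (hQ₂ none); simpa [trans'_cand] using this)
    (fun i j => by have := hd₂ _ _ (hQ₂ (some (i, j))); simpa [trans'_cand] using this)
  have hFι : ∀ z, trans' (Hull S K) (ι Q) A' (F z) = φ.f (trans' (Hull S K) (ι Q) A z) := by
    intro z
    induction z using TensorProduct.induction_on with
    | zero => simp
    | add a b ha hb => simp only [map_add, ha, hb]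
    | tmul c a =>
      rw [show c ⊗ₜ[S] a = (c ⊗ₜ[S] (1 : A)) * ((1 : Q.Ring) ⊗ₜ[S] a) by simp, map_mul, hF, map_mul, map_mul, map_mul,
        show c ⊗ₜ[S] (1 : A) = algebraMap Q.Ring (Q.Ring ⊗[S] A) c from (Algebra.TensorProduct.algebraMap_apply c).symm]
      congr 1
      · rw [AlgHom.commutes]
        simp [trans', Algebra.TensorProduct.algebraMap_apply]
        exact (φ.f.commutes _).symm
      · have h1 : trans' (Hull S K) (ι Q) A' (cand Q.Ring g v a) = trans' (Hull S K) (ι P) A' (cand P.Ring g w a) := by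
          rw [trans'_cand, trans'_cand]
          congr 1
          funext i
          show trans' _ _ _ (trans' _ _ _ (w i)) = _
          generalize w i = z
          induction z using TensorProduct.induction_on with
          | zero => simp
          | add a b ha hb => simp only [map_add, ha, hb]
          | tmul c a => simp [trans', HenselLib.ι_map]
        rw [h1, hρ]
        simp [trans']
  have hF'ι : ∀ z, trans' (Hull S K) (ι Q) A (F' z) = φ.f.symm (trans' (Hull S K) (ι Q) A' z) := by
    intro z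
    induction z using TensorProduct.induction_on with
    | zero => simp
    | add a b ha hb => simp only [map_add, ha, hb]
    | tmul c a =>
      rw [show c ⊗ₜ[S] a = (c ⊗ₜ[S] (1 : A')) * ((1 : Q.Ring) ⊗ₜ[S] a) by simp, map_mul, hF', map_mul, map_mul, map_mul,
        show c ⊗ₜ[S] (1 : A') = algebraMap Q.Ring (Q.Ring ⊗[S] A') c from (Algebra.TensorProduct.algebraMap_apply c).symm]
      congr 1
      · rw [AlgHom.commutes]
        simp [trans', Algebra.TensorProduct.algebraMap_apply]
        exact (φ.f.symm.commutes _).symm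
      · have h1 : trans' (Hull S K) (ι Q) A (cand Q.Ring g' v' a) = trans' (Hull S K) (ι P) A (cand P.Ring g' w' a) := by
          rw [trans'_cand, trans'_cand]
          congr 1
          funext i
          show trans' _ _ _ (trans' _ _ _ (w' i)) = _
          generalize w' i = z
          induction z using TensorProduct.induction_on with
          | zero => simp
          | add a b ha hb => simp only [map_add, ha, hb]
          | tmul c a => simp [trans', HenselLib.ι_map]
        rw [h1, hρ']
        simp [trans']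
  obtain ⟨W₁, b₁, hb₁⟩ := exists_trans_eq (B := A) (fun i => F' (F ((1 : Q.Ring) ⊗ₜ[S] x i))) (fun i => (1 : Q.Ring) ⊗ₜ[S] x i)
    fun i => by rw [hF'ι, hFι, AlgEquiv.symm_apply_apply]
  obtain ⟨W₂, b₂, hb₂⟩ := exists_trans_eq (B := A') (fun i => F (F' ((1 : Q.Ring) ⊗ₜ[S] y i))) (fun i => (1 : Q.Ring) ⊗ₜ[S] y i)
    fun i => by rw [hFι, hF'ι, AlgEquiv.apply_symm_apply]
  obtain ⟨W₀, c₁, c₂, -⟩ := IsFilteredOrEmpty.cocone_objs W₁ W₂
  let W := IsFiltered.coeq (b₁ ≫ c₁) (b₂ ≫ c₂)
  let b : Q ⟶ W := (b₁ ≫ c₁) ≫ IsFiltered.coeqHom _ _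
  let G := pushHom W.Ring b.map F
  let G' := pushHom W.Ring b.map F'
  have hGc : ∀ (r : R) z, G (((1 : W.Ring) ⊗ₜ[S] algebraMap R A r) * z) = ((1 : W.Ring) ⊗ₜ[S] algebraMap R A' r) * G z := fun r z => by
    rw [map_mul]
    congr 1
    have h1 := hFc r 1
    rw [mul_one, map_one, mul_one] at h1
    simp [G, pushHom, h1, trans']
  have hG'c : ∀ (r : R) z, G' (((1 : W.Ring) ⊗ₜ[S] algebraMap R A' r) * z) = ((1 : W.Ring) ⊗ₜ[S] algebraMap R A r) * G' z := fun r z => by
    rw [map_mul]
    congr 1
    have h1 := hF'c r 1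
    rw [mul_one, map_one, mul_one] at h1
    simp [G', pushHom, h1, trans']
  have tc : ∀ {B : Type w} [Ring B] [Algebra S B] (z : Q.Ring ⊗[S] B) {W' : Pt S K} (p : Q ⟶ W') (p' : W' ⟶ W),
      p ≫ p' = b → trans' W.Ring b.map B z = trans' W.Ring p'.map B (trans' W'.Ring p.map B z) := by
    intro B _ _ z W' p p' hp
    induction z using TensorProduct.induction_on with
    | zero => simp
    | add a c ha hc => simp only [map_add, ha, hc]
    | tmul c a => simp [trans', ← hp, Pt.comp_map]
  have tc' : ∀ {B : Type w'} [Ring B] [Algebra S B] (z : Q.Ring ⊗[S] B) {W' : Pt S K} (p : Q ⟶ W') (p' : W' ⟶ W),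
      p ≫ p' = b → trans' W.Ring b.map B z = trans' W.Ring p'.map B (trans' W'.Ring p.map B z) := by
    intro B _ _ z W' p p' hp
    induction z using TensorProduct.induction_on with
    | zero => simp
    | add a c ha hc => simp only [map_add, ha, hc]
    | tmul c a => simp [trans', ← hp, Pt.comp_map]
  have hbe : b₂ ≫ (c₂ ≫ IsFiltered.coeqHom _ _) = b := by
    rw [← Category.assoc]; exact (IsFiltered.coeq_condition (b₁ ≫ c₁) (b₂ ≫ c₂)).symm
  have one_x : ∀ a, (1 : W.Ring) ⊗ₜ[S] a = trans' W.Ring b.map A ((1 : Q.Ring) ⊗ₜ[S] a) := fun a => by simp [trans']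
  have one_y : ∀ a, (1 : W.Ring) ⊗ₜ[S] a = trans' W.Ring b.map A' ((1 : Q.Ring) ⊗ₜ[S] a) := fun a => by simp [trans']
  have hGG' : G'.comp G = AlgHom.id _ _ := ext_trans' W.Ring b.map fun z => by
    induction z using TensorProduct.induction_on with
    | zero => simp
    | add a c ha hc => simp only [map_add, ha, hc]
    | tmul c a =>
      rw [show c ⊗ₜ[S] a = (c ⊗ₜ[S] (1 : A)) * ((1 : Q.Ring) ⊗ₜ[S] a) by simp, map_mul, map_mul, map_mul]
      congr 1
      · simp only [trans', Algebra.TensorProduct.map_tmul, map_one, AlgHom.id_apply]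
        exact (G'.comp G).commutes _
      · refine eq_of_gen (S := S) W.Ring g hx (F := fun a => G'.comp G (trans' W.Ring b.map A ((1 : Q.Ring) ⊗ₜ[S] a)))
          (G := fun a => trans' W.Ring b.map A ((1 : Q.Ring) ⊗ₜ[S] a))
          (fun a c => by simp [TensorProduct.tmul_add]) (fun a c => by simp [TensorProduct.tmul_add])
          (fun r a => by
            simp only [AlgHom.comp_apply, ← one_x]
            rw [show (1 : W.Ring) ⊗ₜ[S] (r • a) = ((1 : W.Ring) ⊗ₜ[S] algebraMap R A r) * (1 ⊗ₜ a) by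
              simp [Algebra.smul_def], hGc, hG'c])
          (fun r a => by simp only [← one_x]; simp [Algebra.smul_def]) (fun i => ?_) a
        show G' (G (trans' W.Ring b.map A _)) = _
        rw [pushHom_trans', pushHom_trans', tc _ b₁ (c₁ ≫ IsFiltered.coeqHom _ _) (Category.assoc _ _ _).symm, hb₁,
          ← tc _ b₁ (c₁ ≫ IsFiltered.coeqHom _ _) (Category.assoc _ _ _).symm]
  have hG'G : G.comp G' = AlgHom.id _ _ := ext_trans' W.Ring b.map fun z => by
    induction z using TensorProduct.induction_on with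
    | zero => simp
    | add a c ha hc => simp only [map_add, ha, hc]
    | tmul c a =>
      rw [show c ⊗ₜ[S] a = (c ⊗ₜ[S] (1 : A')) * ((1 : Q.Ring) ⊗ₜ[S] a) by simp, map_mul, map_mul, map_mul]
      congr 1
      · simp only [trans', Algebra.TensorProduct.map_tmul, map_one, AlgHom.id_apply]
        exact (G.comp G').commutes _
      · refine eq_of_gen (S := S) W.Ring g' hy (F := fun a => G.comp G' (trans' W.Ring b.map A' ((1 : Q.Ring) ⊗ₜ[S] a)))
          (G := fun a => trans' W.Ring b.map A' ((1 : Q.Ring) ⊗ₜ[S] a))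
          (fun a c => by simp [TensorProduct.tmul_add]) (fun a c => by simp [TensorProduct.tmul_add])
          (fun r a => by
            simp only [AlgHom.comp_apply, ← one_y]
            rw [show (1 : W.Ring) ⊗ₜ[S] (r • a) = ((1 : W.Ring) ⊗ₜ[S] algebraMap R A' r) * (1 ⊗ₜ a) by
              simp [Algebra.smul_def], hG'c, hGc])
          (fun r a => by simp only [← one_y]; simp [Algebra.smul_def]) (fun i => ?_) a
        show G (G' (trans' W.Ring b.map A' _)) = _
        rw [pushHom_trans', pushHom_trans', tc' _ b₂ (c₂ ≫ IsFiltered.coeqHom _ _) hbe, hb₂,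
          ← tc' _ b₂ (c₂ ≫ IsFiltered.coeqHom _ _) hbe]
  refine ⟨W, ⟨AlgEquiv.ofAlgHom G G' hG'G hGG', hGc⟩, ?_⟩
  show ∀ z, G (t.bc S lam W.Ring z) = t'.bc S lam W.Ring (G z)
  have e : G.toLinearMap ∘ₗ t.bc S lam W.Ring = t'.bc S lam W.Ring ∘ₗ G.toLinearMap :=
    ext_linear W.Ring b.map fun z => by
      show G (t.bc S lam W.Ring (trans' W.Ring b.map A z)) = t'.bc S lam W.Ring (G (trans' W.Ring b.map A z))
      rw [trans'_bc, pushHom_trans', pushHom_trans', trans'_bc]
      congr 1
      have ht : ∀ i, F ((1 : Q.Ring) ⊗ₜ[S] t (x i)) = t'.bc S lam Q.Ring (F ((1 : Q.Ring) ⊗ₜ[S] x i)) := fun i => by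
        have := hd₁ _ _ (hQ₁ (some (Sum.inr i)))
        simp only [Option.elim, Sum.elim_inr, ← trans'_bc, trans'_cand] at this
        rw [hF, hF]
        exact this
      have hsemi := fun r z => bc_algebraMap_mul (T := Q.Ring) t' r z
      induction z using TensorProduct.induction_on with
      | zero => simp
      | add a c ha hc => simp only [map_add, ha, hc]
      | tmul c a =>
        rw [AzInv.LamInv.bc_tmul,
          show c ⊗ₜ[S] t a = c • ((1 : Q.Ring) ⊗ₜ[S] t a) by rw [TensorProduct.smul_tmul', smul_eq_mul, mul_one],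
          show c ⊗ₜ[S] a = c • ((1 : Q.Ring) ⊗ₜ[S] a) by rw [TensorProduct.smul_tmul', smul_eq_mul, mul_one],
          map_smul, map_smul, map_smul]
        congr 1
        conv_lhs => rw [← hx a]
        conv_rhs => rw [← hx a]
        rw [← AzInv.LamInv.toAddMonoidHom_apply, map_sum, TensorProduct.tmul_sum, map_sum, TensorProduct.tmul_sum,
          map_sum, map_sum]
        refine Finset.sum_congr rfl fun i _ => ?_
        rw [AzInv.LamInv.toAddMonoidHom_apply, AzInv.LamInv.map_smul, Algebra.smul_def, Algebra.smul_def,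
          show (1 : Q.Ring) ⊗ₜ[S] (algebraMap R A (lam (g i a)) * t (x i)) =
            ((1 : Q.Ring) ⊗ₜ[S] algebraMap R A (lam (g i a))) * ((1 : Q.Ring) ⊗ₜ[S] t (x i)) by simp,
          show (1 : Q.Ring) ⊗ₜ[S] (algebraMap R A (g i a) * x i) =
            ((1 : Q.Ring) ⊗ₜ[S] algebraMap R A (g i a)) * ((1 : Q.Ring) ⊗ₜ[S] x i) by simp,
          hFc, hFc, hsemi, ht]
  exact fun z => LinearMap.congr_fun e z

end Groth.Agent.AzInvLib
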