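import Groth.Agent.AzInvLib.FormsSkew

/-!
# Classification of forms `σ(W)ᵀ = e W` up to congruence and scalars
-/

set_option autoImplicit false
set_option linter.style.haveILetI false

universe u v

open Matrix

namespace Groth.Agent.AzInvLib

variable {T : Type v} [CommRing T] {σ : T ≃+* T}
variable {H : Type u} [CommRing H] [IsLocalRing H] [Algebra H T]
  (hσ : Function.Involutive σ) (hfix : RInv.IsFixedRing H T σ) (hsqrt : ∀ x : Hˣ, ∃ y : H, y * y = x)

include hσ hfix in
theorem unit_sub_or_trivial : (∃ r : T, IsUnit (r - σ r)) ∨ ∀ r : T, σ r - r ∈ Ring.jacobson T := by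
  by_cases h : ∀ r : T, σ r - r ∈ Ring.jacobson T
  · exact Or.inr h
  · push Not at h
    obtain ⟨r, hr⟩ := h
    rw [RInvLib.mem_jacobson_iff] at hr
    push Not at hr
    obtain ⟨M, hM, hrM⟩ := hr
    haveI := hM
    exact Or.inl ⟨r, RInvLib.isUnit_sub_of_notMem hσ hfix M fun h => hrM (by rw [← neg_sub]; exact M.neg_mem h)⟩

include hσ hfix in
/-- Hermitian unimodular matrices have unit values if `2` is a unit or the involution is residually nontrivial. -/
theorem exists_unit_val (hcase : (∃ r : T, IsUnit (r - σ r)) ∨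
    (IsUnit (2 : T) ∧ ∀ r : T, σ r - r ∈ Ring.jacobson T)) {n : ℕ} [NeZero n]
    (W : Matrix (Fin n) (Fin n) T) (hW : sTr σ W = W) (hu : IsUnit W) : ∃ v, IsUnit (val σ W v v) := by
  by_contra hall
  push Not at hall
  have hJ : ∀ v, val σ W v v ∈ Ring.jacobson T :=
    fun v => (isUnit_or_mem_jacobson hσ hfix (val_fixed hσ hW v)).resolve_left (hall v)
  have hent : ∀ i j, σ (W j i) = W i j := fun i j => congrFun (congrFun hW i) j
  have hd : ∀ i, W i i ∈ Ring.jacobson T := fun i => val_single (σ := σ) W i i ▸ hJ _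
  have htr : ∀ i j (y : T), σ y * W i j + y * σ (W i j) ∈ Ring.jacobson T := by
    intro i j y
    have h1 := hJ (Pi.single i 1 + Pi.single j y)
    have e : val σ W (Pi.single i 1 + Pi.single j y) (Pi.single i 1 + Pi.single j y) =
        W i i + (σ y * W i j + y * σ (W i j)) + y * σ y * W j j := by
      simp [val_eq_sum, Pi.single_apply, apply_ite σ, add_mul, mul_add, Finset.sum_add_distrib, hent]
      ring
    rw [e] at h1
    have := (Ring.jacobson T).sub_mem ((Ring.jacobson T).sub_mem h1 (hd i))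
      ((Ring.jacobson T).mul_mem_left (y * σ y) (hd j))
    convert this using 1
    ring
  obtain ⟨Wi, hWi⟩ := hu.exists_right_inv
  have h1 := congrFun (congrFun hWi 0) 0
  rw [Matrix.mul_apply, Matrix.one_apply_eq] at h1
  refine not_isUnit_of_mem_jacobson hfix ?_ (h1 ▸ isUnit_one)
  refine Ideal.sum_mem _ fun j _ => Ideal.mul_mem_right _ _ ?_
  have ht1 := htr 0 j 1
  rw [map_one, one_mul, one_mul] at ht1
  rcases hcase with ⟨r, hr⟩ | ⟨h2, htriv⟩
  · have ht := htr 0 j (σ r)
    rw [hσ] at ht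
    refine (Ideal.unit_mul_mem_iff_mem _ hr).1 ?_
    have := (Ring.jacobson T).sub_mem ht ((Ring.jacobson T).mul_mem_left (σ r) ht1)
    convert this using 1
    ring
  · refine (Ideal.unit_mul_mem_iff_mem _ h2).1 ?_
    have := (Ring.jacobson T).sub_mem ht1 (htriv (W 0 j))
    convert this using 1
    ring

include hσ in
/-- Rescaling. -/
theorem sTr_smul_eq {n : ℕ} (W : Matrix (Fin n) (Fin n) T) {e c f : T} (hW : sTr σ W = e • W) (hc : σ c * e = f * c) :
    sTr σ (c • W) = f • (c • W) := by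
  rw [sTr, Matrix.map_smul' _ _ _ (map_mul σ), Matrix.transpose_smul, ← sTr, hW, smul_smul, smul_smul, hc]

theorem congrW_smul {n : ℕ} (G W : Matrix (Fin n) (Fin n) T) (c : T) : congrW σ G (c • W) = c • congrW σ G W := by
  simp only [congrW, Matrix.mul_smul, Matrix.smul_mul]

include hσ hfix hsqrt in
/-- Classification: a form is, up to congruence and a scalar, the identity, or the standard skew form in the residually
trivial case with `2` invertible and even rank. -/
theorem classify {n : ℕ} [NeZero n] (hcond : IsUnit (2 : T) ∨ (∃ r : T, IsUnit (r - σ r)) ∨ Odd n)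
    (W : Matrix (Fin n) (Fin n) T) (hu : IsUnit W) (e : T) (hW : sTr σ W = e • W) (he : σ e * e = 1) :
    (∃ (G : Matrix (Fin n) (Fin n) T) (c : T), congrW σ G (c • W) = 1 ∧ IsUnit c) ∨
    ((∀ r : T, σ r - r ∈ Ring.jacobson T) ∧ IsUnit (2 : T) ∧ Even n ∧
      ∃ (G : Matrix (Fin n) (Fin n) T) (c : T), congrW σ G (c • W) = skewStd T n ∧ IsUnit c) := by
  have herm : ∀ c : T, IsUnit c → σ c * e = c → ((∃ r : T, IsUnit (r - σ r)) ∨
      (IsUnit (2 : T) ∧ ∀ r : T, σ r - r ∈ Ring.jacobson T) ∨
      ((∀ r : T, σ r - r ∈ Ring.jacobson T) ∧ Odd n)) →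
      ∃ (G : Matrix (Fin n) (Fin n) T) (c : T), congrW σ G (c • W) = 1 ∧ IsUnit c := by
    intro c hc hce hcase
    have hW' : sTr σ (c • W) = c • W := by
      have := sTr_smul_eq hσ W (f := 1) hW (by rw [one_mul, hce])
      rwa [one_smul] at this
    obtain ⟨cu, hcu⟩ := hc
    have hu' : IsUnit (c • W) := by rw [← hcu, ← Units.smul_def]; exact hu.smul cu
    suffices ∃ G, congrW σ G (c • W) = 1 by
      obtain ⟨G, hG⟩ := this
      exact ⟨G, c, hG, ⟨cu, hcu⟩⟩
    rcases hcase with hU | ⟨h2, ht⟩ | ⟨ht, hodd⟩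
    · exact exists_congr_one hσ hfix hsqrt (Or.inl hU) n _ hW' hu' (exists_unit_val hσ hfix (Or.inl hU) _ hW' hu')
    · exact exists_congr_one hσ hfix hsqrt (Or.inr (Or.inl h2)) n _ hW' hu'
        (exists_unit_val hσ hfix (Or.inr ⟨h2, ht⟩) _ hW' hu')
    · refine exists_congr_one hσ hfix hsqrt (Or.inr (Or.inr ht)) n _ hW' hu' ?_
      by_contra hall
      push Not at hall
      have hJ := fun v => (isUnit_or_mem_jacobson hσ hfix (val_fixed hσ hW' v)).resolve_left (hall v)
      exact Nat.not_even_iff_odd.2 hodd (even_and_exists_congr_skew hσ hfix hsqrt ht 1 n _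
        (by rw [one_smul]; exact hW') hu' hJ).1
  by_cases hodd : Odd n
  · refine Or.inl ?_
    obtain ⟨k, hk⟩ := hodd
    have hdet : σ W.det = e ^ n * W.det := by
      have h1 : (sTr σ W).det = e ^ n * W.det := by rw [hW, Matrix.det_smul, Fintype.card_fin]
      rwa [sTr, Matrix.det_transpose, show (W.map σ).det = σ W.det from (RingEquiv.map_det σ W).symm] at h1
    have hu_e : IsUnit e := IsUnit.of_mul_eq_one_right _ he
    refine herm (W.det * e ^ (k + 1)) (((Matrix.isUnit_iff_isUnit_det W).1 hu).mul (hu_e.pow _)) ?_ ?_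
    · have h2 : σ e ^ (k + 1) * e ^ (k + 1) = 1 := by rw [← mul_pow, he, one_pow]
      rw [map_mul, map_pow, hdet, show e ^ n = e ^ (2 * k + 1) by rw [← hk]]
      linear_combination (e ^ (k + 1) * W.det) * h2
    · rcases unit_sub_or_trivial hσ hfix with hU | ht
      · exact Or.inl hU
      · exact Or.inr (Or.inr ⟨ht, k, hk⟩)
  rcases unit_sub_or_trivial hσ hfix with hU | ht
  · refine Or.inl ?_
    obtain ⟨r, hr⟩ := hU
    obtain ⟨a, ha⟩ := RInvLib.hilbert90 hσ hfix (RInvLib.isQuadEtale_of_unit hσ hfix hr)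
      (IsUnit.of_mul_eq_one_right (σ e) he).unit (by simpa using he)
    rw [IsUnit.unit_spec] at ha
    refine herm (↑a⁻¹ : T) a⁻¹.isUnit ?_ (Or.inl ⟨r, hr⟩)
    have h1 : σ (↑a⁻¹ : T) * σ (a : T) = 1 := by rw [← map_mul, Units.inv_mul, map_one]
    linear_combination (σ (↑a⁻¹ : T)) * ha + (↑a⁻¹ : T) * h1
  have h2 : IsUnit (2 : T) := by
    rcases hcond with h | ⟨r, hr⟩ | h
    · exact h
    · exact absurd hr (not_isUnit_of_mem_jacobson hfix (by
        have := (Ring.jacobson T).neg_mem (ht r)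
        rwa [neg_sub] at this))
    · exact absurd h hodd
  haveI := RInvLib.isLocalRing_of_trivial hσ hfix ht
  have hcases : IsUnit (1 + e) ∨ IsUnit (1 - e) := by
    by_contra h
    push Not at h
    have := ((IsLocalRing.maximalIdeal T).add_mem ((IsLocalRing.mem_maximalIdeal _).2 h.1)
      ((IsLocalRing.mem_maximalIdeal _).2 h.2))
    rw [show 1 + e + (1 - e) = (2 : T) by ring] at this
    exact (IsLocalRing.mem_maximalIdeal _).1 this h2
  rcases hcases with hc | hc
  · refine Or.inl (herm _ hc ?_ (Or.inr (Or.inl ⟨h2, ht⟩)))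
    rw [map_add, map_one]
    linear_combination he
  · have hW' : sTr σ ((1 - e) • W) = (-1 : T) • ((1 - e) • W) := sTr_smul_eq hσ W hW (by
      rw [map_sub, map_one]; linear_combination -he)
    have hu' : IsUnit ((1 - e) • W) := by
      obtain ⟨cu, hcu⟩ := hc
      rw [← hcu, ← Units.smul_def]; exact hu.smul cu
    have hJ : ∀ x, val σ ((1 - e) • W) x x ∈ Ring.jacobson T := by
      intro x
      refine (Ideal.unit_mul_mem_iff_mem _ h2).1 ?_
      have hent : ∀ i j, σ (((1 - e) • W) j i) = -((1 - e) • W) i j := fun i j =>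
        (congrFun (congrFun hW' i) j).trans (by simp)
      have hσv : σ (val σ ((1 - e) • W) x x) = -val σ ((1 - e) • W) x x := by
        simp only [val_eq_sum, map_sum, map_mul, hσ _, hent, ← Finset.sum_neg_distrib]
        rw [Finset.sum_comm]
        exact Finset.sum_congr rfl fun i _ => Finset.sum_congr rfl fun j _ => by ring
      have := (Ring.jacobson T).neg_mem (ht (val σ ((1 - e) • W) x x))
      rw [hσv] at this
      convert this using 1
      ring
    obtain ⟨hev, hG⟩ := even_and_exists_congr_skew hσ hfix hsqrt ht (-1) n _ hW' hu' hJ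
    obtain ⟨G, hG⟩ := hG h2 rfl
    exact Or.inr ⟨ht, h2, hev, G, 1 - e, hG, hc⟩

end Groth.Agent.AzInvLib
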