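import Groth.Agent.CSA.AzumayaAut
import Groth.Agent.RInvLib.Basic
import Mathlib

/-!
# Automorphisms of Azumaya algebras are inner Zariski-locally on the fixed ring of an involution
-/

set_option autoImplicit false
set_option linter.style.haveILetI false

universe u v w

open TensorProduct

namespace Groth.Agent.AzInvLib

variable {S : Type u} {R : Type v} [CommRing S] [CommRing R] [Algebra S R] {lam : R ≃+* R}

/-- Two primes of `R` over the same prime of the fixed ring are equal or conjugate. -/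
theorem prime_eq_or_eq_comap (hlam : Function.Involutive lam) (hS : RInv.IsFixedRing S R lam) (Q Q' : Ideal R)
    [Q.IsPrime] [Q'.IsPrime] (h : Q'.comap (algebraMap S R) = Q.comap (algebraMap S R)) :
    Q' = Q ∨ Q' = Q.comap (lam : R →+* R) := by
  haveI : Algebra.IsIntegral S R := RInvLib.isIntegral_fixed hlam hS
  have hcl : (Q.comap (lam : R →+* R)).comap (algebraMap S R) = Q.comap (algebraMap S R) := by
    ext s
    simp [RInvLib.lam_algebraMap hS]
  have hsub : (Q' : Set R) ⊆ (Q : Set R) ∪ (Q.comap (lam : R →+* R) : Set R) := by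
    intro x hx
    obtain ⟨-, n, -, hn⟩ := RInvLib.exists_trace_norm hlam hS x
    have hnp : n ∈ Q.comap (algebraMap S R) := by
      rw [← h, Ideal.mem_comap, hn]
      exact Ideal.mul_mem_right _ _ hx
    rw [Ideal.mem_comap, hn] at hnp
    exact (Ideal.IsPrime.mem_or_mem ‹_› hnp).imp id fun h => h
  have key : ∀ J : Ideal R, J.IsPrime → J.comap (algebraMap S R) = Q'.comap (algebraMap S R) → Q' ≤ J → Q' = J := by
    intro J hJ hc hle
    by_contra hne
    exact (Ideal.comap_lt_comap_of_integral_mem_sdiff hle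
      (Set.exists_of_ssubset ((SetLike.coe_ssubset_coe).2 (lt_of_le_of_ne hle hne))).choose_spec
      (Algebra.IsIntegral.isIntegral _)).ne hc.symm
  rcases Ideal.subset_union.1 hsub with h1 | h1
  · exact Or.inl (key Q inferInstance h.symm h1)
  · exact Or.inr (key _ inferInstance (hcl.trans h.symm) h1)

variable {A : Type w} [Ring A] [Algebra R A] [IsAzumaya R A]

/-- An element which is nonzero scalar modulo a prime divides an element outside of the prime. -/
theorem exists_mul_eq_of_sub_mem {Q : Ideal R} [Q.IsPrime] {x : A} {a : R} (ha : a ∉ Q)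
    (hx : x - algebraMap R A a ∈ (Q • ⊤ : Submodule R A)) : ∃ (y : A) (r : R), r ∉ Q ∧ y * x = algebraMap R A r := by
  set z := x - algebraMap R A a with hz
  have hran : LinearMap.range (LinearMap.mulLeft R z) ≤ Q • (⊤ : Submodule R A) := by
    rintro _ ⟨b, rfl⟩
    rw [LinearMap.mulLeft_apply]
    revert hx
    generalize z = y
    intro hy
    induction hy using Submodule.smul_induction_on' with
    | smul r hr y _ => rw [smul_mul_assoc]; exact Submodule.smul_mem_smul hr trivial
    | add y y' _ _ hy hy' => rw [add_mul]; exact add_mem hy hy'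
  obtain ⟨P, hmon, -, hc, hP⟩ := LinearMap.exists_monic_and_natDegree_eq_and_coeff_mem_pow_and_aeval_eq_zero R _ Q hran
  have hP' : Polynomial.aeval z P = 0 := by
    have h1 := congrArg (fun φ : Module.End R A => φ 1) hP
    rw [show LinearMap.mulLeft R z = Algebra.lmul R A z from rfl, Polynomial.aeval_algHom_apply] at h1
    simpa using h1
  set g := P.comp (Polynomial.X - Polynomial.C a) with hg
  have hgx : Polynomial.aeval x g = 0 := by
    rw [hg, Polynomial.aeval_comp]; simpa [hz] using hP'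
  have hg0 : g.coeff 0 ∉ Q := by
    intro hmem
    rw [hg, Polynomial.coeff_zero_eq_eval_zero, Polynomial.eval_comp] at hmem
    simp only [Polynomial.eval_sub, Polynomial.eval_X, Polynomial.eval_C, zero_sub] at hmem
    rw [Polynomial.eval_eq_sum_range, Finset.sum_range_succ, hmon.coeff_natDegree, one_mul] at hmem
    have hs : ∑ i ∈ Finset.range P.natDegree, P.coeff i * (-a) ^ i ∈ Q := by
      refine Ideal.sum_mem _ fun i hi => Ideal.mul_mem_right _ _ ?_
      exact Ideal.pow_le_self (Nat.sub_ne_zero_of_lt (Finset.mem_range.1 hi)) (hc i)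
    exact ha (neg_mem_iff.1 (Ideal.IsPrime.mem_of_pow_mem ‹_› _ ((Ideal.add_mem_iff_right _ hs).1 hmem)))
  refine ⟨-Polynomial.aeval x g.divX, g.coeff 0, hg0, ?_⟩
  rw [← Polynomial.divX_mul_X_add g] at hgx
  simp only [map_add, map_mul, Polynomial.aeval_X, Polynomial.aeval_C] at hgx
  rw [neg_mul, neg_eq_iff_add_eq_zero]
  exact hgx

variable [Algebra S A] [IsScalarTower S R A]

/-- An automorphism is inner near every prime of the fixed ring. -/
theorem exists_inner_fixed (hlam : Function.Involutive lam) (hS : RInv.IsFixedRing S R lam) (α : A ≃ₐ[R] A)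
    (p : Ideal S) [p.IsPrime] :
    ∃ f : S, f ∉ p ∧ ∃ u v v' : A, v * u = algebraMap S A f ∧ u * v' = algebraMap S A f ∧ ∀ a, u * a = α a * u := by
  classical
  haveI : Algebra.IsIntegral S R := RInvLib.isIntegral_fixed hlam hS
  have hker : RingHom.ker (algebraMap S R) ≤ p := by rw [(RingHom.injective_iff_ker_eq_bot _).1 hS.1]; exact bot_le
  obtain ⟨Q, -, hQ, hQp⟩ := Ideal.exists_ideal_over_prime_of_isIntegral p (⊥ : Ideal R) hker
  haveI := hQ
  set Q₂ := Q.comap (lam : R →+* R)
  obtain ⟨r₁, hr₁, u₁, v₁, hu₁, hv₁⟩ := CSA.exists_inner_away (α : A →ₐ[R] A) Q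
  obtain ⟨r₂, hr₂, u₂, v₂, hu₂, hv₂⟩ := CSA.exists_inner_away (α : A →ₐ[R] A) Q₂
  obtain ⟨u, hu, hgood⟩ : ∃ u ∈ CSA.twist (α : A →ₐ[R] A),
      (∃ (y : A) (r : R), r ∉ Q ∧ y * u = algebraMap R A r) ∧ ∃ (y : A) (r : R), r ∉ Q₂ ∧ y * u = algebraMap R A r := by
    by_cases heq : Q₂ = Q
    · exact ⟨u₁, hu₁, ⟨v₁, r₁, hr₁, hv₁⟩, ⟨v₁, r₁, heq ▸ hr₁, hv₁⟩⟩
    have hQ2p : Q₂.comap (algebraMap S R) = Q.comap (algebraMap S R) := by
      ext s; simp [Q₂, RInvLib.lam_algebraMap hS]
    have inc : ∀ J J' : Ideal R, [J'.IsPrime] → J.IsPrime → J.comap (algebraMap S R) = J'.comap (algebraMap S R) → J ≠ J' →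
        ∃ c, c ∈ J' ∧ c ∉ J := by
      intro J J' _ hJ hc hne
      by_contra hall
      push Not at hall
      refine hne (le_antisymm (a := J) ?_ fun x hx => hall x hx)
      by_contra hnle
      exact (Ideal.comap_lt_comap_of_integral_mem_sdiff (fun x hx => hall x hx)
        (Set.not_subset.1 hnle).choose_spec (Algebra.IsIntegral.isIntegral _)).ne hc.symm
    obtain ⟨c₁, hc₁, hc₁'⟩ := inc Q Q₂ hQ hQ2p.symm (Ne.symm heq)
    obtain ⟨c₂, hc₂, hc₂'⟩ := inc Q₂ Q inferInstance hQ2p heq
    refine ⟨c₁ • u₁ + c₂ • u₂, add_mem (Submodule.smul_mem _ _ hu₁) (Submodule.smul_mem _ _ hu₂), ?_, ?_⟩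
    · obtain ⟨y, r, hr, hy⟩ := exists_mul_eq_of_sub_mem (A := A) (Q := Q) (x := v₁ * (c₁ • u₁ + c₂ • u₂))
        (a := c₁ * r₁) (fun h => (Ideal.IsPrime.mem_or_mem hQ h).elim hc₁' hr₁) (by
          rw [mul_add, mul_smul_comm, mul_smul_comm, hv₁, map_mul, ← Algebra.smul_def, add_sub_cancel_left]
          exact Submodule.smul_mem_smul hc₂ trivial)
      exact ⟨y * v₁, r, hr, by rw [mul_assoc, hy]⟩
    · obtain ⟨y, r, hr, hy⟩ := exists_mul_eq_of_sub_mem (A := A) (Q := Q₂) (x := v₂ * (c₁ • u₁ + c₂ • u₂))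
        (a := c₂ * r₂) (fun h => (Ideal.IsPrime.mem_or_mem inferInstance h).elim hc₂' hr₂) (by
          rw [mul_add, mul_smul_comm, mul_smul_comm, hv₂, map_mul, ← Algebra.smul_def, add_sub_cancel_right]
          exact Submodule.smul_mem_smul hc₁ trivial)
      exact ⟨y * v₂, r, hr, by rw [mul_assoc, hy]⟩
  let I : Ideal R := Submodule.comap (Algebra.linearMap R A) (LinearMap.range (LinearMap.mulRight R u))
  have hI : ¬ I.comap (algebraMap S R) ≤ p := by
    intro hle
    obtain ⟨Q', hIQ', hQ', hQ'p⟩ := Ideal.exists_ideal_over_prime_of_isIntegral p I hle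
    haveI := hQ'
    rcases prime_eq_or_eq_comap hlam hS Q Q' (hQ'p.trans hQp.symm) with rfl | rfl
    · obtain ⟨y, r, hr, hy⟩ := hgood.1
      exact hr (hIQ' ⟨y, hy⟩)
    · obtain ⟨y, r, hr, hy⟩ := hgood.2
      exact hr (hIQ' ⟨y, hy⟩)
  obtain ⟨f, hfI, hf⟩ := SetLike.not_le_iff_exists.1 hI
  obtain ⟨v, hv⟩ := hfI
  replace hv : v * u = algebraMap S A f := by
    rw [IsScalarTower.algebraMap_apply S R A f]; exact hv
  have htw : ∀ a, u * a = α a * u := CSA.mem_twist.1 hu
  exact ⟨f, hf, u, v, α.symm v, hv, by rw [htw, AlgEquiv.apply_symm_apply, hv], htw⟩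

end Groth.Agent.AzInvLib
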