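import Groth.Agent.AzInvLib.HullSetting
import Groth.Agent.AzInvLib.FormsClassify
import Groth.Agent.AzInvLib.Descend
import Groth.Agent.AzInvLib.InnerLocal
import Mathlib

/-!
# Involutions at the strict henselization: orthogonal and symplectic
-/

set_option autoImplicit false
set_option linter.style.haveILetI false

universe u v w w'

open TensorProduct Matrix

namespace Groth.Agent.AzInvLib

variable {S : Type u} {R : Type v} [CommRing S] [CommRing R] [Algebra S R] {lam : R ≃ₐ[S] R}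
  (hlam : ∀ r, lam (lam r) = r) (hfix : RInv.IsFixedRing S R lam.toRingEquiv)
variable {A : Type w} [Ring A] [Algebra S A] [Algebra R A] [IsScalarTower S R A]
variable {A' : Type w'} [Ring A'] [Algebra S A'] [Algebra R A'] [IsScalarTower S R A']
variable {ι : Type} [Fintype ι] [DecidableEq ι] {T : Type u} [CommRing T] [Algebra S T]

variable (T ι) in
/-- `M(R) → M(T ⊗ R)`. -/
noncomputable abbrev incM : Matrix ι ι R →ₐ[S] Matrix ι ι (T ⊗[S] R) :=
  (Algebra.TensorProduct.includeRight : R →ₐ[S] T ⊗[S] R).mapMatrix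

theorem incM_lamTr (W : Matrix ι ι R) : sTr (sig lam T) (incM ι T W) = incM ι T (AzInv.lamTr lam W) := by
  ext i j; simp

theorem kappa_bc_transpose (x : T ⊗[S] Matrix ι ι R) :
    kappa R T ι ((AzInv.LamInv.transpose lam ι hlam).bc S lam T x) = sTr (sig lam T) (kappa R T ι x) := by
  induction x using TensorProduct.induction_on with
  | zero => ext i j; simp
  | add a b ha hb => ext i j; simp only [map_add, ha, hb, Matrix.add_apply, Matrix.transpose_apply, Matrix.map_apply]
  | tmul c M => ext i j; simp [kappa_tmul]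

theorem kappa_one_tmul (M : Matrix ι ι R) : kappa R T ι ((1 : T) ⊗ₜ[S] M) = incM ι T M := by
  ext i j; simp [kappa_tmul]

theorem kappa_bc_conj (w : (Matrix ι ι R)ˣ) (e : R)
    (hw : AzInv.LamInv.transpose lam ι hlam (↑w : Matrix ι ι R) = e • (↑w : Matrix ι ι R)) (he : lam e * e = 1)
    (x : T ⊗[S] Matrix ι ι R) :
    kappa R T ι (((AzInv.LamInv.transpose lam ι hlam).conj w e hw he).bc S lam T x) =
      incM ι T ↑w * sTr (sig lam T) (kappa R T ι x) * incM ι T ↑w⁻¹ := by
  have e1 : ∀ y, ((AzInv.LamInv.transpose lam ι hlam).conj w e hw he).bc S lam T y =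
      ((1 : T) ⊗ₜ[S] (↑w : Matrix ι ι R)) * (AzInv.LamInv.transpose lam ι hlam).bc S lam T y *
        ((1 : T) ⊗ₜ[S] (↑w⁻¹ : Matrix ι ι R)) := fun y => by
    induction y using TensorProduct.induction_on with
    | zero => simp
    | add a b ha hb => simp only [map_add, ha, hb, mul_add, add_mul]
    | tmul c M => simp
  rw [e1, map_mul, map_mul, kappa_bc_transpose, kappa_one_tmul, kappa_one_tmul]

omit [IsScalarTower S R A] in
theorem bc_mul [IsScalarTower S R A] (t : AzInv.LamInv R A lam) (x y : T ⊗[S] A) :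
    t.bc S lam T (x * y) = t.bc S lam T y * t.bc S lam T x := by
  induction x using TensorProduct.induction_on with
  | zero => simp
  | add a b ha hb => simp only [add_mul, map_add, ha, hb, mul_add]
  | tmul c a =>
    induction y using TensorProduct.induction_on with
    | zero => simp
    | add a' b' ha' hb' => simp only [mul_add, map_add, ha', hb', add_mul]
    | tmul c' a' => simp [AzInv.LamInv.map_mul, mul_comm]

/-- A self map of matrices commuting with the scalars from `T` and `R` is linear over `T ⊗ R`. -/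
theorem map_scalar (γ : Matrix ι ι (T ⊗[S] R) →ₐ[T] Matrix ι ι (T ⊗[S] R))
    (h : ∀ r : R, γ (Matrix.scalar ι ((1 : T) ⊗ₜ[S] r)) = Matrix.scalar ι ((1 : T) ⊗ₜ[S] r)) (z : T ⊗[S] R) :
    γ (Matrix.scalar ι z) = Matrix.scalar ι z := by
  induction z using TensorProduct.induction_on with
  | zero => simp
  | add a b ha hb => simp only [map_add, ha, hb]
  | tmul c r =>
    have e : Matrix.scalar ι (c ⊗ₜ[S] r) =
        algebraMap T (Matrix ι ι (T ⊗[S] R)) c * Matrix.scalar ι ((1 : T) ⊗ₜ[S] r) := by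
      rw [Matrix.algebraMap_eq_diagonal, Matrix.scalar_apply, Matrix.scalar_apply, Matrix.diagonal_mul_diagonal]
      congr 1
      funext i
      simp
    rw [e, map_mul, AlgHom.commutes, h]

variable (p : PrimeSpectrum S)

/-- Conjugation by an invertible matrix as a compatible isomorphism. -/
theorem exists_conjIso (G Gi : Matrix ι ι (T ⊗[S] R)) (h1 : G * Gi = 1) (h2 : Gi * G = 1) :
    ∃ φ : LIso S R T (Matrix ι ι R) (Matrix ι ι R), ∀ x, kappa R T ι (φ.f x) = G * kappa R T ι x * Gi := by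
  let u : (Matrix ι ι (T ⊗[S] R))ˣ := ⟨G, Gi, h1, h2⟩
  let c : Matrix ι ι (T ⊗[S] R) ≃ₐ[T] Matrix ι ι (T ⊗[S] R) :=
    AlgEquiv.ofAlgHom
      { toFun := fun M => G * M * Gi
        map_one' := by rw [mul_one, h1]
        map_mul' := fun a b => by
          rw [show G * a * Gi * (G * b * Gi) = G * a * (Gi * G) * (b * Gi) by simp only [mul_assoc], h2, mul_one]
          simp only [mul_assoc]
        map_zero' := by simp
        map_add' := fun a b => by rw [mul_add, add_mul]
        commutes' := fun t => by rw [← Algebra.commutes, mul_assoc, h1, mul_one] }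
      { toFun := fun M => Gi * M * G
        map_one' := by rw [mul_one, h2]
        map_mul' := fun a b => by
          rw [show Gi * a * G * (Gi * b * G) = Gi * a * (G * Gi) * (b * G) by simp only [mul_assoc], h1, mul_one]
          simp only [mul_assoc]
        map_zero' := by simp
        map_add' := fun a b => by rw [mul_add, add_mul]
        commutes' := fun t => by rw [← Algebra.commutes, mul_assoc, h2, mul_one] }
      (AlgHom.ext fun M => by
        show G * (Gi * M * G) * Gi = M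
        rw [← mul_assoc, ← mul_assoc, h1, one_mul, mul_assoc, h1, mul_one])
      (AlgHom.ext fun M => by
        show Gi * (G * M * Gi) * G = M
        rw [← mul_assoc, ← mul_assoc, h2, one_mul, mul_assoc, h2, mul_one])
  refine ⟨⟨((kappa R T ι).trans c).trans (kappa R T ι).symm, fun r x => ?_⟩, fun x => by simp [c]⟩
  apply (kappa R T ι).injective
  simp only [AlgEquiv.trans_apply, map_mul, AlgEquiv.apply_symm_apply]
  congr 1
  rw [kappa_algebraMap, Algebra.algebraMap_self, RingHom.id_apply]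
  show G * Matrix.scalar ι _ * Gi = _
  rw [(Matrix.scalar_commute _ (Commute.all _) G).symm.eq, mul_assoc, h1, mul_one]

variable (R) in
include hfix in
theorem nontrivial_base : Nontrivial (SH p ⊗[S] R) :=
  (isFixedRing_sig hfix (SH p)).1.nontrivial

/-- `t` is orthogonal at `p`. -/
def Orth (hlam : ∀ r, lam (lam r) = r) (p : PrimeSpectrum S) (n : ℕ) (t : AzInv.LamInv R A lam) : Prop :=
  ∃ φ : LIso S R (SH p) A (Matrix (Fin n) (Fin n) R), φ.Intertwines t (AzInv.LamInv.transpose lam (Fin n) hlam)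

variable (R) in
/-- The standard symplectic unit. -/
def stdJ (n : ℕ) (hn : Even n) : (Matrix (Fin n) (Fin n) R)ˣ :=
  ⟨skewStd R n, -skewStd R n, by rw [mul_neg, skewStd_sq n hn, neg_neg], by rw [neg_mul, skewStd_sq n hn, neg_neg]⟩

theorem transpose_stdJ (n : ℕ) (hn : Even n) :
    AzInv.LamInv.transpose lam (Fin n) hlam (↑(stdJ R n hn) : Matrix (Fin n) (Fin n) R) =
      (-1 : R) • (↑(stdJ R n hn) : Matrix (Fin n) (Fin n) R) := by
  rw [neg_one_smul]
  exact sTr_skewStd (σ := lam.toRingEquiv) n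

theorem neg_one_mul_neg_one (lam : R ≃ₐ[S] R) : lam (-1) * (-1 : R) = 1 := by simp

/-- The standard symplectic involution. -/
def sympInv (hlam : ∀ r, lam (lam r) = r) (n : ℕ) (hn : Even n) : AzInv.LamInv R (Matrix (Fin n) (Fin n) R) lam :=
  (AzInv.LamInv.transpose lam (Fin n) hlam).conj (stdJ R n hn) (-1) (transpose_stdJ hlam n hn) (neg_one_mul_neg_one lam)

/-- `t` is symplectic at `p`. -/
def Symp (hlam : ∀ r, lam (lam r) = r) (p : PrimeSpectrum S) (n : ℕ) (t : AzInv.LamInv R A lam) : Prop :=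
  ∃ (hn : Even n) (φ : LIso S R (SH p) A (Matrix (Fin n) (Fin n) R)), φ.Intertwines t (sympInv hlam n hn)

theorem map_skewStd {B C : Type*} [CommRing B] [CommRing C] (f : B →+* C) :
    ∀ n : ℕ, (skewStd B n).map f = skewStd C n
  | 0 => Matrix.ext fun i => i.elim0
  | 1 => by ext i j; simp [skewStd]
  | n + 2 => by
    have ih : ∀ a b, f (skewStd B n a b) = skewStd C n a b := fun a b => congrFun (congrFun (map_skewStd f n) a) b
    ext i j
    refine Fin.cases ?_ (fun i' => ?_) i <;> refine Fin.cases ?_ (fun j' => ?_) j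
    · simp [skewStd, bord2]
    · refine Fin.cases ?_ (fun j'' => ?_) j' <;> simp [skewStd, bord2, cases_one]
    · refine Fin.cases ?_ (fun i'' => ?_) i' <;> simp [skewStd, bord2, cases_one]
    · refine Fin.cases ?_ (fun i'' => ?_) i' <;> refine Fin.cases ?_ (fun j'' => ?_) j' <;>
        simp [skewStd, bord2, cases_one, ih]

include hlam hfix in
/-- Classification at `p`. -/
theorem orth_or_symp
    (hsq : ∀ (S₁ : Type u) [CommRing S₁] [Algebra S S₁] [Algebra.Etale S S₁] (x : S₁ˣ),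
      ∃ (S₂ : Type u) (_ : CommRing S₂) (_ : Algebra S₁ S₂) (_ : Algebra.Etale S₁ S₂)
        (_ : Module.FaithfullyFlat S₁ S₂) (y : S₂), y * y = algebraMap S₁ S₂ ↑x)
    {n : ℕ} (hn : 0 < n) (hcond : IsUnit (2 : S) ∨ ¬ IsRam lam p ∨ Odd n)
    (φ : LIso S R (SH p) A (Matrix (Fin n) (Fin n) R)) (t : AzInv.LamInv R A lam) :
    (Orth hlam p n t) ∨ (IsRam lam p ∧ IsUnit (2 : SH p ⊗[S] R) ∧ ¬ Odd n ∧ Symp hlam p n t) := by
  let H := SH p
  let σ := sig lam H
  have hσ : Function.Involutive σ := sig_involutive hlam H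
  have hF : RInv.IsFixedRing H (H ⊗[S] R) σ := isFixedRing_sig hfix H
  haveI : NeZero n := ⟨hn.ne'⟩
  haveI := nontrivial_base R hfix p
  let κ := kappa (S := S) R H (Fin n)
  let e0 : H ⊗[S] A ≃ₐ[H] Matrix (Fin n) (Fin n) (H ⊗[S] R) := φ.f.trans κ
  let β : Matrix (Fin n) (Fin n) (H ⊗[S] R) →ₗ[H] Matrix (Fin n) (Fin n) (H ⊗[S] R) :=
    e0.toLinearMap ∘ₗ t.bc S lam H ∘ₗ e0.symm.toLinearMap
  have hβmul : ∀ x y, β (x * y) = β y * β x := fun x y => by
    show e0 (t.bc S lam H (e0.symm (x * y))) = e0 (t.bc S lam H (e0.symm y)) * e0 (t.bc S lam H (e0.symm x))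
    rw [map_mul, bc_mul, map_mul]
  have hβinv : ∀ x, β (β x) = x := fun x => by
    show e0 (t.bc S lam H (e0.symm (e0 (t.bc S lam H (e0.symm x))))) = x
    rw [e0.symm_apply_apply]
    have hbb : ∀ z, t.bc S lam H (t.bc S lam H z) = z := fun z => by
      induction z using TensorProduct.induction_on with
      | zero => simp
      | add a b ha hb => simp only [map_add, ha, hb]
      | tmul c a => simp
    rw [hbb, e0.apply_symm_apply]
  have hscal : ∀ r : R, e0 ((1 : H) ⊗ₜ[S] algebraMap R A r) = Matrix.scalar (Fin n) ((1 : H) ⊗ₜ[S] r) := fun r => by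
    have h1 := φ.compat r 1
    rw [mul_one, map_one, mul_one] at h1
    show κ (φ.f _) = _
    rw [h1, kappa_algebraMap, Algebra.algebraMap_self, RingHom.id_apply]
  have hβscal : ∀ r : R, β (Matrix.scalar (Fin n) ((1 : H) ⊗ₜ[S] r)) = Matrix.scalar (Fin n) ((1 : H) ⊗ₜ[S] lam r) := fun r => by
    show e0 (t.bc S lam H (e0.symm _)) = _
    rw [← hscal, e0.symm_apply_apply, AzInv.LamInv.bc_tmul, AzInv.LamInv.map_algebraMap, hscal]
  have hσlin : ∀ (c : H) (M : Matrix (Fin n) (Fin n) (H ⊗[S] R)), sTr σ (c • M) = c • sTr σ M := fun c M => by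
    ext i j
    show σ (c • M j i) = c • σ (M j i)
    rw [Algebra.smul_def, map_mul, RInvLib.lam_algebraMap hF, Algebra.smul_def]
  let α₀ : Matrix (Fin n) (Fin n) (H ⊗[S] R) →ₐ[H] Matrix (Fin n) (Fin n) (H ⊗[S] R) :=
    AlgHom.ofLinearMap
      { toFun := fun M => β (sTr σ M)
        map_add' := fun a b => by
          rw [show sTr σ (a + b) = sTr σ a + sTr σ b by ext i j; simp, map_add]
        map_smul' := fun c M => by rw [hσlin, map_smul, RingHom.id_apply] }
      (by
        show β (sTr σ 1) = 1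
        rw [sTr_one]
        show e0 (t.bc S lam H (e0.symm 1)) = 1
        rw [map_one, Algebra.TensorProduct.one_def, AzInv.LamInv.bc_tmul, AzInv.LamInv.map_one,
          ← Algebra.TensorProduct.one_def, map_one])
      (fun x y => by
        show β (sTr σ (x * y)) = _
        rw [sTr_mul, hβmul]
        rfl)
  have hα₀ : ∀ z, α₀ (Matrix.scalar (Fin n) z) = Matrix.scalar (Fin n) z := map_scalar α₀ fun r => by
    show β (sTr σ (Matrix.scalar (Fin n) ((1 : H) ⊗ₜ[S] r))) = _
    rw [show sTr σ (Matrix.scalar (Fin n) ((1 : H) ⊗ₜ[S] r)) = Matrix.scalar (Fin n) ((1 : H) ⊗ₜ[S] lam r) by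
      ext i j; by_cases h : i = j <;> simp [σ, Matrix.diagonal_apply, h, Ne.symm], hβscal, hlam]
  let α : Matrix (Fin n) (Fin n) (H ⊗[S] R) ≃ₐ[H ⊗[S] R] Matrix (Fin n) (Fin n) (H ⊗[S] R) :=
    AlgEquiv.ofBijective
      { α₀.toRingHom with
        commutes' := fun z => by
          rw [Matrix.algebraMap_eq_diagonal]
          exact hα₀ z }
      (by
        show Function.Bijective fun M => β (sTr σ M)
        exact ((Function.Involutive.bijective hβinv)).comp
          (Function.Involutive.bijective fun M => sTr_sTr hσ M))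
  have hα : ∀ M, α M = β (sTr σ M) := fun M => rfl
  haveI : IsAzumaya (H ⊗[S] R) (Matrix (Fin n) (Fin n) (H ⊗[S] R)) := IsAzumaya.matrix _ _
  obtain ⟨f, hf, u, v, v', hvu, -, htw⟩ := exists_inner_fixed (lam := σ) hσ hF α (IsLocalRing.maximalIdeal H)
  have hu : IsUnit u := by
    have hfu : IsUnit (algebraMap H (Matrix (Fin n) (Fin n) (H ⊗[S] R)) f) :=
      ((IsLocalRing.notMem_maximalIdeal).1 hf).map _
    rw [← hvu, Matrix.isUnit_iff_isUnit_det, Matrix.det_mul] at hfu
    exact (Matrix.isUnit_iff_isUnit_det u).2 (isUnit_of_mul_isUnit_right hfu)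
  -- the key relation
  have hrel : ∀ X, β X * u = u * sTr σ X := fun X => by
    rw [htw, hα, sTr_sTr hσ]
  obtain ⟨ui, hui⟩ := hu.exists_left_inv
  have hcomm : ∀ M, ui * sTr σ u * M = M * (ui * sTr σ u) := by
    intro M'
    obtain ⟨M, rfl⟩ : ∃ M, M' = sTr σ M := ⟨sTr σ M', (sTr_sTr hσ M').symm⟩
    have h1 := congrArg (sTr σ) (hrel (β M))
    rw [hβinv, sTr_mul, sTr_mul, sTr_sTr hσ] at h1
    have h2 : β M = u * sTr σ M * ui := by
      rw [← hrel, mul_assoc, mul_eq_one_comm.1 hui, mul_one]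
    rw [h2] at h1
    calc ui * sTr σ u * sTr σ M = ui * (u * sTr σ M * ui * sTr σ u) := by rw [mul_assoc, h1]
      _ = ui * u * (sTr σ M * (ui * sTr σ u)) := by simp only [mul_assoc]
      _ = _ := by rw [hui, one_mul]
  obtain ⟨e, he⟩ := Matrix.mem_range_scalar_of_commute_single
    (M := ui * sTr σ u) fun i j _ => (hcomm _).symm
  have hW : sTr σ u = e • u := by
    rw [Matrix.smul_eq_diagonal_mul, ← Matrix.scalar_apply]
    calc sTr σ u = u * (ui * sTr σ u) := by rw [← mul_assoc, mul_eq_one_comm.1 hui, one_mul]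
      _ = u * Matrix.scalar (Fin n) e := by rw [he]
      _ = _ := ((Matrix.scalar_commute e (Commute.all e) u).symm).eq
  have hee : σ e * e = 1 := by
    have h1 := congrArg (sTr σ) hW
    rw [sTr_sTr hσ, show sTr σ (e • u) = σ e • sTr σ u by ext i j; simp, hW, smul_smul] at h1
    have h2 := congrArg (fun M => (ui * M) (0 : Fin n) (0 : Fin n)) h1
    simp only [Matrix.mul_smul, hui, Matrix.smul_apply, Matrix.one_apply_eq, smul_eq_mul, mul_one] at h2
    exact h2.symm
  have hcond' : IsUnit (2 : H ⊗[S] R) ∨ (∃ r, IsUnit (r - σ r)) ∨ Odd n := by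
    rcases hcond with h | h | h
    · refine Or.inl ?_
      have := h.map (algebraMap S (H ⊗[S] R))
      rwa [map_ofNat] at this
    · exact Or.inr (Or.inl ((unit_sub_or_trivial hσ hF).resolve_right fun ht => h ((isRam_iff hlam hfix p).2 ht)))
    · exact Or.inr (Or.inr h)
  have finish : ∀ (W0 : Matrix (Fin n) (Fin n) (H ⊗[S] R)) (W0i : Matrix (Fin n) (Fin n) (H ⊗[S] R)),
      W0 * W0i = 1 → ∀ (G : Matrix (Fin n) (Fin n) (H ⊗[S] R)) (c : H ⊗[S] R), congrW σ G (c • u) = W0 → IsUnit c →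
      ∃ ψ : LIso S R (SH p) A (Matrix (Fin n) (Fin n) R),
        ∀ x, κ (ψ.f (t.bc S lam H x)) = W0 * sTr σ (κ (ψ.f x)) * W0i := by
    intro W0 W0i hW0 G c hG hc
    have hG' : G * (c • u * (sTr σ G * W0i)) = 1 := by
      simp only [congrW] at hG
      rw [← mul_assoc, ← mul_assoc, hG, hW0]
    set Gi := c • u * (sTr σ G * W0i) with hGidef
    have hG'' : Gi * G = 1 := mul_eq_one_comm.1 hG'
    clear_value Gi
    obtain ⟨ψ, hψ⟩ := exists_conjIso (T := H) G Gi hG' hG''
    refine ⟨φ.trans ψ, fun x => ?_⟩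
    show κ (ψ.f (φ.f (t.bc S lam H x))) = W0 * sTr σ (κ (ψ.f (φ.f x))) * W0i
    rw [hψ, hψ]
    have hx : κ (φ.f (t.bc S lam H x)) = u * sTr σ (κ (φ.f x)) * ui := by
      rw [← hrel (κ (φ.f x))]
      rw [mul_assoc, mul_eq_one_comm.1 hui, mul_one]
      show _ = e0 (t.bc S lam H (e0.symm (e0 x)))
      rw [e0.symm_apply_apply]
      rfl
    rw [hx, sTr_mul, sTr_mul]
    have hGiσ : sTr σ G * sTr σ Gi = 1 := by rw [← sTr_mul, hG'', sTr_one]
    calc G * (u * sTr σ (κ (φ.f x)) * ui) * Gi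
        = G * u * sTr σ (κ (φ.f x)) * (ui * (c • u)) * (sTr σ G * W0i) := by rw [hGidef]; simp only [mul_assoc]
      _ = c • (G * u * sTr σ (κ (φ.f x)) * (sTr σ G * W0i)) := by
          rw [Matrix.mul_smul, hui, Matrix.mul_smul, mul_one, Matrix.smul_mul]
      _ = G * (c • u) * (1 * sTr σ (κ (φ.f x))) * (sTr σ G * W0i) := by
          simp only [Matrix.mul_smul, Matrix.smul_mul, one_mul, mul_assoc]
      _ = G * (c • u) * ((sTr σ G * sTr σ Gi) * sTr σ (κ (φ.f x))) * (sTr σ G * W0i) := by rw [hGiσ]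
      _ = _ := by rw [← hG]; simp only [congrW, mul_assoc]; rfl
  rcases classify hσ hF (exists_sqrt_SH hsq p) hcond' u hu e hW hee with ⟨G, c, hG, hc⟩ | ⟨htriv, h2, hev, G, c, hG, hc⟩
  · obtain ⟨ψ, hψ⟩ := finish 1 1 (one_mul 1) G c hG hc
    refine Or.inl ⟨ψ, fun x => κ.injective ?_⟩
    rw [hψ, kappa_bc_transpose]
    simp
    rfl
  · refine Or.inr ⟨(isRam_iff hlam hfix p).2 htriv, h2, Nat.not_odd_iff_even.2 hev, hev, ?_⟩
    obtain ⟨ψ, hψ⟩ := finish (skewStd _ n) (-skewStd _ n) (by rw [mul_neg, skewStd_sq n hev, neg_neg]) G c hG hc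
    refine ⟨ψ, fun x => κ.injective ?_⟩
    rw [hψ, sympInv, kappa_bc_conj]
    have e1 : incM (S := S) (R := R) (Fin n) H ↑(stdJ R n hev) = skewStd _ n := map_skewStd _ n
    have e2 : incM (S := S) (R := R) (Fin n) H ↑(stdJ R n hev)⁻¹ = -skewStd _ n := by
      show incM (Fin n) H (-skewStd R n) = _
      rw [map_neg]
      exact congrArg Neg.neg (map_skewStd _ n)
    rw [e1, e2]

include hlam hfix in
/-- No orthogonal involution is skew-symplectic in the ramified case with `2` invertible. -/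
theorem not_orth_of_skew (hram : IsRam lam p) (h2 : IsUnit (2 : SH p ⊗[S] R)) {n : ℕ} (hn : 0 < n)
    (t : AzInv.LamInv R A lam) (w : (Matrix (Fin n) (Fin n) R)ˣ)
    (hw : AzInv.LamInv.transpose lam (Fin n) hlam (↑w : Matrix (Fin n) (Fin n) R) = (-1 : R) • (↑w : Matrix (Fin n) (Fin n) R))
    (he : lam (-1) * (-1 : R) = 1) (φ : LIso S R (SH p) A (Matrix (Fin n) (Fin n) R))
    (hφ : φ.Intertwines t ((AzInv.LamInv.transpose lam (Fin n) hlam).conj w (-1) hw he)) : ¬ Orth hlam p n t := by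
  rintro ⟨φ', hφ'⟩
  let H := SH p
  let σ := sig lam H
  have hσ : Function.Involutive σ := sig_involutive hlam H
  have hF : RInv.IsFixedRing H (H ⊗[S] R) σ := isFixedRing_sig hfix H
  haveI : NeZero n := ⟨hn.ne'⟩
  haveI := nontrivial_base R hfix p
  have htriv := (isRam_iff hlam hfix p).1 hram
  let ψ := φ'.symm.trans φ
  have hψ : ψ.Intertwines _ _ := hφ'.symm.trans hφ
  let κ := kappa (S := S) R H (Fin n)
  let γ : Matrix (Fin n) (Fin n) (H ⊗[S] R) ≃ₐ[H] Matrix (Fin n) (Fin n) (H ⊗[S] R) := (κ.symm.trans ψ.f).trans κ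
  have hγs : ∀ z, γ.toAlgHom (Matrix.scalar (Fin n) z) = Matrix.scalar (Fin n) z := map_scalar γ.toAlgHom fun r => by
    show κ (ψ.f (κ.symm _)) = _
    have h1 := ψ.compat r 1
    rw [mul_one, map_one, mul_one] at h1
    have e : Matrix.scalar (Fin n) ((1 : H) ⊗ₜ[S] r) = κ ((1 : H) ⊗ₜ[S] algebraMap R _ r) := by
      rw [kappa_algebraMap, Algebra.algebraMap_self, RingHom.id_apply]
    rw [e, κ.symm_apply_apply, h1]
  let α : Matrix (Fin n) (Fin n) (H ⊗[S] R) ≃ₐ[H ⊗[S] R] Matrix (Fin n) (Fin n) (H ⊗[S] R) :=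
    AlgEquiv.ofRingEquiv (f := γ.toRingEquiv) fun z => by rw [Matrix.algebraMap_eq_diagonal]; exact hγs z
  have hint : ∀ M, α (sTr σ M) = incM (Fin n) H ↑w * sTr σ (α M) * incM (Fin n) H ↑w⁻¹ := fun M => by
    show κ (ψ.f (κ.symm (sTr σ M))) = _ * sTr σ (κ (ψ.f (κ.symm M))) * _
    have h1 : sTr σ M = κ ((AzInv.LamInv.transpose lam (Fin n) hlam).bc S lam H (κ.symm M)) := by
      rw [kappa_bc_transpose, κ.apply_symm_apply]
    rw [h1, κ.symm_apply_apply, hψ, kappa_bc_conj]
  haveI : IsAzumaya (H ⊗[S] R) (Matrix (Fin n) (Fin n) (H ⊗[S] R)) := IsAzumaya.matrix _ _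
  obtain ⟨f, hf, u, v, v', hvu, -, htw⟩ := exists_inner_fixed (lam := σ) hσ hF α (IsLocalRing.maximalIdeal H)
  have hu : IsUnit u := by
    have hfu : IsUnit (algebraMap H (Matrix (Fin n) (Fin n) (H ⊗[S] R)) f) :=
      ((IsLocalRing.notMem_maximalIdeal).1 hf).map _
    rw [← hvu, Matrix.isUnit_iff_isUnit_det, Matrix.det_mul] at hfu
    exact (Matrix.isUnit_iff_isUnit_det u).2 (isUnit_of_mul_isUnit_right hfu)
  set W := incM (S := S) (R := R) (Fin n) H ↑w with hWdef
  set Wi := incM (S := S) (R := R) (Fin n) H ↑w⁻¹ with hWidef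
  have hWW : W * Wi = 1 := by rw [hWdef, hWidef, ← map_mul, Units.mul_inv, map_one]
  have hWiW : Wi * W = 1 := mul_eq_one_comm.1 hWW
  have hWt : sTr σ W = -W := by
    rw [hWdef, incM_lamTr, show AzInv.lamTr (⇑lam) (↑w : Matrix (Fin n) (Fin n) R) = -↑w by
      have := hw; rw [neg_one_smul] at this; exact this, map_neg]
  have hcomm : ∀ M, sTr σ u * Wi * u * M = M * (sTr σ u * Wi * u) := by
    intro M
    obtain ⟨X, rfl⟩ : ∃ X, M = sTr σ X := ⟨sTr σ M, (sTr_sTr hσ M).symm⟩
    have h1 : u * sTr σ X = W * sTr σ (α X) * Wi * u := by rw [htw, hint]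
    have h2 : sTr σ (α X * u) = sTr σ (u * X) := by rw [← htw]
    rw [sTr_mul, sTr_mul] at h2
    calc sTr σ u * Wi * u * sTr σ X = sTr σ u * Wi * (u * sTr σ X) := by simp only [mul_assoc]
      _ = sTr σ u * (Wi * W) * (sTr σ (α X) * Wi * u) := by rw [h1]; simp only [mul_assoc]
      _ = sTr σ u * sTr σ (α X) * (Wi * u) := by rw [hWiW, mul_one]; simp only [mul_assoc]
      _ = sTr σ X * (sTr σ u * Wi * u) := by rw [h2]; simp only [mul_assoc]
  obtain ⟨c, hc⟩ := Matrix.mem_range_scalar_of_commute_single (M := sTr σ u * Wi * u) fun i j _ => (hcomm _).symm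
  have hcu : IsUnit c := by
    have h1 : IsUnit (Matrix.scalar (Fin n) c) := hc ▸ ((isUnit_sTr hu).mul (IsUnit.of_mul_eq_one _ hWiW)).mul hu
    rw [Matrix.isUnit_iff_isUnit_det, Matrix.scalar_apply, Matrix.det_diagonal, Finset.prod_const, Finset.card_univ,
      Fintype.card_fin, isUnit_pow_iff hn.ne'] at h1
    exact h1
  have hWit : sTr σ Wi = -Wi := by
    have h1 : sTr σ Wi * sTr σ W = 1 := by rw [← sTr_mul, hWW, sTr_one]
    calc sTr σ Wi = sTr σ Wi * (W * Wi) := by rw [hWW, mul_one]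
      _ = -(sTr σ Wi * sTr σ W * Wi) := by rw [hWt]; simp only [mul_neg, neg_mul, neg_neg, mul_assoc]
      _ = -Wi := by rw [h1, one_mul]
  have hX : sTr σ (sTr σ u * Wi * u) = -(sTr σ u * Wi * u) := by
    rw [sTr_mul, sTr_mul, sTr_sTr hσ, hWit]
    simp [mul_assoc]
  rw [← hc] at hX
  have h00 := congrFun (congrFun hX 0) 0
  simp at h00
  refine not_isUnit_of_mem_jacobson hF ?_ hcu
  refine (Ideal.unit_mul_mem_iff_mem _ h2).1 ?_
  have h3 := (Ring.jacobson (H ⊗[S] R)).neg_mem (htriv c)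
  rw [show σ c = -c from h00] at h3
  convert h3 using 1
  ring

end Groth.Agent.AzInvLib
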