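import Mathlib

/-!
# Finite covers by localizations
-/

set_option autoImplicit false

universe u

namespace Groth.Agent.AzInvLib

/-- A finite product of localizations at elements generating the unit ideal is etale and faithfully flat. -/
theorem faithfullyFlat_pi_away {S : Type u} [CommRing S] {ι : Type} [Fintype ι] (f : ι → S)
    (h : ∀ p : PrimeSpectrum S, ∃ i, f i ∉ p.asIdeal) :
    Algebra.Etale S (Π i, Localization.Away (f i)) ∧ Module.FaithfullyFlat S (Π i, Localization.Away (f i)) := by
  classical
  haveI : ∀ i, Algebra.Etale S (Localization.Away (f i)) := fun i => Algebra.Etale.of_isLocalizationAway (f i)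
  haveI : ∀ i, Module.Flat S (Localization.Away (f i)) := fun i => inferInstance
  haveI : Module.Flat S (Π i, Localization.Away (f i)) :=
    Module.Flat.of_linearEquiv (DirectSum.linearEquivFunOnFintype S ι fun i => Localization.Away (f i)).symm
  refine ⟨inferInstance, Module.FaithfullyFlat.of_comap_surjective fun p => ?_⟩
  obtain ⟨i, hi⟩ := h p
  have hp : p ∈ Set.range (PrimeSpectrum.comap (algebraMap S (Localization.Away (f i)))) := by
    rw [PrimeSpectrum.localization_away_comap_range (Localization.Away (f i)) (f i)]; exact hi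
  obtain ⟨q, rfl⟩ := hp
  exact ⟨PrimeSpectrum.comap (Pi.evalRingHom (fun j => Localization.Away (f j)) i) q, rfl⟩

/-- Finitely many members of a family of elements avoiding each prime already do so. -/
theorem exists_finite_subcover {S : Type u} [CommRing S] {P : S → Prop}
    (h : ∀ p : PrimeSpectrum S, ∃ f, P f ∧ f ∉ p.asIdeal) :
    ∃ (k : ℕ) (f : Fin k → S), (∀ i, P (f i)) ∧ ∀ p : PrimeSpectrum S, ∃ i, f i ∉ p.asIdeal := by
  classical
  choose f hP hf using h
  obtain ⟨t, ht⟩ := CompactSpace.isCompact_univ.elim_finite_subcover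
    (fun p => (PrimeSpectrum.basicOpen (f p) : Set (PrimeSpectrum S)))
    (fun p => (PrimeSpectrum.basicOpen (f p)).isOpen) fun p _ => Set.mem_iUnion.mpr ⟨p, hf p⟩
  refine ⟨t.card, fun i => f (t.equivFin.symm i).1, fun i => hP _, fun p => ?_⟩
  obtain ⟨q, hq, hqp⟩ : ∃ q ∈ t, f q ∉ p.asIdeal := by simpa using ht (Set.mem_univ p)
  exact ⟨t.equivFin ⟨q, hq⟩, by simpa using hqp⟩

end Groth.Agent.AzInvLib
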