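import Groth.Prelude.Def_AzInv
import Groth.Agent.CSA.Azumaya
import Mathlib

/-!
# Semicontinuity of symmetric spans at primes where the involution of the base is trivial
-/

set_option autoImplicit false

universe v w

open TensorProduct

namespace Groth.Agent.AzInvLib

variable {R : Type v} [CommRing R] {A : Type w}

section Semicontinuous

variable [AddCommGroup A] [Module R A] [Module.Finite R A] [Module.Projective R A]

/-- The span of the image of a set in the fibre. -/
noncomputable def fibSpan (W : Set A) (q : PrimeSpectrum R) : Submodule q.asIdeal.ResidueField (q.asIdeal.ResidueField ⊗[R] A) :=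
  Submodule.span _ ((fun a => (1 : q.asIdeal.ResidueField) ⊗ₜ[R] a) '' W)

/-- The dimension of the fibre of a span is lower semicontinuous. -/
theorem exists_le_finrank_fibSpan (W : Set A) (q : PrimeSpectrum R) :
    ∃ f : R, f ∉ q.asIdeal ∧ ∀ q' : PrimeSpectrum R, f ∉ q'.asIdeal →
      Module.finrank q.asIdeal.ResidueField (fibSpan W q) ≤ Module.finrank q'.asIdeal.ResidueField (fibSpan W q') := by
  classical
  obtain ⟨N, x, g, hg⟩ := CSA.exists_dual_basis (R := R) A
  set K := q.asIdeal.ResidueField
  obtain ⟨b, hb, hbspan, hbind⟩ := exists_linearIndependent K ((fun a => (1 : K) ⊗ₜ[R] a) '' W)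
  haveI : Fintype b := (hbind.setFinite).fintype
  set d := Fintype.card b
  have hd : Module.finrank q.asIdeal.ResidueField (fibSpan W q) = d := by
    rw [fibSpan, ← hbspan, finrank_span_set_eq_card hbind, Set.toFinset_card]
  let eb := (Fintype.equivFin b).symm
  have hpick : ∀ j : Fin d, ∃ w ∈ W, (1 : K) ⊗ₜ[R] w = (eb j : K ⊗[R] A) := fun j => hb (eb j).2
  choose w hwW hw using hpick
  have hwind : LinearIndependent K fun j => (1 : K) ⊗ₜ[R] w j := by
    simp only [hw]; exact hbind.comp eb eb.injective
  let M : Matrix (Fin N) (Fin d) R := Matrix.of fun i j => g i (w j)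
  let G : Fin N → (K ⊗[R] A →ₗ[K] K) := fun i =>
    (TensorProduct.AlgebraTensorModule.rid R K K).toLinearMap ∘ₗ (g i).baseChange K
  have hG : ∀ i j, G i ((1 : K) ⊗ₜ[R] w j) = algebraMap R K (M i j) := fun i j => by
    simp [G, M, Algebra.algebraMap_eq_smul_one]
  have hGinj : ∀ z, (∀ i, G i z = 0) → z = 0 := by
    have key : ∀ z : K ⊗[R] A, ∑ i, G i z • ((1 : K) ⊗ₜ[R] x i) = z := fun z => by
      induction z using TensorProduct.induction_on with
      | zero => simp
      | add a b ha hb => simp only [map_add, add_smul, Finset.sum_add_distrib, ha, hb]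
      | tmul c a =>
        calc _ = ∑ i, c ⊗ₜ[R] (g i a • x i) := Finset.sum_congr rfl fun i _ => by
              simp [G, TensorProduct.smul_tmul']
          _ = c ⊗ₜ[R] a := by rw [← TensorProduct.tmul_sum, hg]
    intro z hz
    rw [← key z]; simp [hz]
  set MK := M.map (algebraMap R K)
  have hcol : LinearIndependent K MK.col := by
    refine Fintype.linearIndependent_iff.2 fun c hc => Fintype.linearIndependent_iff.1 hwind c (hGinj _ fun i => ?_)
    have := congrFun hc i
    simpa [MK, Matrix.col, hG, Finset.sum_apply] using this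
  have hrows : Submodule.span K (Set.range MK.row) = ⊤ := by
    apply Submodule.eq_top_of_finrank_eq
    rw [← Matrix.rank_eq_finrank_span_row, Matrix.rank_eq_finrank_span_cols, finrank_span_eq_card hcol,
      Module.finrank_pi]
  obtain ⟨r, hrange, hrspan, hrind⟩ := exists_linearIndependent K (Set.range MK.row)
  haveI : Fintype r := (hrind.setFinite).fintype
  have hr : Fintype.card r = d := by
    have := finrank_span_set_eq_card hrind
    rw [hrspan, hrows, finrank_top, Module.finrank_pi, Fintype.card_fin, Set.toFinset_card] at this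
    exact this.symm
  let er := (Fintype.equivFinOfCardEq hr).symm
  choose s hs using fun j : Fin d => hrange (er j).2
  have hdet : (Matrix.of fun i j => M (s i) j).det ∉ q.asIdeal := by
    rw [← Ideal.algebraMap_residueField_eq_zero, RingHom.map_det]
    apply IsUnit.ne_zero
    rw [← Matrix.isUnit_iff_isUnit_det, ← Matrix.linearIndependent_rows_iff_isUnit]
    have := hrind.comp er er.injective
    have e : ((algebraMap R K).mapMatrix (Matrix.of fun i j => M (s i) j)).row = Subtype.val ∘ er :=
      funext fun i => Eq.trans rfl (hs i)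
    rw [e]
    exact this
  refine ⟨_, hdet, fun q' hq' => ?_⟩
  rw [hd]
  set K' := q'.asIdeal.ResidueField
  have hind : LinearIndependent K' fun j => (1 : K') ⊗ₜ[R] w j := by
    rw [Fintype.linearIndependent_iff]
    intro c hc
    have hu : IsUnit ((Matrix.of fun i j => M (s i) j).map (algebraMap R K')) := by
      rw [Matrix.isUnit_iff_isUnit_det]
      have : algebraMap R K' (Matrix.of fun i j => M (s i) j).det ≠ 0 :=
        fun h => hq' (Ideal.algebraMap_residueField_eq_zero.1 h)
      rw [RingHom.map_det] at this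
      exact isUnit_iff_ne_zero.2 this
    suffices c = 0 by simp [this]
    refine Matrix.mulVec_injective_iff_isUnit.2 hu ?_
    rw [Matrix.mulVec_zero]
    funext i
    have h1 := congrArg ((TensorProduct.AlgebraTensorModule.rid R K' K').toLinearMap ∘ₗ (g (s i)).baseChange K') hc
    simp only [map_sum, map_smul, map_zero] at h1
    simpa [Matrix.mulVec, dotProduct, M, Algebra.algebraMap_eq_smul_one, mul_comm] using h1
  calc d = Fintype.card (Fin d) := (Fintype.card_fin d).symm
    _ = Module.finrank K' (Submodule.span K' (Set.range fun j => (1 : K') ⊗ₜ[R] w j)) :=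
        (finrank_span_eq_card hind).symm
    _ ≤ _ := by
        refine Submodule.finrank_mono (Submodule.span_mono ?_)
        rintro _ ⟨j, rfl⟩
        exact ⟨w j, hwW j, rfl⟩

end Semicontinuous

section Involution

variable [Ring A] [Algebra R A] [Module.Finite R A] [Module.Projective R A] {lam : R → R}

/-- At a prime where the base involution is trivial, the symmetric and skew spans have complementary dimensions. -/
theorem finrank_symm_add_skew (t : AzInv.LamInv R A lam) (h2 : IsUnit (2 : R)) (q : PrimeSpectrum R)
    (hq : ∀ r, lam r - r ∈ q.asIdeal) :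
    Module.finrank q.asIdeal.ResidueField (fibSpan {a : A | t a = a} q) + Module.finrank q.asIdeal.ResidueField (fibSpan {a : A | t a = -a} q) =
      Module.rankAtStalk (R := R) A q := by
  rw [Module.rankAtStalk_eq]
  set K := q.asIdeal.ResidueField
  have hlam : ∀ r, algebraMap R K (lam r) = algebraMap R K r := fun r => by
    rw [← sub_eq_zero, ← map_sub]; exact Ideal.algebraMap_residueField_eq_zero.2 (hq r)
  let φ : A →ₗ[R] K ⊗[R] A :=
    { toFun := fun a => (1 : K) ⊗ₜ[R] t a
      map_add' := fun a b => by simp [TensorProduct.tmul_add]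
      map_smul' := fun r a => by
        show (1 : K) ⊗ₜ[R] t (r • a) = r • ((1 : K) ⊗ₜ[R] t a)
        rw [t.map_smul, TensorProduct.tmul_smul, ← algebraMap_smul K (lam r), hlam, algebraMap_smul] }
  let T : K ⊗[R] A →ₗ[K] K ⊗[R] A := LinearMap.liftBaseChange K φ
  have hT : ∀ a, T ((1 : K) ⊗ₜ[R] a) = (1 : K) ⊗ₜ[R] t a := fun a => by simp [T, φ]
  have h2K : (2 : K) ≠ 0 := by
    have := (h2.map (algebraMap R K)).ne_zero
    rwa [map_ofNat] at this
  have hp : fibSpan {a : A | t a = a} q ≤ LinearMap.ker (T - LinearMap.id) := by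
    refine Submodule.span_le.2 ?_
    rintro _ ⟨a, ha, rfl⟩
    have ha' : t a = a := ha
    simp [hT, ha']
  have hm : fibSpan {a : A | t a = -a} q ≤ LinearMap.ker (T + LinearMap.id) := by
    refine Submodule.span_le.2 ?_
    rintro _ ⟨a, ha, rfl⟩
    have ha' : t a = -a := ha
    simp [hT, ha', TensorProduct.tmul_neg]
  have hdis : fibSpan {a : A | t a = a} q ⊓ fibSpan {a : A | t a = -a} q = ⊥ := by
    refine eq_bot_iff.2 fun z hz => ?_
    have h1 := LinearMap.mem_ker.1 (hp hz.1)
    have h2' := LinearMap.mem_ker.1 (hm hz.2)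
    simp only [LinearMap.sub_apply, LinearMap.add_apply, LinearMap.id_apply] at h1 h2'
    rw [sub_eq_zero.1 h1, ← two_smul K] at h2'
    exact (smul_eq_zero.1 h2').resolve_left h2K
  have hsup : fibSpan {a : A | t a = a} q ⊔ fibSpan {a : A | t a = -a} q = ⊤ := by
    refine eq_top_iff.2 fun z _ => ?_
    induction z using TensorProduct.induction_on with
    | zero => exact zero_mem _
    | add x y hx hy => exact add_mem (hx trivial) (hy trivial)
    | tmul c a =>
      have e : c ⊗ₜ[R] a = (c / 2) • ((1 : K) ⊗ₜ[R] (a + t a)) + (c / 2) • ((1 : K) ⊗ₜ[R] (a - t a)) := by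
        rw [← smul_add, ← TensorProduct.tmul_add, add_add_sub_cancel, TensorProduct.tmul_add, ← two_smul K,
          smul_smul, div_mul_cancel₀ c h2K, TensorProduct.smul_tmul', smul_eq_mul, mul_one]
      rw [e]
      exact Submodule.add_mem_sup
        (Submodule.smul_mem _ _ (Submodule.subset_span ⟨_, by simp [add_comm], rfl⟩))
        (Submodule.smul_mem _ _ (Submodule.subset_span ⟨_, by simp [AzInv.LamInv.map_sub], rfl⟩))
  have := Submodule.finrank_sup_add_finrank_inf_eq (fibSpan {a : A | t a = a} q) (fibSpan {a : A | t a = -a} q)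
  rw [hdis, hsup, finrank_bot, finrank_top, add_zero] at this
  exact this.symm

/-- The dimension of the symmetric span is locally constant on the ramification locus. -/
theorem exists_finrank_symm_eq (t : AzInv.LamInv R A lam) (h2 : IsUnit (2 : R)) (n : ℕ)
    (hrk : ∀ p : PrimeSpectrum R, Module.rankAtStalk (R := R) A p = n) (q : PrimeSpectrum R)
    (hq : ∀ r, lam r - r ∈ q.asIdeal) :
    ∃ f : R, f ∉ q.asIdeal ∧ ∀ q' : PrimeSpectrum R, (∀ r, lam r - r ∈ q'.asIdeal) → f ∉ q'.asIdeal →
      Module.finrank q'.asIdeal.ResidueField (fibSpan {a : A | t a = a} q') = Module.finrank q.asIdeal.ResidueField (fibSpan {a : A | t a = a} q) := by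
  obtain ⟨f, hf, hfle⟩ := exists_le_finrank_fibSpan {a : A | t a = a} q
  obtain ⟨g, hg, hgle⟩ := exists_le_finrank_fibSpan {a : A | t a = -a} q
  refine ⟨f * g, fun h => (Ideal.IsPrime.mem_or_mem inferInstance h).elim hf hg, fun q' hq' hfg => ?_⟩
  have h1 := hfle q' fun h => hfg (Ideal.mul_mem_right _ _ h)
  have h3 := hgle q' fun h => hfg (Ideal.mul_mem_left _ _ h)
  have e := finrank_symm_add_skew t h2 q hq
  have e' := finrank_symm_add_skew t h2 q' hq'
  rw [hrk] at e e'
  omega

end Involution

end Groth.Agent.AzInvLib
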