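import Groth.Agent.AzInvLib.SignLocus
import Groth.Agent.AzInvLib.Sign
import Mathlib

/-!
# The sign of an involution at a ramified prime through the dimension of the symmetric span
-/

set_option autoImplicit false
set_option linter.style.haveILetI false

universe u v w

open TensorProduct Matrix

namespace Groth.Agent.AzInvLib

/-- Matrices with `Xᵀ = e X`. -/
def symMat (L : Type*) [CommRing L] (n : ℕ) (e : L) : Submodule L (Matrix (Fin n) (Fin n) L) where
  carrier := {X | X.transpose = e • X}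
  add_mem' {a b} ha hb := by
    show (a + b).transpose = e • (a + b)
    rw [Matrix.transpose_add, show a.transpose = e • a from ha, show b.transpose = e • b from hb, smul_add]
  zero_mem' := by simp
  smul_mem' c a ha := by
    show (c • a).transpose = e • (c • a)
    rw [Matrix.transpose_smul, show a.transpose = e • a from ha, smul_comm]

theorem finrank_symMat_one (L : Type*) [Field L] (n : ℕ) :
    Module.finrank L (symMat L n 1) = Nat.choose (n + 1) 2 := by
  let e : (Sym2 (Fin n) → L) ≃ₗ[L] symMat L n 1 :=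
    { toFun := fun g => ⟨Matrix.of fun i j => g s(i, j), by
        show Matrix.transpose _ = _
        rw [one_smul]
        ext i j
        simp [Sym2.eq_swap]⟩
      invFun := fun X z => Sym2.lift ⟨fun i j => X.1 i j, fun i j => by
        have h : X.1.transpose = (1 : L) • X.1 := X.2
        rw [one_smul] at h
        exact congrFun (congrFun h j) i⟩ z
      map_add' := fun _ _ => rfl
      map_smul' := fun _ _ => rfl
      left_inv := fun g => funext fun z => Sym2.ind (fun i j => rfl) z
      right_inv := fun X => rfl }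
  rw [← e.finrank_eq, Module.finrank_fintype_fun_eq_card, Sym2.card, Fintype.card_fin]

theorem disjoint_symMat (L : Type*) [Field L] (h2 : (2 : L) ≠ 0) (n : ℕ) :
    symMat L n 1 ⊓ symMat L n (-1) = ⊥ := by
  refine eq_bot_iff.2 fun X ⟨h1, h3⟩ => ?_
  have h4 : (1 : L) • X = (-1 : L) • X := (show X.transpose = _ from h1).symm.trans h3
  rw [one_smul, neg_one_smul, eq_neg_iff_add_eq_zero, ← two_smul L] at h4
  rw [Submodule.mem_bot]
  ext i j
  have h5 : (2 : L) * X i j = 0 := congrFun (congrFun h4 i) j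
  exact (mul_eq_zero.1 h5).resolve_left h2

theorem sup_symMat (L : Type*) [Field L] (h2 : (2 : L) ≠ 0) (n : ℕ) :
    symMat L n 1 ⊔ symMat L n (-1) = ⊤ := by
  refine eq_top_iff.2 fun X _ => ?_
  have e : X = (2 : L)⁻¹ • (X + X.transpose) + (2 : L)⁻¹ • (X - X.transpose) := by
    rw [← smul_add, add_add_sub_cancel, ← two_smul L X, smul_smul, inv_mul_cancel₀ h2, one_smul]
  rw [e]
  refine Submodule.add_mem_sup (Submodule.smul_mem _ _ ?_) (Submodule.smul_mem _ _ ?_)
  · show Matrix.transpose _ = _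
    simp [add_comm]
  · show Matrix.transpose _ = _
    simp

theorem finrank_symMat_neg_ne (L : Type*) [Field L] (h2 : (2 : L) ≠ 0) {n : ℕ} (hn : 0 < n) :
    Module.finrank L (symMat L n (-1)) ≠ Nat.choose (n + 1) 2 := by
  intro h
  have h1 := Submodule.finrank_sup_add_finrank_inf_eq (symMat L n 1) (symMat L n (-1))
  rw [sup_symMat L h2, disjoint_symMat L h2, finrank_bot, finrank_top, finrank_symMat_one, h, add_zero,
    Module.finrank_matrix, Module.finrank_self, Fintype.card_fin] at h1
  have h3 : 2 * Nat.choose (n + 1) 2 = (n + 1) * n := by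
    rw [Nat.choose_two_right, Nat.add_sub_cancel, Nat.two_mul_div_two_of_even]
    exact mul_comm n (n + 1) ▸ Nat.even_mul_succ_self n
  simp only [mul_one] at h1
  nlinarith

variable {S : Type u} {R : Type v} [CommRing S] [CommRing R] [Algebra S R] {lam : R ≃ₐ[S] R}
  (hlam : ∀ r, lam (lam r) = r) (hfix : RInv.IsFixedRing S R lam.toRingEquiv)
variable {A : Type w} [Ring A] [Algebra S A] [Algebra R A] [IsScalarTower S R A]

theorem finrank_span_image_le {K L V X : Type*} [Field K] [Field L] [Algebra K L] [AddCommGroup V] [Module K V]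
    [FiniteDimensional K V] [AddCommGroup X] [Module L X] [FiniteDimensional L X] [Module K X] [IsScalarTower K L X]
    (f : V →ₗ[K] X) : Module.finrank L (Submodule.span L (Set.range f)) ≤ Module.finrank K V := by
  classical
  let b := Module.finBasis K V
  calc Module.finrank L (Submodule.span L (Set.range f))
      ≤ Module.finrank L (Submodule.span L (Set.range fun i => f (b i))) := by
        refine Submodule.finrank_mono (Submodule.span_le.2 ?_)
        rintro _ ⟨v, rfl⟩
        rw [← b.sum_repr v, map_sum]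
        refine Submodule.sum_mem _ fun i _ => ?_
        rw [map_smul, ← algebraMap_smul L (b.repr v i)]
        exact Submodule.smul_mem _ _ (Submodule.subset_span ⟨i, rfl⟩)
    _ ≤ _ := (finrank_range_le_card _).trans (le_of_eq (Fintype.card_fin _))

/-- The linear algebra behind the dimension count. -/
theorem finrank_symMat_eq_of_bounds {L : Type*} [Field L] (h2 : (2 : L) ≠ 0) {n : ℕ} {A : Type*} [AddCommGroup A]
    (t : A → A) (ht : ∀ a b, t (a + b) = t a + t b) (htt : ∀ a, t (t a) = a)
    (ψ : A → Matrix (Fin n) (Fin n) L) (hψ : ∀ a b, ψ (a + b) = ψ a + ψ b)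
    (W Wi : Matrix (Fin n) (Fin n) L) (hWW : W * Wi = 1) (ε : L) (hε : ε = 1 ∨ ε = -1) (hWt : W.transpose = ε • W)
    (hψt : ∀ a, ψ (t a) = W * (ψ a).transpose * Wi)
    (htop : Submodule.span L (Set.range ψ) = ⊤) (dp dm : ℕ)
    (hdp : Module.finrank L (Submodule.span L (ψ '' {a | t a = a})) ≤ dp)
    (hdm : Module.finrank L (Submodule.span L (ψ '' {a | t a = -a})) ≤ dm) (hd : dp + dm = n ^ 2) :
    dp = Module.finrank L (symMat L n ε) := by
  have hWiW : Wi * W = 1 := mul_eq_one_comm.1 hWW
  let f : Matrix (Fin n) (Fin n) L ≃ₗ[L] Matrix (Fin n) (Fin n) L :=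
    LinearEquiv.ofLinear (LinearMap.mulRight L W) (LinearMap.mulRight L Wi)
      (LinearMap.ext fun X => by simp [mul_assoc, hWiW]) (LinearMap.ext fun X => by simp [mul_assoc, hWW])
  have hψneg : ∀ a, ψ (-a) = -ψ a := map_neg (AddMonoidHom.mk' ψ hψ)
  have hfW : ∀ (c : L) a, ψ (t a) = c • ψ a → ψ a * W ∈ symMat L n (ε * c) := by
    intro c a ha
    have h1 : W * (ψ a).transpose = (c • ψ a) * W := by rw [← ha, hψt, mul_assoc, hWiW, mul_one]
    show (ψ a * W).transpose = _
    rw [Matrix.transpose_mul, hWt, Matrix.smul_mul, h1, Matrix.smul_mul, smul_smul]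
  set Fp := Submodule.span L (ψ '' {a | t a = a}) with hFp
  set Fm := Submodule.span L (ψ '' {a | t a = -a}) with hFm
  have hlep : Fp.map f.toLinearMap ≤ symMat L n ε := by
    refine Submodule.map_le_iff_le_comap.2 (Submodule.span_le.2 ?_)
    rintro _ ⟨a, ha, rfl⟩
    have := hfW 1 a (by rw [one_smul, show t a = a from ha])
    rwa [mul_one] at this
  have hlem : Fm.map f.toLinearMap ≤ symMat L n (-ε) := by
    refine Submodule.map_le_iff_le_comap.2 (Submodule.span_le.2 ?_)
    rintro _ ⟨a, ha, rfl⟩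
    have := hfW (-1) a (by rw [show t a = -a from ha, hψneg, neg_one_smul])
    rwa [mul_neg, mul_one] at this
  have htop' : Fp ⊔ Fm = ⊤ := by
    refine eq_top_iff.2 (htop ▸ Submodule.span_le.2 ?_)
    rintro _ ⟨a, rfl⟩
    have h3 : ψ a = (2 : L)⁻¹ • ψ (a + t a) + (2 : L)⁻¹ • ψ (a - t a) := by
      rw [← smul_add, ← hψ, add_add_sub_cancel, hψ, ← two_smul L (ψ a), smul_smul, inv_mul_cancel₀ h2, one_smul]
    rw [h3]
    have hts : t (a + t a) = a + t a := by rw [ht, htt, add_comm]
    have htn : t (a - t a) = -(a - t a) := by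
      have h0 : t (a - t a) + t (t a) = t a := by rw [← ht, sub_add_cancel]
      rw [htt] at h0
      rw [eq_sub_of_add_eq h0, neg_sub]
    exact Submodule.add_mem_sup (Submodule.smul_mem _ _ (Submodule.subset_span ⟨_, hts, rfl⟩))
        (Submodule.smul_mem _ _ (Submodule.subset_span ⟨_, htn, rfl⟩))
  have hnn : Module.finrank L (Matrix (Fin n) (Fin n) L) = n ^ 2 := by
    rw [Module.finrank_matrix, Module.finrank_self, Fintype.card_fin, mul_one, sq]
  have hsum : Module.finrank L (symMat L n ε) + Module.finrank L (symMat L n (-ε)) = n ^ 2 := by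
    have h1 := Submodule.finrank_sup_add_finrank_inf_eq (symMat L n 1) (symMat L n (-1))
    rw [sup_symMat L h2, disjoint_symMat L h2, finrank_bot, finrank_top, add_zero, hnn] at h1
    rcases hε with rfl | rfl
    · exact h1.symm
    · rw [neg_neg]; omega
  have hFle : n ^ 2 ≤ Module.finrank L Fp + Module.finrank L Fm := by
    have h1 := Submodule.finrank_sup_add_finrank_inf_eq Fp Fm
    rw [htop', finrank_top, hnn] at h1
    omega
  have hp1 := (f.finrank_map_eq Fp).symm.trans_le (Submodule.finrank_mono hlep)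
  have hm1 := (f.finrank_map_eq Fm).symm.trans_le (Submodule.finrank_mono hlem)
  omega

/-- Images of `1 ⊗ a` span after a surjective reduction. -/
theorem span_mapMatrix_eq_top {S H RR L A : Type*} [CommRing S] [CommRing H] [Algebra S H] [CommRing RR] [Algebra H RR]
    [CommRing L] [Ring A] [Algebra S A] {n : ℕ} (π : RR →+* L) (hπ : Function.Surjective π)
    (g : H ⊗[S] A ≃ₐ[H] Matrix (Fin n) (Fin n) RR) :
    Submodule.span L (Set.range fun a => π.mapMatrix (g ((1 : H) ⊗ₜ[S] a))) = ⊤ := by
  set T := Submodule.span L (Set.range fun a => π.mapMatrix (g ((1 : H) ⊗ₜ[S] a))) with hT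
  have key : ∀ z, π.mapMatrix (g z) ∈ T := by
    intro z
    induction z using TensorProduct.induction_on with
    | zero => rw [map_zero, map_zero]; exact T.zero_mem
    | add a b ha hb => rw [map_add, map_add]; exact T.add_mem ha hb
    | tmul c a =>
      have h1 : c ⊗ₜ[S] a = c • ((1 : H) ⊗ₜ[S] a) := by rw [TensorProduct.smul_tmul', smul_eq_mul, mul_one]
      have e2 : π.mapMatrix (g (c ⊗ₜ[S] a)) = π (algebraMap H RR c) • π.mapMatrix (g ((1 : H) ⊗ₜ[S] a)) := by
        rw [h1, map_smul]
        ext i j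
        simp only [RingHom.mapMatrix_apply, Matrix.map_apply, Matrix.smul_apply, smul_eq_mul]
        rw [Algebra.smul_def, map_mul]
      rw [e2]
      exact T.smul_mem _ (Submodule.subset_span ⟨a, rfl⟩)
  refine eq_top_iff.2 fun X _ => ?_
  obtain ⟨z, hz⟩ := g.surjective (X.map (Function.surjInv hπ))
  have := key z
  rw [hz] at this
  convert this using 1
  ext i j
  exact (Function.surjInv_eq hπ _).symm

open scoped Classical in
include hlam hfix in
/-- The symmetric span at a ramified prime in a presentation by the transpose twisted by `w`. -/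
theorem finrank_symm_eq (h2 : IsUnit (2 : S)) {n : ℕ} [Module.Finite R A] [Module.Projective R A]
    (hrk : ∀ q : PrimeSpectrum R, Module.rankAtStalk (R := R) A q = n ^ 2) (t : AzInv.LamInv R A lam)
    (q : PrimeSpectrum R) (hq : ∀ r, lam r - r ∈ q.asIdeal) {p : PrimeSpectrum S}
    (hp : q.asIdeal.comap (algebraMap S R) = p.asIdeal) (w : (Matrix (Fin n) (Fin n) R)ˣ) (e : R)
    (hw : AzInv.LamInv.transpose lam (Fin n) hlam (↑w : Matrix (Fin n) (Fin n) R) = e • (↑w : Matrix (Fin n) (Fin n) R))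
    (he : lam e * e = 1) (he1 : e = 1 ∨ e = -1) (φ : LIso S R (SH p) A (Matrix (Fin n) (Fin n) R))
    (hφ : φ.Intertwines t ((AzInv.LamInv.transpose lam (Fin n) hlam).conj w e hw he)) :
    ∃ (L : Type (max u v)) (_ : Field L), (2 : L) ≠ 0 ∧ Module.finrank q.asIdeal.ResidueField (fibSpan {a : A | t a = a} q) =
      Module.finrank L (symMat L n (if e = 1 then 1 else -1)) := by
  classical
  let H := SH p
  have hσ := sig_involutive hlam H
  have hF := isFixedRing_sig hfix H
  haveI : Algebra.IsIntegral H (H ⊗[S] R) := RInvLib.isIntegral_fixed hσ hF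
  let inc : R →ₐ[S] H ⊗[S] R := Algebra.TensorProduct.includeRight
  obtain ⟨M, -, hMp, hMm⟩ := Ideal.exists_ideal_over_prime_of_isIntegral (IsLocalRing.maximalIdeal H)
    (⊥ : Ideal (H ⊗[S] R)) (by rw [← RingHom.ker_eq_comap_bot, (RingHom.injective_iff_ker_eq_bot _).1 hF.1]; exact bot_le)
  haveI := hMp
  haveI hMmax : M.IsMaximal := Ideal.isMaximal_of_isIntegral_of_isMaximal_comap M (by rw [hMm]; infer_instance)
  have hMq : M.comap inc = q.asIdeal := by
    have h1 : (M.comap inc).comap (algebraMap S R) = q.asIdeal.comap (algebraMap S R) := by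
      refine Eq.trans ?_ (((congrArg (Ideal.comap (algebraMap S H)) hMm).trans (comap_maximalIdeal_SH p)).trans hp.symm)
      rw [← Ideal.comap_coe inc, Ideal.comap_comap, Ideal.comap_comap, AlgHom.comp_algebraMap,
        ← IsScalarTower.algebraMap_eq]
    rcases prime_eq_or_eq_comap (lam := lam.toRingEquiv) hlam hfix q.asIdeal (M.comap inc) h1 with h | h
    · exact h
    · rw [h]
      ext r
      show lam r ∈ q.asIdeal ↔ r ∈ q.asIdeal
      exact ⟨fun hr => by simpa using q.asIdeal.sub_mem hr (hq r), fun hr => by simpa using q.asIdeal.add_mem (hq r) hr⟩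
  letI : Field ((H ⊗[S] R) ⧸ M) := Ideal.Quotient.field M
  let π : H ⊗[S] R →+* (H ⊗[S] R) ⧸ M := Ideal.Quotient.mk M
  have hπσ : ∀ z, π (sig lam H z) = π z := fun z => by
    rw [Ideal.Quotient.eq]
    induction z using TensorProduct.induction_on with
    | zero => simp
    | add a b ha hb => rw [map_add, add_sub_add_comm]; exact add_mem ha hb
    | tmul c r =>
      have h1 : (1 : H) ⊗ₜ[S] (lam r - r) ∈ M := by
        have h0 : lam r - r ∈ M.comap inc := by rw [hMq]; exact hq r
        exact h0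
      have := M.mul_mem_left (c ⊗ₜ[S] (1 : R)) h1
      rwa [Algebra.TensorProduct.tmul_mul_tmul, mul_one, one_mul, TensorProduct.tmul_sub, ← sig_tmul (lam := lam)] at this
  have h2L : (2 : (H ⊗[S] R) ⧸ M) ≠ 0 := by
    have h1 := ((isUnit_two_SH (R := R) h2 p).map π).ne_zero
    rwa [map_ofNat] at h1
  refine ⟨(H ⊗[S] R) ⧸ M, inferInstance, h2L, ?_⟩
  -- the residue field of `q` inside
  let φq : R →+* (H ⊗[S] R) ⧸ M := π.comp inc.toRingHom
  have hker : RingHom.ker φq = q.asIdeal := by
    rw [← hMq]; ext r; simp [φq, π, RingHom.mem_ker, Ideal.Quotient.eq_zero_iff_mem]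
  letI : Algebra R ((H ⊗[S] R) ⧸ M) := φq.toAlgebra
  letI : Algebra q.asIdeal.ResidueField ((H ⊗[S] R) ⧸ M) := (Ideal.ResidueField.lift q.asIdeal φq (le_of_eq hker.symm)
    (fun r hr => by
      rw [Submonoid.mem_comap, IsUnit.mem_submonoid_iff, isUnit_iff_ne_zero, Ne, ← RingHom.mem_ker, hker]
      exact hr)).toAlgebra
  haveI : IsScalarTower R q.asIdeal.ResidueField ((H ⊗[S] R) ⧸ M) := IsScalarTower.of_algebraMap_eq fun r => by
    simp [RingHom.algebraMap_toAlgebra]
  let κ := kappa (S := S) R H (Fin n)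
  let ψ : A → Matrix (Fin n) (Fin n) ((H ⊗[S] R) ⧸ M) := fun a => π.mapMatrix (κ (φ.f ((1 : H) ⊗ₜ[S] a)))
  have hψadd : ∀ a b, ψ (a + b) = ψ a + ψ b := fun a b => by simp [ψ, TensorProduct.tmul_add, Matrix.map_add]
  have hψsmul : ∀ (r : R) a, ψ (r • a) = r • ψ a := fun r a => by
    have h1 : (1 : H) ⊗ₜ[S] (r • a) = ((1 : H) ⊗ₜ[S] algebraMap R A r) * ((1 : H) ⊗ₜ[S] a) := by
      simp [Algebra.smul_def]
    show π.mapMatrix (κ (φ.f _)) = _
    rw [h1, φ.compat, map_mul, kappa_algebraMap, Algebra.algebraMap_self, RingHom.id_apply, map_mul]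
    ext i j
    rw [Matrix.smul_apply, Algebra.smul_def, RingHom.mapMatrix_apply, Matrix.scalar_apply, Matrix.diagonal_map (map_zero π),
      Matrix.diagonal_mul]
    rfl
  let Ψ : A →ₗ[R] Matrix (Fin n) (Fin n) ((H ⊗[S] R) ⧸ M) := { toFun := ψ, map_add' := hψadd, map_smul' := hψsmul }
  let Ψk := LinearMap.liftBaseChange q.asIdeal.ResidueField Ψ
  set W := π.mapMatrix (incM (Fin n) H (↑w : Matrix (Fin n) (Fin n) R)) with hW
  set Wi := π.mapMatrix (incM (Fin n) H (↑w⁻¹ : Matrix (Fin n) (Fin n) R)) with hWi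
  set ε : (H ⊗[S] R) ⧸ M := if e = 1 then 1 else -1 with hε
  have hWW : W * Wi = 1 := by rw [hW, hWi, ← map_mul, ← map_mul, Units.mul_inv, map_one, map_one]
  have hWt : W.transpose = ε • W := by
    have h1 : ∀ i j, lam ((↑w : Matrix (Fin n) (Fin n) R) j i) = e * (↑w : Matrix (Fin n) (Fin n) R) i j :=
      fun i j => congrFun (congrFun hw i) j
    ext i j
    have h3 := congrArg φq (h1 i j)
    rw [map_mul, show φq (lam ((↑w : Matrix (Fin n) (Fin n) R) j i)) = φq ((↑w : Matrix (Fin n) (Fin n) R) j i) from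
      (congrArg π (sig_tmul (lam := lam) H 1 _)).symm.trans (hπσ _)] at h3
    show φq ((↑w : Matrix (Fin n) (Fin n) R) j i) = ε * φq ((↑w : Matrix (Fin n) (Fin n) R) i j)
    rw [h3, hε]
    rcases he1 with rfl | rfl
    · simp
    · congr 1
      by_cases h : (-1 : R) = 1
      · rw [if_pos h, h, map_one]
      · rw [if_neg h, map_neg, map_one]
  have hψt : ∀ a, ψ (t a) = W * (ψ a).transpose * Wi := fun a => by
    show π.mapMatrix (κ (φ.f _)) = _
    rw [← AzInv.LamInv.bc_tmul S lam H, hφ, kappa_bc_conj, map_mul, map_mul]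
    congr 2
    ext i j
    exact hπσ _
  have hk : ∀ Wset : Set A, Module.finrank _ (Submodule.span ((H ⊗[S] R) ⧸ M) (ψ '' Wset)) ≤
      Module.finrank q.asIdeal.ResidueField (fibSpan Wset q) := fun Wset => by
    refine le_trans (Submodule.finrank_mono (Submodule.span_mono ?_)) (finrank_span_image_le (Ψk ∘ₗ (fibSpan Wset q).subtype))
    rintro _ ⟨a, ha, rfl⟩
    exact ⟨⟨(1 : q.asIdeal.ResidueField) ⊗ₜ[R] a, Submodule.subset_span ⟨a, ha, rfl⟩⟩, by simp [Ψk, Ψ]⟩
  have hd := finrank_symm_add_skew t (by have := h2.map (algebraMap S R); rwa [map_ofNat] at this) q hq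
  rw [hrk] at hd
  have htop := span_mapMatrix_eq_top (S := S) π Ideal.Quotient.mk_surjective (φ.f.trans κ)
  exact finrank_symMat_eq_of_bounds h2L (fun a => t a) (AzInv.LamInv.map_add t) t.invol' ψ hψadd W Wi hWW ε
    (by rw [hε]; split_ifs <;> simp) hWt hψt htop _ _ (hk {a | t a = a}) (hk {a | t a = -a}) hd

include hlam hfix in
/-- The dimension criterion. -/
theorem finrank_symm_eq_choose_iff (h2 : IsUnit (2 : S)) {n : ℕ} (hn : 0 < n) [Module.Finite R A] [Module.Projective R A]
    (hrk : ∀ q : PrimeSpectrum R, Module.rankAtStalk (R := R) A q = n ^ 2) (t : AzInv.LamInv R A lam)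
    (q : PrimeSpectrum R) (hq : ∀ r, lam r - r ∈ q.asIdeal) {p : PrimeSpectrum S}
    (hp : q.asIdeal.comap (algebraMap S R) = p.asIdeal) (φ : LIso S R (SH p) A (Matrix (Fin n) (Fin n) R)) :
    Module.finrank q.asIdeal.ResidueField (fibSpan {a : A | t a = a} q) = Nat.choose (n + 1) 2 ↔ Orth hlam p n t := by
  rcases orth_or_symp hlam hfix p (hsq_of_isUnit_two h2) hn (Or.inl h2) φ t with ho | ⟨hram, h2', -, hs⟩
  · refine iff_of_true ?_ ho
    obtain ⟨ψ, hψ⟩ := ho
    have hw : AzInv.LamInv.transpose lam (Fin n) hlam (↑(1 : (Matrix (Fin n) (Fin n) R)ˣ) : Matrix (Fin n) (Fin n) R) =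
        (1 : R) • (↑(1 : (Matrix (Fin n) (Fin n) R)ˣ) : Matrix (Fin n) (Fin n) R) := by
      rw [one_smul]; exact sTr_one (σ := lam.toRingEquiv)
    obtain ⟨L, _, h2L, h⟩ := finrank_symm_eq hlam hfix h2 hrk t q hq hp 1 1 hw (by simp) (Or.inl rfl) ψ fun x => by
      refine (hψ x).trans ((kappa R (SH p) (Fin n)).injective ?_)
      rw [kappa_bc_transpose, kappa_bc_conj, inv_one, Units.val_one, map_one, one_mul, mul_one]
    rw [h, if_pos rfl, finrank_symMat_one]
  · refine iff_of_false ?_ (hs.not_orth hlam hfix hn hram h2')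
    obtain ⟨hev, ψ, hψ⟩ := hs
    obtain ⟨L, _, h2L, h⟩ := finrank_symm_eq hlam hfix h2 hrk t q hq hp (stdJ R n hev) (-1) (transpose_stdJ hlam n hev)
      (neg_one_mul_neg_one lam) (Or.inr rfl) ψ hψ
    have h1 : (-1 : R) ≠ 1 := by
      intro h'
      have h3 := (h2.map (algebraMap S R))
      have h20 : (2 : R) = 0 := by rw [← one_add_one_eq_two]; nth_rw 2 [← h']; rw [add_neg_cancel]
      rw [map_ofNat, h20] at h3
      haveI : Nontrivial R := ⟨⟨1, 0, fun h10 => q.isPrime.ne_top ((Ideal.eq_top_iff_one _).2 (h10 ▸ q.asIdeal.zero_mem))⟩⟩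
      exact not_isUnit_zero h3
    rw [h, if_neg h1]
    exact finrank_symMat_neg_ne L h2L hn

end Groth.Agent.AzInvLib
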