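import Groth.Agent.AzInvLib.InnerLocal
import Groth.Agent.HenselLib.Perm
import Mathlib

/-!
# Rings with an involution whose traces and norms come from the base: primes over a prime
-/

set_option autoImplicit false

universe u v

open Polynomial

namespace Groth.Agent.AzInvLib

/-- An involution all of whose traces and norms come from the base ring. -/
structure QuadInv (H : Type u) (T : Type v) [CommRing H] [CommRing T] [Algebra H T] where
  /-- the involution -/
  σ : T →+* T
  trace_mem : ∀ x, x + σ x ∈ (algebraMap H T).range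
  norm_mem : ∀ x, x * σ x ∈ (algebraMap H T).range
  map_algebraMap : ∀ h, σ (algebraMap H T h) = algebraMap H T h

variable {H : Type u} {T : Type v} [CommRing H] [CommRing T] [Algebra H T] (D : QuadInv H T)

include D in
theorem QuadInv.isIntegral : Algebra.IsIntegral H T := by
  refine ⟨fun x => ?_⟩
  obtain ⟨t, ht⟩ := D.trace_mem x
  obtain ⟨n, hn⟩ := D.norm_mem x
  refine ⟨X ^ 2 + (C (-t) * X + C n), monic_X_pow_add (lt_of_le_of_lt degree_linear_le (by norm_num)), ?_⟩
  simp only [eval₂_add, eval₂_X_pow, eval₂_mul, eval₂_C, eval₂_X, eval₂_neg, map_neg, ht, hn]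
  ring

theorem QuadInv.eq_or_eq_comap (Q Q' : Ideal T) [Q.IsPrime] [Q'.IsPrime]
    (h : Q'.comap (algebraMap H T) = Q.comap (algebraMap H T)) : Q' = Q ∨ Q' = Q.comap D.σ := by
  haveI := D.isIntegral
  have hcl : (Q.comap D.σ).comap (algebraMap H T) = Q.comap (algebraMap H T) := by
    ext s; simp [D.map_algebraMap]
  have hsub : (Q' : Set T) ⊆ (Q : Set T) ∪ (Q.comap D.σ : Set T) := by
    intro x hx
    obtain ⟨n, hn⟩ := D.norm_mem x
    have hnp : n ∈ Q.comap (algebraMap H T) := by
      rw [← h, Ideal.mem_comap, hn]; exact Ideal.mul_mem_right _ _ hx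
    rw [Ideal.mem_comap, hn] at hnp
    exact (Ideal.IsPrime.mem_or_mem ‹_› hnp).imp id fun h => h
  have key : ∀ J : Ideal T, J.IsPrime → J.comap (algebraMap H T) = Q'.comap (algebraMap H T) → Q' ≤ J → Q' = J := by
    intro J hJ hc hle
    by_contra hne
    exact (Ideal.comap_lt_comap_of_integral_mem_sdiff hle
      (Set.exists_of_ssubset ((SetLike.coe_ssubset_coe).2 (lt_of_le_of_ne hle hne))).choose_spec
      (Algebra.IsIntegral.isIntegral _)).ne hc.symm
  rcases Ideal.subset_union.1 hsub with h1 | h1
  · exact Or.inl (key Q inferInstance h.symm h1)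
  · exact Or.inr (key _ inferInstance (hcl.trans h.symm) h1)

/-- Integral extensions of henselian pairs, in any universe. -/
theorem henselianRing_of_isIntegral' {A : Type u} [CommRing A] (I : Ideal A) [HenselianRing A I] (B : Type v)
    [CommRing B] [Algebra A B] [Algebra.IsIntegral A B] : HenselianRing B (I.map (algebraMap A B)) := by
  refine HenselLib.henselianRing_of_idempotents _ fun C _ _ hC => ?_
  let : Algebra A C := ((algebraMap B C).comp (algebraMap A B)).toAlgebra
  have : IsScalarTower A B C := .of_algebraMap_eq' rfl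
  have : Algebra.IsIntegral A C := Algebra.IsIntegral.trans B
  rw [Ideal.map_map, ← IsScalarTower.algebraMap_eq]
  exact HenselLib.bijOn_idempotents I C

end Groth.Agent.AzInvLib
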