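import Groth.Agent.AzInvLib.HullTensor
import Groth.Agent.AzInvLib.QuadIntegral
import Groth.Agent.Et18.H0Lift.HullSep
import Groth.Agent.HenselLib.LocalHens
import Mathlib

/-!
# Etale algebras over a ring with involution have sections etale-locally on the fixed ring
-/

set_option autoImplicit false
set_option linter.style.haveILetI false

universe u v

open TensorProduct

namespace Groth.Agent.AzInvLib

open Groth.Agent.HenselLib

variable {S : Type u} {R : Type v} [CommRing S] [CommRing R] [Algebra S R]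

/-- Points of etale algebras in separably closed fields. -/
theorem nonempty_algHom_of_etale {E : Type v} [CommRing E] [Algebra R E] [Algebra.Etale R E]
    {F : Type (max u v)} [Field F] [IsSepClosed F] [Algebra R F]
    (hmem : (⟨RingHom.ker (algebraMap R F), RingHom.ker_isPrime _⟩ : PrimeSpectrum R) ∈
      Set.range (PrimeSpectrum.comap (algebraMap R E))) :
    Nonempty (E →ₐ[R] F) := by
  set Q : Ideal R := RingHom.ker (algebraMap R F) with hQ
  haveI : Q.IsPrime := RingHom.ker_isPrime _
  letI : Algebra Q.ResidueField F := (Ideal.ResidueField.lift Q (algebraMap R F) le_rfl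
    (fun r hr => by simpa [IsUnit.mem_submonoid_iff, hQ] using hr)).toAlgebra
  haveI : IsScalarTower R Q.ResidueField F := IsScalarTower.of_algebraMap_eq fun r => by
    simp [RingHom.algebraMap_toAlgebra]
  haveI := (PrimeSpectrum.nontrivial_iff_mem_rangeComap (⟨Q, inferInstance⟩ : PrimeSpectrum R) (S := E)).2 hmem
  haveI : Nontrivial (F ⊗[R] E) :=
    (Algebra.TensorProduct.cancelBaseChange R Q.ResidueField F F E).symm.toEquiv.nontrivial
  obtain ⟨k, ⟨e⟩⟩ := Algebra.IsFiniteSplit.nonempty_algEquiv_fun F (F ⊗[R] E)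
  rcases k with _ | k
  · exact absurd (show (1 : F ⊗[R] E) = 0 from e.injective (Subsingleton.elim _ _)) one_ne_zero
  exact ⟨(((Pi.evalAlgHom F (fun _ : Fin (k + 1) => F) 0).comp e.toAlgHom).restrictScalars R).comp
    Algebra.TensorProduct.includeRight⟩

variable {lam : R ≃+* R}

/-- The base change of an involution with given fixed ring. -/
theorem nonempty_quadInv (hlam : Function.Involutive lam) (hS : RInv.IsFixedRing S R lam) (H : Type u) [CommRing H]
    [Algebra S H] : Nonempty (QuadInv H (H ⊗[S] R)) := by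
  let l : R →ₐ[S] R := { (lam : R →+* R) with commutes' := fun s => RInvLib.lam_algebraMap hS s }
  let σ : H ⊗[S] R →ₐ[H] H ⊗[S] R := Algebra.TensorProduct.map (AlgHom.id H H) l
  have hσ : ∀ h r, σ (h ⊗ₜ r) = h ⊗ₜ lam r := fun h r => rfl
  have hrange : ∀ (h : H) (r : R), r ∈ (algebraMap S R).range → h ⊗ₜ[S] r ∈ (algebraMap H (H ⊗[S] R)).range := by
    rintro h _ ⟨s, rfl⟩
    refine ⟨s • h, ?_⟩
    rw [Algebra.TensorProduct.algebraMap_apply, Algebra.algebraMap_eq_smul_one (A := R), ← TensorProduct.smul_tmul]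
    rfl
  have htr : ∀ x, x + σ x ∈ (algebraMap H (H ⊗[S] R)).range := by
    intro x
    induction x using TensorProduct.induction_on with
    | zero => simpa using zero_mem _
    | add a b ha hb =>
      have := add_mem ha hb
      rwa [map_add, add_add_add_comm]
    | tmul h r =>
      rw [hσ, ← TensorProduct.tmul_add]
      exact hrange _ _ ((hS.2 _).1 (by rw [map_add, hlam r, add_comm]))
  have hcross : ∀ x y, x * σ y + y * σ x ∈ (algebraMap H (H ⊗[S] R)).range := by
    intro x y
    induction x using TensorProduct.induction_on with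
    | zero => simpa using zero_mem _
    | add a b ha hb =>
      have := add_mem ha hb
      rw [map_add, mul_add, add_mul]
      convert this using 1
      abel
    | tmul h r =>
      induction y using TensorProduct.induction_on with
      | zero => simpa using zero_mem _
      | add a b ha hb =>
        have := add_mem ha hb
        rw [map_add, mul_add, add_mul]
        convert this using 1
        abel
      | tmul h' r' =>
        rw [hσ, hσ, Algebra.TensorProduct.tmul_mul_tmul, Algebra.TensorProduct.tmul_mul_tmul, mul_comm h' h,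
          ← TensorProduct.tmul_add]
        refine hrange _ _ ((hS.2 _).1 ?_)
        simp only [map_add, map_mul, hlam _]
        ring
  have hnorm : ∀ x, x * σ x ∈ (algebraMap H (H ⊗[S] R)).range := by
    intro x
    induction x using TensorProduct.induction_on with
    | zero => simpa using zero_mem _
    | add a b ha hb =>
      have := add_mem (add_mem ha hb) (hcross a b)
      rw [map_add]
      convert this using 1
      ring
    | tmul h r =>
      rw [hσ, Algebra.TensorProduct.tmul_mul_tmul]
      exact hrange _ _ ((hS.2 _).1 (by rw [map_mul, hlam r, mul_comm]))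
  exact ⟨⟨σ.toRingHom, htr, hnorm, fun h => σ.commutes h⟩⟩

/-- An etale algebra over `R` with points above all primes over `p` has a section after an etale extension of `S`
with a point over `p`. -/
theorem exists_etale_section (hlam : Function.Involutive lam) (hS : RInv.IsFixedRing S R lam) (p : Ideal S) [p.IsPrime]
    (E : Type v) [CommRing E] [Algebra R E] [Algebra.Etale R E]
    (hsurj : ∀ Q : PrimeSpectrum R, Q.asIdeal.comap (algebraMap S R) = p →
      Q ∈ Set.range (PrimeSpectrum.comap (algebraMap R E))) :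
    ∃ (S' : Type u) (_ : CommRing S') (_ : Algebra S S') (_ : Algebra.Etale S S') (P : Ideal S') (τ : E →+* S' ⊗[S] R),
      P.IsPrime ∧ P.comap (algebraMap S S') = p ∧
      ∀ r, τ (algebraMap R E r) = (1 : S') ⊗ₜ[S] r := by
  classical
  let K := AlgebraicClosure p.ResidueField
  let H := Hull S K
  haveI := henselianLocalRing_hull (R := S) (K := K)
  haveI := Et18.H0Lift.isSepClosed_residueField_hull S K
  set m := IsLocalRing.maximalIdeal H
  have hmp : m.comap (algebraMap S H) = p := by
    rw [show m = RingHom.ker (hullPt S K) from maximalIdeal_hull]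
    ext s
    rw [Ideal.mem_comap, RingHom.mem_ker, AlgHom.commutes, IsScalarTower.algebraMap_apply S p.ResidueField K,
      map_eq_zero, Ideal.algebraMap_residueField_eq_zero]
  obtain ⟨D⟩ := nonempty_quadInv hlam hS H
  haveI := D.isIntegral
  have hinj : RingHom.ker (algebraMap H (H ⊗[S] R)) ≤ m := by
    rw [(RingHom.injective_iff_ker_eq_bot _).1 ?_]
    · exact bot_le
    intro a b hab
    have := Module.Flat.lTensor_preserves_injective_linearMap (M := H) (Algebra.linearMap S R) hS.1
    have e : ∀ c : H, algebraMap H (H ⊗[S] R) c = (Algebra.linearMap S R).lTensor H (c ⊗ₜ (1 : S)) := fun c => by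
      simp
    rw [e, e] at hab
    simpa using congrArg (TensorProduct.rid S H) (this hab)
  haveI : HenselianRing H m := henselianRing_maximalIdeal H
  haveI := henselianRing_of_isIntegral' m (H ⊗[S] R)
  haveI := henselianRing_radical (m.map (algebraMap H (H ⊗[S] R)))
  set J := (m.map (algebraMap H (H ⊗[S] R))).radical
  letI : Algebra R (H ⊗[S] R) := (Algebra.TensorProduct.includeRight : R →ₐ[S] H ⊗[S] R).toRingHom.toAlgebra
  have halg : ∀ r : R, algebraMap R (H ⊗[S] R) r = (1 : H) ⊗ₜ[S] r := fun r => rfl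
  obtain ⟨M, -, hM, hMm⟩ := Ideal.exists_ideal_over_prime_of_isIntegral m (⊥ : Ideal (H ⊗[S] R)) hinj
  haveI := hM
  set M₂ := M.comap D.σ
  have hM2m : M₂.comap (algebraMap H (H ⊗[S] R)) = m := by
    rw [← hMm]; ext h; rw [Ideal.mem_comap, Ideal.mem_comap, Ideal.mem_comap, D.map_algebraMap]
  have hpt : ∀ N : Ideal (H ⊗[S] R), N.IsPrime → N.comap (algebraMap H _) = m →
      N.IsMaximal ∧ Nonempty (E →ₐ[R] (H ⊗[S] R) ⧸ N) := by
    intro N hN hNm
    haveI := hN
    haveI hNmax : N.IsMaximal := Ideal.isMaximal_of_isIntegral_of_isMaximal_comap N (by rw [hNm]; infer_instance)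
    refine ⟨hNmax, ?_⟩
    letI := Ideal.Quotient.field N
    haveI : N.LiesOver m := ⟨hNm.symm⟩
    letI : Field (H ⧸ m) := Ideal.Quotient.field m
    haveI : IsSepClosed (H ⧸ m) := ‹IsSepClosed (IsLocalRing.ResidueField H)›
    haveI : Algebra.IsAlgebraic (H ⧸ m) ((H ⊗[S] R) ⧸ N) := Algebra.IsIntegral.isAlgebraic
    haveI : IsSepClosed ((H ⊗[S] R) ⧸ N) := Algebra.IsAlgebraic.isSepClosed (F := H ⧸ m) (E := (H ⊗[S] R) ⧸ N)
    refine nonempty_algHom_of_etale (hsurj _ ?_)
    ext s
    refine Iff.trans ?_ (Iff.of_eq (congrArg (s ∈ ·) hmp))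
    rw [Ideal.mem_comap, RingHom.mem_ker, IsScalarTower.algebraMap_apply R (H ⊗[S] R) ((H ⊗[S] R) ⧸ N),
      Ideal.Quotient.algebraMap_eq, Ideal.Quotient.eq_zero_iff_mem, halg, Ideal.mem_comap, ← hNm,
      Ideal.mem_comap, Algebra.TensorProduct.algebraMap_apply, Algebra.algebraMap_eq_smul_one (A := R),
      ← TensorProduct.smul_tmul, ← Algebra.algebraMap_eq_smul_one]
    rfl
  obtain ⟨hMmax, ⟨σ₁⟩⟩ := hpt M hM hMm
  obtain ⟨hM2max, ⟨σ₂⟩⟩ := hpt M₂ inferInstance hM2m
  have hJ : M ⊓ M₂ ≤ J := by
    rw [show J = sInf {N : Ideal (H ⊗[S] R) | m.map (algebraMap H (H ⊗[S] R)) ≤ N ∧ N.IsPrime} from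
      Ideal.radical_eq_sInf _]
    refine le_sInf fun N hN => ?_
    haveI := hN.2
    have hNm : N.comap (algebraMap H (H ⊗[S] R)) = M.comap (algebraMap H (H ⊗[S] R)) := by
      rw [hMm]
      exact ((IsLocalRing.maximalIdeal.isMaximal H).eq_of_le (Ideal.comap_ne_top _ hN.2.ne_top)
        (Ideal.map_le_iff_le_comap.1 hN.1)).symm
    rcases D.eq_or_eq_comap M N hNm with rfl | rfl
    · exact inf_le_left
    · exact inf_le_right
  obtain ⟨σ⟩ : Nonempty (E →ₐ[R] (H ⊗[S] R) ⧸ J) := by
    by_cases heq : M = M₂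
    · exact ⟨(Ideal.Quotient.factorₐ R (show M ≤ J from le_trans (le_inf le_rfl heq.le) hJ)).comp σ₁⟩
    · have hcop : IsCoprime M M₂ := Ideal.isCoprime_iff_sup_eq.2 (hMmax.coprime_of_ne hM2max heq)
      let e := Ideal.quotientInfEquivQuotientProd M M₂ hcop
      let ea : ((H ⊗[S] R) ⧸ (M ⊓ M₂)) ≃ₐ[R] ((H ⊗[S] R) ⧸ M) × ((H ⊗[S] R) ⧸ M₂) :=
        AlgEquiv.ofRingEquiv (f := e) fun r => Prod.ext rfl rfl
      exact ⟨((Ideal.Quotient.factorₐ R hJ).comp ea.symm.toAlgHom).comp (σ₁.prod σ₂)⟩
  let T := H ⊗[S] R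
  obtain ⟨τT, -⟩ := exists_lift_of_etale J (B := T ⊗[R] E)
    (Algebra.TensorProduct.lift (Algebra.ofId T (T ⧸ J)) σ fun _ _ => Commute.all _ _)
  let τ : E →ₐ[R] T := (τT.restrictScalars R).comp Algebra.TensorProduct.includeRight
  obtain ⟨k, f, hf, hfg⟩ := Algebra.FinitePresentation.out (R := R) (A := E)
  obtain ⟨G, hG⟩ := hfg
  obtain ⟨P, y, hy⟩ := exists_stage_finite (K := K) R fun i => τ (f (MvPolynomial.X i))
  let ev : MvPolynomial (Fin k) R →+* P.Ring ⊗[S] R :=
    MvPolynomial.eval₂Hom (Algebra.TensorProduct.includeRight : R →ₐ[S] P.Ring ⊗[S] R).toRingHom y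
  have hev : (stageMap R P).toRingHom.comp ev = τ.toRingHom.comp f.toRingHom := by
    refine MvPolynomial.ringHom_ext (fun r => ?_) (fun i => ?_)
    · show stageMap R P (ev (MvPolynomial.C r)) = τ (f (MvPolynomial.C r))
      rw [MvPolynomial.eval₂Hom_C, ← MvPolynomial.algebraMap_eq, AlgHom.commutes, AlgHom.commutes, halg]
      simp [stageMap]
    · show stageMap R P (ev (MvPolynomial.X i)) = τ (f (MvPolynomial.X i))
      rw [MvPolynomial.eval₂Hom_X', hy]
  obtain ⟨Q, g, hg⟩ := exists_transMap_eq_zero_finset R G ev fun a ha => by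
    have h := RingHom.congr_fun hev a
    have hfa : f a = 0 := by
      have : a ∈ RingHom.ker f.toRingHom := hG ▸ Ideal.subset_span ha
      exact this
    simpa [hfa] using h
  let ψ : MvPolynomial (Fin k) R →+* Q.Ring ⊗[S] R :=
    MvPolynomial.eval₂Hom (Algebra.TensorProduct.includeRight : R →ₐ[S] Q.Ring ⊗[S] R).toRingHom fun i => transMap R g (y i)
  have hψ : ∀ a, ψ a = transMap R g (ev a) := fun a => by
    induction a using MvPolynomial.induction_on with
    | C r => simp [ψ, ev, transMap]
    | add a b ha hb => rw [map_add, map_add, map_add, ha, hb]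
    | mul_X a i ha => simp only [map_mul, ha]; simp [ψ, ev]
  have hker : ∀ a, f a = 0 → ψ a = 0 := fun a ha => by
    have ha' : a ∈ Ideal.span (G : Set (MvPolynomial (Fin k) R)) := by
      have h : a ∈ RingHom.ker f.toRingHom := ha
      rwa [← hG] at h
    clear ha
    induction ha' using Submodule.span_induction with
    | mem a ha => exact (hψ a).trans (hg a ha)
    | zero => exact map_zero ψ
    | add a b _ _ ha hb => rw [map_add, ha, hb, add_zero]
    | smul c a _ ha => refine (map_mul ψ c a).trans ((congrArg (ψ c * ·) ha).trans ?_); exact MulZeroClass.mul_zero (ψ c)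
  have hcongr : ∀ a b, f a = f b → ψ a = ψ b := fun a b hab => by
    have h := hker (a - b) (by rw [map_sub, hab, sub_self])
    have h' : ψ a = ψ b + ψ (a - b) := by rw [← map_add, add_sub_cancel]
    rw [h'] ; exact (congrArg (ψ b + ·) h).trans (add_zero _)
  let inv := Function.surjInv hf
  have hinv : ∀ e, f (inv e) = e := Function.surjInv_eq hf
  let τQ : E →+* Q.Ring ⊗[S] R :=
    { toFun := fun e => ψ (inv e)
      map_one' := (hcongr _ 1 (by rw [hinv, map_one])).trans (map_one ψ)
      map_mul' := fun a b => (hcongr _ (inv a * inv b) (by rw [hinv, map_mul, hinv, hinv])).trans (map_mul ψ _ _)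
      map_zero' := (hcongr _ 0 (by rw [hinv, map_zero])).trans (map_zero ψ)
      map_add' := fun a b => (hcongr _ (inv a + inv b) (by rw [hinv, map_add, hinv, hinv])).trans (map_add ψ _ _) }
  refine ⟨Q.Ring, inferInstance, inferInstance, inferInstance, RingHom.ker Q.pt.toRingHom,
    τQ, RingHom.ker_isPrime _, ?_, fun r => ?_⟩
  · ext s
    rw [Ideal.mem_comap, RingHom.mem_ker]
    show Q.pt (algebraMap S Q.Ring s) = 0 ↔ _
    rw [AlgHom.commutes, IsScalarTower.algebraMap_apply S p.ResidueField K, map_eq_zero,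
      Ideal.algebraMap_residueField_eq_zero]
  · refine (hcongr _ (MvPolynomial.C r) (by rw [hinv, ← MvPolynomial.algebraMap_eq, f.commutes])).trans ?_
    simp [ψ]

end Groth.Agent.AzInvLib
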