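import Groth.Prelude.Def_AzInv
import Groth.Agent.RInvLib.Basic
import Mathlib

/-!
# Classification of hermitian and skew-hermitian matrices over rings with involution with local fixed ring

`H` is a local ring in which all units are squares and `T` an `H`-algebra with an involution `σ` with fixed ring `H`.
-/

set_option autoImplicit false
set_option linter.style.haveILetI false

universe u v

open Matrix

namespace Groth.Agent.AzInvLib

variable {T : Type v} [CommRing T] {σ : T ≃+* T}

/-- The conjugate transpose. -/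
abbrev sTr (σ : T ≃+* T) {m n : Type*} (M : Matrix m n T) : Matrix n m T := (M.map σ).transpose

theorem sTr_mul {l m n : Type*} [Fintype m] (A : Matrix l m T) (B : Matrix m n T) :
    sTr σ (A * B) = sTr σ B * sTr σ A := by
  rw [sTr, sTr, sTr, Matrix.map_mul, Matrix.transpose_mul]

theorem sTr_sTr (hσ : Function.Involutive σ) {m n : Type*} (A : Matrix m n T) : sTr σ (sTr σ A) = A := by
  ext i j; simp [hσ _]

theorem sTr_one {n : Type*} [DecidableEq n] : sTr σ (1 : Matrix n n T) = 1 := by
  rw [sTr, Matrix.map_one _ (map_zero σ) (map_one σ), Matrix.transpose_one]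

theorem isUnit_sTr {n : Type*} [Fintype n] [DecidableEq n] {A : Matrix n n T} (h : IsUnit A) : IsUnit (sTr σ A) := by
  obtain ⟨B, hB, hB'⟩ := isUnit_iff_exists.1 h
  exact isUnit_iff_exists.2 ⟨sTr σ B, by rw [← sTr_mul, hB', sTr_one], by rw [← sTr_mul, hB, sTr_one]⟩

/-- Congruence. -/
abbrev congrW (σ : T ≃+* T) {m n : Type*} [Fintype n] (G : Matrix m n T) (W : Matrix n n T) : Matrix m m T :=
  G * W * sTr σ G

theorem congrW_congrW {l m n : Type*} [Fintype m] [Fintype n] (G : Matrix l m T) (K : Matrix m n T)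
    (W : Matrix n n T) : congrW σ G (congrW σ K W) = congrW σ (G * K) W := by
  simp only [congrW, sTr_mul, Matrix.mul_assoc]

theorem sTr_congrW (hσ : Function.Involutive σ) {m n : Type*} [Fintype n] (G : Matrix m n T) (W : Matrix n n T)
    (e : T) (hW : sTr σ W = e • W) : sTr σ (congrW σ G W) = e • congrW σ G W := by
  rw [congrW, sTr_mul, sTr_mul, sTr_sTr hσ, hW, Matrix.smul_mul, Matrix.mul_smul, Matrix.mul_assoc]

theorem isUnit_congrW {n : Type*} [Fintype n] [DecidableEq n] {G W : Matrix n n T} (hG : IsUnit G) (hW : IsUnit W) :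
    IsUnit (congrW σ G W) := (hG.mul hW).mul (isUnit_sTr hG)

theorem congrW_row {m n : Type*} [Fintype n] (G : Matrix m n T) (W : Matrix n n T) (a b : m) :
    congrW σ G W a b = ∑ i, ∑ j, G a i * W i j * σ (G b j) := by
  simp only [congrW, Matrix.mul_apply, Finset.sum_mul, Matrix.transpose_apply, Matrix.map_apply]
  exact Finset.sum_comm

/-- `1 ⊕ W`. -/
def bord {n : ℕ} (W : Matrix (Fin n) (Fin n) T) : Matrix (Fin (n + 1)) (Fin (n + 1)) T :=
  Matrix.of fun i j => Fin.cases (Fin.cases 1 (fun _ => 0) j) (fun i' => Fin.cases 0 (fun j' => W i' j') j) i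

theorem bord_mul {n : ℕ} (A B : Matrix (Fin n) (Fin n) T) : bord A * bord B = bord (A * B) := by
  ext i j
  refine Fin.cases ?_ (fun i' => ?_) i <;> refine Fin.cases ?_ (fun j' => ?_) j <;>
    simp [bord, Matrix.mul_apply, Fin.sum_univ_succ]

theorem bord_sTr {n : ℕ} (A : Matrix (Fin n) (Fin n) T) : sTr σ (bord A) = bord (sTr σ A) := by
  ext i j
  refine Fin.cases ?_ (fun i' => ?_) i <;> refine Fin.cases ?_ (fun j' => ?_) j <;> simp [bord]

theorem bord_one {n : ℕ} : bord (1 : Matrix (Fin n) (Fin n) T) = 1 := by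
  ext i j
  refine Fin.cases ?_ (fun i' => ?_) i <;> refine Fin.cases ?_ (fun j' => ?_) j <;>
    simp [bord, Matrix.one_apply, Fin.succ_ne_zero, Ne.symm (Fin.succ_ne_zero _)]

theorem isUnit_of_bord {n : ℕ} {A : Matrix (Fin n) (Fin n) T} (h : IsUnit (bord A)) : IsUnit A := by
  rw [Matrix.isUnit_iff_isUnit_det] at h ⊢
  rw [Matrix.det_succ_row_zero, Fin.sum_univ_succ, Finset.sum_eq_zero (fun i _ => by simp [bord]), add_zero] at h
  rw [show (bord A).submatrix Fin.succ (Fin.succAbove 0) = A from Matrix.ext fun i j => by simp [bord]] at h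
  simpa [bord] using h

theorem congrW_bord {n : ℕ} (G W : Matrix (Fin n) (Fin n) T) :
    congrW σ (bord G) (bord W) = bord (congrW σ G W) := by
  simp only [congrW, bord_sTr, bord_mul]

theorem cases_one {α : Sort*} {n : ℕ} (z : α) (f : Fin (n + 1) → α) :
    Fin.cases (motive := fun _ => α) z f (1 : Fin (n + 2)) = f 0 := rfl

/-- `(0, 1; -1, 0) ⊕ W`. -/
def bord2 {n : ℕ} (W : Matrix (Fin n) (Fin n) T) : Matrix (Fin (n + 2)) (Fin (n + 2)) T :=
  Matrix.of fun i j => Fin.cases (Fin.cases 0 (fun j' => Fin.cases 1 (fun _ => 0) j') j)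
    (fun i' => Fin.cases (Fin.cases (-1) (fun _ => 0) j)
      (fun i'' => Fin.cases 0 (fun j' => Fin.cases 0 (fun j'' => W i'' j'') j') j) i') i

theorem congrW_bord2 {n : ℕ} (G W : Matrix (Fin n) (Fin n) T) :
    congrW σ (bord (bord G)) (bord2 W) = bord2 (congrW σ G W) := by
  ext i j
  refine Fin.cases ?_ (fun i' => ?_) i <;> refine Fin.cases ?_ (fun j' => ?_) j
  · simp [congrW, bord, bord2, cases_one, Matrix.mul_apply, Fin.sum_univ_succ]
  · refine Fin.cases ?_ (fun j'' => ?_) j' <;> simp [congrW, bord, bord2, cases_one, Matrix.mul_apply, Fin.sum_univ_succ]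
  · refine Fin.cases ?_ (fun i'' => ?_) i' <;> simp [congrW, bord, bord2, cases_one, Matrix.mul_apply, Fin.sum_univ_succ]
  · refine Fin.cases ?_ (fun i'' => ?_) i' <;> refine Fin.cases ?_ (fun j'' => ?_) j' <;>
      simp [congrW, bord, bord2, cases_one, Matrix.mul_apply, Fin.sum_univ_succ]

/-- The standard skew matrix: blocks `(0, 1; -1, 0)`. -/
def skewStd (T : Type v) [CommRing T] : (n : ℕ) → Matrix (Fin n) (Fin n) T
  | 0 => 0
  | 1 => 0
  | n + 2 => bord2 (skewStd T n)

theorem sTr_skewStd : ∀ n : ℕ, sTr σ (skewStd T n) = -skewStd T n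
  | 0 => Matrix.ext fun i => i.elim0
  | 1 => by ext i j; simp [skewStd]
  | n + 2 => by
    have ih : ∀ a b, σ (skewStd T n b a) = -skewStd T n a b := fun a b =>
      congrFun (congrFun (sTr_skewStd n) a) b
    ext i j
    refine Fin.cases ?_ (fun i' => ?_) i <;> refine Fin.cases ?_ (fun j' => ?_) j
    · simp [skewStd, bord2, cases_one]
    · refine Fin.cases ?_ (fun j'' => ?_) j' <;> simp [skewStd, bord2, cases_one]
    · refine Fin.cases ?_ (fun i'' => ?_) i' <;> simp [skewStd, bord2, cases_one]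
    · refine Fin.cases ?_ (fun i'' => ?_) i' <;> refine Fin.cases ?_ (fun j'' => ?_) j' <;>
        simp [skewStd, bord2, cases_one, ih]

theorem skewStd_sq : ∀ n : ℕ, Even n → skewStd T n * skewStd T n = -1
  | 0, _ => Matrix.ext fun i => i.elim0
  | 1, h => absurd h (by simp)
  | n + 2, h => by
    have ih : ∀ a b, ∑ c, skewStd T n a c * skewStd T n c b = -(1 : Matrix (Fin n) (Fin n) T) a b := fun a b =>
      congrFun (congrFun (skewStd_sq n (by simpa [Nat.even_add] using h)) a) b
    ext i j
    rw [Matrix.mul_apply, Fin.sum_univ_succ, Fin.sum_univ_succ]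
    refine Fin.cases ?_ (fun i' => ?_) i <;> refine Fin.cases ?_ (fun j' => ?_) j
    · simp [skewStd, bord2, cases_one, Fin.sum_univ_succ]
    · refine Fin.cases ?_ (fun j'' => ?_) j' <;>
        simp [skewStd, bord2, cases_one, Matrix.one_apply, Fin.ext_iff]
    · refine Fin.cases ?_ (fun i'' => ?_) i' <;>
        simp [skewStd, bord2, cases_one, Matrix.one_apply, Fin.ext_iff]
    · refine Fin.cases ?_ (fun i'' => ?_) i' <;> refine Fin.cases ?_ (fun j'' => ?_) j' <;>
        simp [skewStd, bord2, cases_one, Matrix.one_apply, ih, Fin.ext_iff]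

section Local

variable {H : Type u} [CommRing H] [IsLocalRing H] [Algebra H T]
  (hσ : Function.Involutive σ) (hfix : RInv.IsFixedRing H T σ) (hsqrt : ∀ x : Hˣ, ∃ y : H, y * y = x)

include hσ hfix in
/-- A fixed unit of `T` is a unit of `H`. -/
theorem exists_unit_of_fixed {a : T} (ha : σ a = a) (hu : IsUnit a) : ∃ s : Hˣ, algebraMap H T s = a := by
  obtain ⟨b, hb⟩ := hu.exists_right_inv
  have hσb : σ b = b := by
    have h1 : a * σ b = 1 := by conv_lhs => rw [← ha]; rw [← map_mul, hb, map_one]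
    calc σ b = σ b * (a * b) := by rw [hb, mul_one]
      _ = b := by rw [← mul_assoc, mul_comm (σ b) a, h1, one_mul]
  obtain ⟨s, hs⟩ := (hfix.2 a).1 ha
  obtain ⟨t, ht⟩ := (hfix.2 b).1 hσb
  exact ⟨⟨s, t, hfix.1 (by rw [map_mul, hs, ht, hb, map_one]), hfix.1 (by rw [map_mul, hs, ht, mul_comm, hb, map_one])⟩, hs⟩

include hσ hfix hsqrt in
theorem exists_sqrt {a : T} (ha : σ a = a) (hu : IsUnit a) : ∃ y : T, σ y = y ∧ IsUnit y ∧ y * y = a := by
  obtain ⟨s, hs⟩ := exists_unit_of_fixed hσ hfix ha hu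
  obtain ⟨y, hy⟩ := hsqrt s
  refine ⟨algebraMap H T y, RInvLib.lam_algebraMap hfix y, ?_, by rw [← map_mul, hy, hs]⟩
  exact (isUnit_of_mul_isUnit_left (hy ▸ s.isUnit : IsUnit (y * y))).map _

include hσ hfix in
/-- Fixed elements are units or lie in the Jacobson radical. -/
theorem isUnit_or_mem_jacobson {a : T} (ha : σ a = a) : IsUnit a ∨ a ∈ Ring.jacobson T := by
  obtain ⟨s, rfl⟩ := (hfix.2 a).1 ha
  by_cases hs : IsUnit s
  · exact Or.inl (hs.map _)
  · refine Or.inr (RInvLib.mem_jacobson_iff.2 fun M hM => ?_)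
    haveI := hM
    exact Ideal.mem_comap.1 ((RInvLib.comap_maximal hσ hfix M).symm ▸ (IsLocalRing.mem_maximalIdeal s).2 hs)

include hσ hfix in
/-- If the residual involution is trivial, or `2` is a unit, or not: detecting a unit value of a vector with a
coordinate `1`. -/
theorem exists_special (hcase : (∃ r : T, IsUnit (r - σ r)) ∨ IsUnit (2 : T) ∨ ∀ r : T, σ r - r ∈ Ring.jacobson T)
    {n : ℕ} (W : Matrix (Fin n) (Fin n) T) (hW : sTr σ W = W) (v : Fin n → T)
    (hv : IsUnit (∑ i, ∑ j, v i * W i j * σ (v j))) :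
    ∃ (x : Fin n → T) (k : Fin n), x k = 1 ∧ IsUnit (∑ i, ∑ j, x i * W i j * σ (x j)) := by
  classical
  have hent : ∀ i j, σ (W i j) = W j i := fun i j => congrFun (congrFun hW j) i
  by_cases hd : ∃ i, IsUnit (W i i)
  · obtain ⟨i, hi⟩ := hd
    refine ⟨Pi.single i 1, i, by simp, ?_⟩
    simpa [Pi.single_apply, apply_ite σ] using hi
  push Not at hd
  have hdJ : ∀ i, W i i ∈ Ring.jacobson T := fun i => (isUnit_or_mem_jacobson hσ hfix (hent i i)).resolve_left (hd i)
  suffices h : ∃ i j, i ≠ j ∧ ∃ y : T, σ y * W i j + y * σ (W i j) ∉ Ring.jacobson T by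
    obtain ⟨i, j, hij, y, hy⟩ := h
    refine ⟨Pi.single i 1 + Pi.single j y, i, by simp [hij], ?_⟩
    have e : ∑ a, ∑ b, (Pi.single i 1 + Pi.single j y : Fin n → T) a * W a b *
        σ ((Pi.single i 1 + Pi.single j y : Fin n → T) b) =
        W i i + (σ y * W i j + y * σ (W i j)) + y * W j j * σ y := by
      simp only [Pi.add_apply, map_add, add_mul, mul_add, Finset.sum_add_distrib]
      simp [Pi.single_apply, apply_ite σ, hent]
      ring
    rw [e]
    have hfx : σ (W i i + (σ y * W i j + y * σ (W i j)) + y * W j j * σ y) =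
        W i i + (σ y * W i j + y * σ (W i j)) + y * W j j * σ y := by
      simp only [map_add, map_mul, hσ _, hent]
      ring
    refine (isUnit_or_mem_jacobson hσ hfix hfx).resolve_right fun hJ => hy ?_
    have := (Ring.jacobson T).sub_mem ((Ring.jacobson T).sub_mem hJ (hdJ i))
      ((Ring.jacobson T).mul_mem_right (σ y) ((Ring.jacobson T).mul_mem_left y (hdJ j)))
    convert this using 1
    ring
  by_contra hall
  push Not at hall
  haveI : Nontrivial T := nontrivial_of_ne (1 : T) 0 fun h1 =>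
    one_ne_zero (α := H) (hfix.1 (by rw [map_one, map_zero, h1]))
  obtain ⟨M, hM⟩ : ∃ M : Ideal T, M.IsMaximal := Ideal.exists_maximal T
  haveI := hM
  refine hM.ne_top (Ideal.eq_top_of_isUnit_mem _ (RInvLib.mem_jacobson_iff.1 ?_ M hM) hv)
  rcases hcase with ⟨r, hr⟩ | h2 | htriv
  · refine Ideal.sum_mem _ fun i _ => Ideal.sum_mem _ fun j _ => Ideal.mul_mem_right _ _ (Ideal.mul_mem_left _ _ ?_)
    rcases eq_or_ne i j with rfl | hij
    · exact hdJ i
    · have h1 := hall i j hij 1
      have h2 := hall i j hij (σ r)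
      rw [map_one, one_mul, one_mul] at h1
      rw [hσ] at h2
      refine (Ideal.unit_mul_mem_iff_mem _ hr).1 ?_
      have := (Ring.jacobson T).sub_mem h2 ((Ring.jacobson T).mul_mem_left (σ r) h1)
      convert this using 1
      ring
  · -- polarisation by scalars
    have hsw : ∑ i, ∑ j, v i * W i j * σ (v j) = ∑ i, ∑ j, σ (v i) * σ (W i j) * v j := by
      rw [Finset.sum_comm]
      refine Finset.sum_congr rfl fun i _ => Finset.sum_congr rfl fun j _ => ?_
      rw [hent]; ring
    refine (Ideal.unit_mul_mem_iff_mem _ h2).1 ?_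
    rw [two_mul]
    nth_rewrite 2 [hsw]
    rw [← Finset.sum_add_distrib]
    refine Ideal.sum_mem _ fun i _ => ?_
    rw [← Finset.sum_add_distrib]
    refine Ideal.sum_mem _ fun j _ => ?_
    rcases eq_or_ne i j with rfl | hij
    · rw [hent]
      exact add_mem (Ideal.mul_mem_right _ _ (Ideal.mul_mem_left _ _ (hdJ i)))
        (Ideal.mul_mem_right _ _ (Ideal.mul_mem_left _ _ (hdJ i)))
    · have h1 := hall i j hij (σ (v i) * v j)
      convert h1 using 1
      simp only [map_mul, hσ _]
      ring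
  · have hkey : ∑ i, ∑ j, v i * W i j * σ (v j) - ∑ i, ∑ j, v i * v j * W i j ∈ Ring.jacobson T := by
      rw [← Finset.sum_sub_distrib]
      refine Ideal.sum_mem _ fun i _ => ?_
      rw [← Finset.sum_sub_distrib]
      refine Ideal.sum_mem _ fun j _ => ?_
      have := (Ring.jacobson T).mul_mem_left (v i * W i j) (htriv (v j))
      convert this using 1
      ring
    have hsum : ∑ i, ∑ j, v i * v j * W i j ∈ Ring.jacobson T := by
      rw [← Ideal.Quotient.eq_zero_iff_mem, ← Fintype.sum_prod_type', map_sum]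
      refine Finset.sum_involution (fun p _ => (p.2, p.1)) (fun p _ => ?_) (fun p _ hp hpp => hp ?_)
        (fun _ _ => Finset.mem_univ _) (fun _ _ => rfl)
      · rw [← map_add, Ideal.Quotient.eq_zero_iff_mem]
        rcases eq_or_ne p.1 p.2 with h | h
        · rw [h]; exact add_mem (Ideal.mul_mem_left _ _ (hdJ _)) (Ideal.mul_mem_left _ _ (hdJ _))
        · have h1 := hall p.1 p.2 h 1
          rw [map_one, one_mul, one_mul, hent] at h1
          have := (Ring.jacobson T).mul_mem_left (v p.1 * v p.2) h1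
          convert this using 1
          ring
      · have h : p.1 = p.2 := (congrArg Prod.snd hpp)
        rw [Ideal.Quotient.eq_zero_iff_mem, h]
        exact Ideal.mul_mem_left _ _ (hdJ _)
    have := add_mem hkey hsum
    convert this using 1
    ring

end Local

end Groth.Agent.AzInvLib
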