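import Groth.Agent.AzInvLib.Forms

/-!
# Normal forms of hermitian and skew-hermitian matrices
-/

set_option autoImplicit false
set_option linter.style.haveILetI false

universe u v

open Matrix

namespace Groth.Agent.AzInvLib

variable {T : Type v} [CommRing T] {σ : T ≃+* T}

/-- The value of the sesquilinear form of `W`. -/
def val (σ : T ≃+* T) {n : Type*} [Fintype n] (W : Matrix n n T) (x y : n → T) : T := x ⬝ᵥ (W *ᵥ (σ ∘ y))

theorem val_eq_sum {n : Type*} [Fintype n] (W : Matrix n n T) (x y : n → T) :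
    val σ W x y = ∑ i, ∑ j, x i * W i j * σ (y j) := by
  simp [val, dotProduct, Matrix.mulVec, Finset.mul_sum, mul_assoc]

theorem val_congrW {m n : Type*} [Fintype m] [Fintype n] (G : Matrix m n T) (W : Matrix n n T) (c d : m → T) :
    val σ (congrW σ G W) c d = val σ W (c ᵥ* G) (d ᵥ* G) := by
  have e : sTr σ G *ᵥ (σ ∘ d) = σ ∘ (d ᵥ* G) := by
    funext i
    simp [Matrix.mulVec, Matrix.vecMul, dotProduct, map_sum, mul_comm]
  rw [val, val, congrW, ← Matrix.mulVec_mulVec, ← Matrix.mulVec_mulVec, Matrix.dotProduct_mulVec, e]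

theorem congrW_eq_val {m n : Type*} [Fintype n] (G : Matrix m n T) (W : Matrix n n T) (a b : m) :
    congrW σ G W a b = val σ W (G a) (G b) := by rw [congrW_row, val_eq_sum]

theorem val_single {n : Type*} [Fintype n] [DecidableEq n] (W : Matrix n n T) (i j : n) :
    val σ W (Pi.single i 1) (Pi.single j 1) = W i j := by
  simp [val_eq_sum, Pi.single_apply, apply_ite σ]

theorem isUnit_updateRow {n : Type*} [Fintype n] [DecidableEq n] (k : n) (x : n → T) (hk : IsUnit (x k)) :
    IsUnit ((1 : Matrix n n T).updateRow k x) := by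
  rw [Matrix.isUnit_iff_isUnit_det, ← Matrix.cramer_transpose_apply, Matrix.transpose_one, Matrix.cramer_one]
  exact hk

section Local

variable {H : Type u} [CommRing H] [IsLocalRing H] [Algebra H T]
  (hσ : Function.Involutive σ) (hfix : RInv.IsFixedRing H T σ) (hsqrt : ∀ x : Hˣ, ∃ y : H, y * y = x)

include hfix in
theorem not_isUnit_of_mem_jacobson {a : T} (h : a ∈ Ring.jacobson T) : ¬ IsUnit a := by
  haveI : Nontrivial T := nontrivial_of_ne (1 : T) 0 fun h1 =>
    one_ne_zero (α := H) (hfix.1 (by rw [map_one, map_zero, h1]))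
  obtain ⟨M, hM⟩ := Ideal.exists_maximal T
  exact fun hu => hM.ne_top (Ideal.eq_top_of_isUnit_mem _ (RInvLib.mem_jacobson_iff.1 h M hM) hu)

theorem val_fixed (hσ : Function.Involutive σ) {n : Type*} [Fintype n] {W : Matrix n n T} (hW : sTr σ W = W) (x : n → T) :
    σ (val σ W x x) = val σ W x x := by
  have hent : ∀ i j, σ (W i j) = W j i := fun i j => congrFun (congrFun hW j) i
  simp only [val_eq_sum, map_sum, map_mul, hσ _, hent]
  rw [Finset.sum_comm]
  exact Finset.sum_congr rfl fun i _ => Finset.sum_congr rfl fun j _ => by ring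

include hσ hfix hsqrt in
/-- Splitting off a vector with unit value and a unit coordinate. -/
theorem exists_split {n : ℕ} (W : Matrix (Fin (n + 1)) (Fin (n + 1)) T) (hW : sTr σ W = W) (hu : IsUnit W)
    (x : Fin (n + 1) → T) (k : Fin (n + 1)) (hk : x k = 1) (hx : IsUnit (val σ W x x)) :
    ∃ (G : Matrix (Fin (n + 1)) (Fin (n + 1)) T) (W' : Matrix (Fin n) (Fin n) T),
      congrW σ G W = bord W' ∧ sTr σ W' = W' ∧ IsUnit W' ∧
        ∀ z, val σ W z x = 0 → IsUnit (val σ W z z) → ∃ c, IsUnit (val σ W' c c) := by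
  classical
  set G₁ := ((1 : Matrix (Fin (n + 1)) (Fin (n + 1)) T).updateRow k x).submatrix (Equiv.swap 0 k) id with hG₁def
  have hG₁ : IsUnit G₁ := by
    rw [hG₁def]
    exact (Matrix.isUnit_submatrix_equiv (e₁ := Equiv.swap 0 k) (e₂ := Equiv.refl _)).2
      (isUnit_updateRow k x (hk ▸ isUnit_one))
  have hrow : G₁ 0 = x := by
    funext l; simp [G₁, Equiv.swap_apply_left]
  set W₁ := congrW σ G₁ W with hW₁def
  have hW₁ : sTr σ W₁ = W₁ := by
    have := sTr_congrW hσ G₁ W 1 (by rw [hW, one_smul])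
    rwa [one_smul] at this
  have h00 : W₁ 0 0 = val σ W x x := by rw [hW₁def, congrW_eq_val, hrow]
  obtain ⟨y, hyσ, hy, hyy⟩ := exists_sqrt hσ hfix hsqrt (val_fixed hσ hW x) hx
  obtain ⟨yi, hyi⟩ := hy.exists_left_inv
  have hyiσ : σ yi = yi := by
    have h1 : σ yi * y = 1 := by rw [← hyσ, ← map_mul, hyi, map_one]
    calc σ yi = σ yi * (yi * y) := by rw [hyi, mul_one]
      _ = yi := by rw [mul_left_comm, h1, mul_one]
  set G₂ : Matrix (Fin (n + 1)) (Fin (n + 1)) T := Matrix.of fun i j =>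
    if i = 0 then (if j = 0 then yi else 0) else (if j = 0 then -(W₁ i 0 * (yi * yi)) else (if i = j then 1 else 0)) with hG₂def
  have hG₂ : IsUnit G₂ := by
    refine IsUnit.of_mul_eq_one (M := Matrix (Fin (n + 1)) (Fin (n + 1)) T) (Matrix.of fun i j =>
      if i = 0 then (if j = 0 then y else 0) else (if j = 0 then W₁ i 0 * (yi * yi) * y else (if i = j then 1 else 0))) ?_
    ext i j
    rw [Matrix.mul_apply, Fin.sum_univ_succ]
    refine Fin.cases ?_ (fun i' => ?_) i <;> refine Fin.cases ?_ (fun j' => ?_) j <;>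
      simp [G₂, Matrix.one_apply, Fin.succ_ne_zero, Ne.symm (Fin.succ_ne_zero _), hyi] <;> ring
  set W₂ := congrW σ G₂ W₁ with hW₂def
  have hW₂ : sTr σ W₂ = W₂ := by
    have := sTr_congrW hσ G₂ W₁ 1 (by rw [hW₁, one_smul])
    rwa [one_smul] at this
  have hone : yi * (yi * (val σ W x x)) = 1 := by
    rw [← hyy]; linear_combination (yi * y + 1) * hyi
  have hcol : ∀ i, W₂ i 0 = if i = 0 then 1 else 0 := by
    intro i
    rw [hW₂def, congrW_row, Fin.sum_univ_succ]
    refine Fin.cases ?_ (fun i' => ?_) i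
    · simp [G₂, Fin.sum_univ_succ, Fin.succ_ne_zero, hyiσ, h00]
      linear_combination hone
    · simp [G₂, Fin.sum_univ_succ, Fin.succ_ne_zero, hyiσ, h00, ite_mul, Fin.succ_inj]
      linear_combination (-(W₁ i'.succ 0) * yi) * hone
  let W' : Matrix (Fin n) (Fin n) T := Matrix.of fun i j => W₂ i.succ j.succ
  have hb : W₂ = bord W' := by
    ext i j
    refine Fin.cases ?_ (fun i' => ?_) i <;> refine Fin.cases ?_ (fun j' => ?_) j
    · simp [bord, hcol]
    · have h1 := congrFun (congrFun hW₂ 0) j'.succ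
      simp only [Matrix.transpose_apply, Matrix.map_apply, hcol, if_neg (Fin.succ_ne_zero j'), map_zero] at h1
      simp [bord, ← h1]
    · simp [bord, hcol, Fin.succ_ne_zero]
    · simp [bord, W']
  have hu₂ : IsUnit W₂ := isUnit_congrW hG₂ (isUnit_congrW hG₁ hu)
  refine ⟨G₂ * G₁, W', by rw [← congrW_congrW, ← hW₁def, ← hW₂def, hb], ?_, isUnit_of_bord (hb ▸ hu₂), fun z hzx hzz => ?_⟩
  · ext i j
    exact congrFun (congrFun hW₂ i.succ) j.succ
  obtain ⟨Gi, hGi⟩ := (hG₂.mul hG₁).exists_left_inv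
  set c := z ᵥ* Gi with hc
  have hz : c ᵥ* (G₂ * G₁) = z := by rw [hc, Matrix.vecMul_vecMul, hGi, Matrix.vecMul_one]
  have hval : ∀ d, val σ W₂ c d = val σ W z (d ᵥ* (G₂ * G₁)) := fun d => by
    rw [hW₂def, hW₁def, congrW_congrW, val_congrW, hz]
  have he0 : (Pi.single 0 1 : Fin (n + 1) → T) ᵥ* (G₂ * G₁) = yi • x := by
    rw [← Matrix.vecMul_vecMul, Matrix.single_one_vecMul, show G₂.row 0 = Pi.single 0 yi from
      funext fun j => by refine Fin.cases ?_ (fun j' => ?_) j <;> simp [G₂, Fin.succ_ne_zero],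
      Matrix.single_vecMul, show G₁.row 0 = x from hrow]
  have hc0 : c 0 = 0 := by
    have h1 := hval (Pi.single 0 1)
    rw [he0] at h1
    have h2 : val σ W₂ c (Pi.single 0 1) = c 0 := by
      simp [val_eq_sum, Pi.single_apply, apply_ite σ, hcol]
    have h3 : val σ W z (yi • x) = 0 := by
      rw [show val σ W z (yi • x) = σ yi * val σ W z x by
        simp only [val_eq_sum, Finset.mul_sum, Pi.smul_apply, smul_eq_mul, map_mul]
        exact Finset.sum_congr rfl fun i _ => Finset.sum_congr rfl fun j _ => by ring, hzx, mul_zero]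
    rw [← h2, h1, h3]
  refine ⟨fun i => c i.succ, ?_⟩
  have : val σ W' (fun i => c i.succ) (fun i => c i.succ) = val σ W₂ c c := by
    simp [val_eq_sum, Fin.sum_univ_succ, hc0, W']
  rw [this, hval, hz]
  exact hzz

include hσ hfix hsqrt in
/-- A hermitian unimodular matrix with a unit value is congruent to the identity. -/
theorem exists_congr_one (hcase : (∃ r : T, IsUnit (r - σ r)) ∨ IsUnit (2 : T) ∨ ∀ r : T, σ r - r ∈ Ring.jacobson T) :
    ∀ (n : ℕ) (W : Matrix (Fin n) (Fin n) T), sTr σ W = W → IsUnit W → (∃ v, IsUnit (val σ W v v)) →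
      ∃ G : Matrix (Fin n) (Fin n) T, congrW σ G W = 1 := by
  intro n
  induction n with
  | zero => exact fun W _ _ _ => ⟨1, Matrix.ext fun i => i.elim0⟩
  | succ n ih =>
    intro W hW hu hv
    obtain ⟨v, hv⟩ := hv
    rw [val_eq_sum] at hv
    obtain ⟨x, k, hk, hx⟩ := exists_special hσ hfix hcase W hW v hv
    rw [← val_eq_sum] at hx
    obtain ⟨G, W', hG, hW', hu', -⟩ := exists_split hσ hfix hsqrt W hW hu x k hk hx
    rcases n with _ | m
    · exact ⟨G, hG.trans (Matrix.ext fun i j => by fin_cases i; fin_cases j; simp [bord])⟩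
    by_cases hv' : ∃ c, IsUnit (val σ W' c c)
    · obtain ⟨G', hG'⟩ := ih W' hW' hu' hv'
      exact ⟨bord G' * G, by rw [← congrW_congrW, hG, congrW_bord, hG', bord_one]⟩
    push Not at hv'
    have hJ : ∀ c, val σ W' c c ∈ Ring.jacobson T :=
      fun c => (isUnit_or_mem_jacobson hσ hfix (val_fixed hσ hW' c)).resolve_left (hv' c)
    have hunit : ∀ c, IsUnit (1 + val σ W' c c) := fun c => by
      refine (isUnit_or_mem_jacobson hσ hfix (by rw [map_add, map_one, val_fixed hσ hW'])).resolve_right fun h => ?_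
      exact not_isUnit_of_mem_jacobson hfix (by simpa using (Ring.jacobson T).sub_mem h (hJ c)) isUnit_one
    obtain ⟨Wi, hWi⟩ := hu'.exists_right_inv
    let u : Fin (m + 1) → T := Pi.single 0 1
    let u' : Fin (m + 1) → T := fun j => σ (Wi j 0)
    have huu' : val σ W' u u' = 1 := by
      have h1 := congrFun (congrFun hWi 0) 0
      rw [Matrix.mul_apply, Matrix.one_apply_eq] at h1
      simp [val_eq_sum, u, u', Pi.single_apply, hσ _, h1]
    have hu'u : val σ W' u' u = 1 := by
      have h1 := congrArg σ huu'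
      have hent : ∀ i j, σ (W' i j) = W' j i := fun i j => congrFun (congrFun hW' j) i
      rw [map_one] at h1
      rw [← h1, val_eq_sum, val_eq_sum]
      simp only [map_sum, map_mul, hσ _, hent]
      rw [Finset.sum_comm]
      exact Finset.sum_congr rfl fun i _ => Finset.sum_congr rfl fun j _ => by ring
    have hvalb : ∀ a b (p q : Fin (m + 1) → T), val σ (bord W') (Fin.cons a p) (Fin.cons b q) = a * σ b + val σ W' p q := by
      intro a b p q
      simp [val_eq_sum, bord, Fin.sum_univ_succ]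
    have hbu : IsUnit (bord W') := by
      refine isUnit_iff_exists.2 ⟨bord Wi, by rw [bord_mul, hWi, bord_one], ?_⟩
      rw [bord_mul, mul_eq_one_comm.1 hWi, bord_one]
    obtain ⟨G', W'', hG', hW'', hu'', hz⟩ := exists_split hσ hfix hsqrt (bord W') (by rw [bord_sTr, hW']) hbu
      (Fin.cons 1 u) 0 rfl (by rw [hvalb, map_one, mul_one]; exact hunit u)
    obtain ⟨G'', hG''⟩ := ih W'' hW'' hu'' (hz (Fin.cons (-1) u')
      (by rw [hvalb, map_one, mul_one, hu'u, neg_add_cancel])
      (by rw [hvalb, map_neg, map_one, neg_mul_neg, mul_one]; exact hunit u'))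
    exact ⟨bord G'' * G' * G, by rw [← congrW_congrW, hG, ← congrW_congrW, hG', congrW_bord, hG'', bord_one]⟩

end Local

end Groth.Agent.AzInvLib
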