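import Groth.Agent.AzInvLib.FormsNormal

/-!
# Forms all whose values are in the radical: even rank and symplectic normal form
-/

set_option autoImplicit false
set_option linter.style.haveILetI false

universe u v

open Matrix

namespace Groth.Agent.AzInvLib

variable {T : Type v} [CommRing T] {σ : T ≃+* T}

/-- `B ⊕ W` for a `2 × 2` block given by its entries. -/
def blk {n : ℕ} (a b c d : T) (W : Matrix (Fin n) (Fin n) T) : Matrix (Fin (n + 2)) (Fin (n + 2)) T :=
  Matrix.of fun i j => Fin.cases (Fin.cases a (fun j' => Fin.cases b (fun _ => 0) j') j)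
    (fun i' => Fin.cases (Fin.cases c (fun j' => Fin.cases d (fun _ => 0) j') j)
      (fun i'' => Fin.cases 0 (fun j' => Fin.cases 0 (fun j'' => W i'' j'') j') j) i') i

theorem bord2_eq_blk {n : ℕ} (W : Matrix (Fin n) (Fin n) T) : bord2 W = blk 0 1 (-1) 0 W := by
  ext i j
  refine Fin.cases ?_ (fun i' => ?_) i <;> refine Fin.cases ?_ (fun j' => ?_) j
  · simp [bord2, blk]
  · refine Fin.cases ?_ (fun j'' => ?_) j' <;> simp [bord2, blk, cases_one]
  · refine Fin.cases ?_ (fun i'' => ?_) i' <;> simp [bord2, blk, cases_one]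
  · refine Fin.cases ?_ (fun i'' => ?_) i' <;> refine Fin.cases ?_ (fun j'' => ?_) j' <;> simp [bord2, blk, cases_one]

theorem congrW_blk {n : ℕ} (p q r s a b c d : T) (G W : Matrix (Fin n) (Fin n) T) :
    congrW σ (blk p q r s G) (blk a b c d W) =
      blk ((p * a + q * c) * σ p + (p * b + q * d) * σ q) ((p * a + q * c) * σ r + (p * b + q * d) * σ s)
        ((r * a + s * c) * σ p + (r * b + s * d) * σ q) ((r * a + s * c) * σ r + (r * b + s * d) * σ s)
        (congrW σ G W) := by
  ext i j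
  refine Fin.cases ?_ (fun i' => ?_) i <;> refine Fin.cases ?_ (fun j' => ?_) j
  · simp [congrW, blk, cases_one, Matrix.mul_apply, Fin.sum_univ_succ]
  · refine Fin.cases ?_ (fun j'' => ?_) j' <;> simp [congrW, blk, cases_one, Matrix.mul_apply, Fin.sum_univ_succ]
  · refine Fin.cases ?_ (fun i'' => ?_) i' <;> simp [congrW, blk, cases_one, Matrix.mul_apply, Fin.sum_univ_succ]
  · refine Fin.cases ?_ (fun i'' => ?_) i' <;> refine Fin.cases ?_ (fun j'' => ?_) j' <;>
      simp [congrW, blk, cases_one, Matrix.mul_apply, Fin.sum_univ_succ]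

theorem blk_mul {n : ℕ} (p q r s a b c d : T) (G W : Matrix (Fin n) (Fin n) T) :
    blk p q r s G * blk a b c d W = blk (p * a + q * c) (p * b + q * d) (r * a + s * c) (r * b + s * d) (G * W) := by
  ext i j
  refine Fin.cases ?_ (fun i' => ?_) i <;> refine Fin.cases ?_ (fun j' => ?_) j
  · simp [blk, cases_one, Matrix.mul_apply, Fin.sum_univ_succ]
  · refine Fin.cases ?_ (fun j'' => ?_) j' <;> simp [blk, cases_one, Matrix.mul_apply, Fin.sum_univ_succ]
  · refine Fin.cases ?_ (fun i'' => ?_) i' <;> simp [blk, cases_one, Matrix.mul_apply, Fin.sum_univ_succ]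
  · refine Fin.cases ?_ (fun i'' => ?_) i' <;> refine Fin.cases ?_ (fun j'' => ?_) j' <;>
      simp [blk, cases_one, Matrix.mul_apply, Fin.sum_univ_succ]

theorem blk_one {n : ℕ} : blk (1 : T) 0 0 1 (1 : Matrix (Fin n) (Fin n) T) = 1 := by
  ext i j
  refine Fin.cases ?_ (fun i' => ?_) i <;> refine Fin.cases ?_ (fun j' => ?_) j
  · simp [blk]
  · refine Fin.cases ?_ (fun j'' => ?_) j' <;> simp [blk, cases_one, Matrix.one_apply, Fin.ext_iff]
  · refine Fin.cases ?_ (fun i'' => ?_) i' <;> simp [blk, cases_one, Matrix.one_apply, Fin.ext_iff]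
  · refine Fin.cases ?_ (fun i'' => ?_) i' <;> refine Fin.cases ?_ (fun j'' => ?_) j' <;>
      simp [blk, cases_one, Matrix.one_apply, Fin.ext_iff]

section Local

variable {H : Type u} [CommRing H] [IsLocalRing H] [Algebra H T]
  (hσ : Function.Involutive σ) (hfix : RInv.IsFixedRing H T σ) (hsqrt : ∀ x : Hˣ, ∃ y : H, y * y = x)
  (htriv : ∀ r : T, σ r - r ∈ Ring.jacobson T)

include hfix in
theorem isUnit_add_mem_jacobson {a j : T} (ha : IsUnit a) (hj : j ∈ Ring.jacobson T) : IsUnit (a + j) := by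
  by_contra h
  obtain ⟨M, hM, hmem⟩ := exists_max_ideal_of_mem_nonunits (show a + j ∈ nonunits T from h)
  haveI := hM
  exact hM.ne_top (Ideal.eq_top_of_isUnit_mem _ (by
    have := M.sub_mem hmem (RInvLib.mem_jacobson_iff.1 hj M hM)
    rwa [add_sub_cancel_right] at this) ha)

include hσ hfix htriv in
theorem isUnit_or_mem {a : T} : IsUnit a ∨ a ∈ Ring.jacobson T := by
  haveI := RInvLib.isLocalRing_of_trivial hσ hfix htriv
  by_cases h : IsUnit a
  · exact Or.inl h
  · exact Or.inr (RInvLib.mem_jacobson_iff.2 fun M hM => by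
      haveI := hM
      rw [IsLocalRing.eq_maximalIdeal hM]
      exact h)

include hσ hfix hsqrt htriv in
/-- An invertible form whose values all lie in the radical has even rank, and the standard normal form if skew
hermitian and `2` is a unit. -/
theorem even_and_exists_congr_skew (e : T) : ∀ (n : ℕ) (W : Matrix (Fin n) (Fin n) T), sTr σ W = e • W → IsUnit W →
    (∀ x, val σ W x x ∈ Ring.jacobson T) →
    Even n ∧ (IsUnit (2 : T) → e = -1 → ∃ G : Matrix (Fin n) (Fin n) T, congrW σ G W = skewStd T n) := by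
  haveI := RInvLib.isLocalRing_of_trivial hσ hfix htriv
  intro n
  induction n using Nat.strong_induction_on with
  | _ n ih =>
    intro W hW hu hval
    have hdiag : ∀ i, W i i ∈ Ring.jacobson T := fun i => val_single (σ := σ) W i i ▸ hval _
    rcases n with _ | _ | m
    · exact ⟨⟨0, rfl⟩, fun _ _ => ⟨1, Matrix.ext fun i => i.elim0⟩⟩
    · exfalso
      rw [Matrix.isUnit_iff_isUnit_det, Matrix.det_fin_one] at hu
      exact not_isUnit_of_mem_jacobson hfix (hdiag 0) hu
    have hent : ∀ i j, σ (W j i) = e * W i j := fun i j => congrFun (congrFun hW i) j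
    -- a unit entry in the first row
    obtain ⟨j₀, hj₀⟩ : ∃ j, IsUnit (W 0 j) := by
      by_contra hall
      push Not at hall
      obtain ⟨Wi, hWi⟩ := hu.exists_right_inv
      have h1 := congrFun (congrFun hWi 0) 0
      rw [Matrix.mul_apply, Matrix.one_apply_eq] at h1
      refine not_isUnit_of_mem_jacobson hfix ?_ (h1 ▸ isUnit_one)
      exact Ideal.sum_mem _ fun j _ => Ideal.mul_mem_right _ _
        ((isUnit_or_mem hσ hfix htriv).resolve_left (hall j))
    have hj0 : j₀ ≠ 0 := fun h => not_isUnit_of_mem_jacobson hfix (hdiag 0) (h ▸ hj₀)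
    obtain ⟨c, hc⟩ := hj₀.exists_left_inv
    have hne1 : ∀ l : Fin m, l.succ.succ ≠ (1 : Fin (m + 2)) := fun l h => by simp [Fin.ext_iff] at h
    set G₁ : Matrix (Fin (m + 2)) (Fin (m + 2)) T :=
      (Matrix.diagonal (Function.update (fun _ => (1 : T)) j₀ (σ c))).submatrix (Equiv.swap 1 j₀) id with hG₁def
    have hG₁ : IsUnit G₁ := by
      rw [hG₁def]
      refine (Matrix.isUnit_submatrix_equiv (e₁ := Equiv.swap 1 j₀) (e₂ := Equiv.refl _)).2 ?_
      rw [Matrix.isUnit_diagonal, Pi.isUnit_iff]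
      intro i
      rcases eq_or_ne i j₀ with rfl | hi
      · rw [Function.update_self]; exact (IsUnit.of_mul_eq_one _ hc).map σ
      · rw [Function.update_of_ne hi]; exact isUnit_one
    have hrow0 : G₁ 0 = Pi.single 0 1 := by
      funext l
      simp [G₁, Equiv.swap_apply_of_ne_of_ne, hj0.symm, Matrix.diagonal_apply, Pi.single_apply, eq_comm]
    have hrow1 : G₁ 1 = Pi.single j₀ (σ c) := by
      funext l
      simp [G₁, Equiv.swap_apply_left, Matrix.diagonal_apply, Pi.single_apply, eq_comm]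
    set W₁ := congrW σ G₁ W with hW₁def
    have hW₁ : sTr σ W₁ = e • W₁ := sTr_congrW hσ G₁ W e hW
    have hu₁ : IsUnit W₁ := isUnit_congrW hG₁ hu
    have hval₁ : ∀ x, val σ W₁ x x ∈ Ring.jacobson T := fun x => by rw [hW₁def, val_congrW]; exact hval _
    have hent₁ : ∀ i j, σ (W₁ j i) = e * W₁ i j := fun i j => congrFun (congrFun hW₁ i) j
    have h01 : W₁ 0 1 = 1 := by
      rw [hW₁def, congrW_eq_val, hrow0, hrow1]
      simp [val_eq_sum, Pi.single_apply, apply_ite σ, hσ _]
      linear_combination hc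
    have h10 : e * W₁ 1 0 = 1 := by rw [← hent₁, h01, map_one]
    have heu : IsUnit e := IsUnit.of_mul_eq_one _ h10
    have hd₁ : ∀ i, W₁ i i ∈ Ring.jacobson T := fun i => val_single (σ := σ) W₁ i i ▸ hval₁ _
    have hD : IsUnit (W₁ 0 0 * W₁ 1 1 - W₁ 1 0) := by
      rw [sub_eq_neg_add]
      exact isUnit_add_mem_jacobson hfix (IsUnit.of_mul_eq_one_right _ h10).neg (Ideal.mul_mem_right _ _ (hd₁ 0))
    obtain ⟨Di, hDi⟩ := hD.exists_left_inv
    -- clear the first two columns
    let P : Fin m → T := fun l => -Di * (W₁ l.succ.succ 0 * W₁ 1 1 - W₁ l.succ.succ 1 * W₁ 1 0)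
    let Q : Fin m → T := fun l => -Di * (W₁ 0 0 * W₁ l.succ.succ 1 - W₁ l.succ.succ 0)
    let G₂ : Matrix (Fin (m + 2)) (Fin (m + 2)) T := Matrix.of fun i j =>
      Fin.cases (if j = 0 then 1 else 0) (fun i' => Fin.cases (if j = 1 then 1 else 0)
        (fun i'' => Fin.cases (P i'') (fun j' => Fin.cases (Q i'') (fun j'' => if i'' = j'' then 1 else 0) j') j) i') i
    have hG₂ : IsUnit G₂ := by
      refine IsUnit.of_mul_eq_one (M := Matrix (Fin (m + 2)) (Fin (m + 2)) T) (Matrix.of fun i j =>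
        Fin.cases (if j = 0 then 1 else 0) (fun i' => Fin.cases (if j = 1 then 1 else 0)
          (fun i'' => Fin.cases (-P i'') (fun j' => Fin.cases (-Q i'') (fun j'' => if i'' = j'' then 1 else 0) j') j) i') i) ?_
      ext i j
      rw [Matrix.mul_apply, Fin.sum_univ_succ, Fin.sum_univ_succ]
      refine Fin.cases ?_ (fun i' => ?_) i <;> refine Fin.cases ?_ (fun j' => ?_) j
      · simp [G₂]
      · simp [G₂, Matrix.one_apply, Fin.succ_ne_zero, Ne.symm (Fin.succ_ne_zero _)]
      · refine Fin.cases ?_ (fun i'' => ?_) i' <;>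
          simp [G₂, cases_one, Matrix.one_apply, Fin.succ_ne_zero, hne1, Ne.symm (hne1 _)]
      · refine Fin.cases ?_ (fun i'' => ?_) i' <;> refine Fin.cases ?_ (fun j'' => ?_) j' <;>
          simp [G₂, cases_one, Matrix.one_apply, Fin.succ_inj, hne1, Ne.symm (hne1 _), ite_mul]
    set W₂ := congrW σ G₂ W₁ with hW₂def
    have hW₂ : sTr σ W₂ = e • W₂ := sTr_congrW hσ G₂ W₁ e hW₁
    have hu₂ : IsUnit W₂ := isUnit_congrW hG₂ hu₁
    have hval₂ : ∀ x, val σ W₂ x x ∈ Ring.jacobson T := fun x => by rw [hW₂def, val_congrW]; exact hval₁ _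
    have hent₂ : ∀ i j, σ (W₂ j i) = e * W₂ i j := fun i j => congrFun (congrFun hW₂ i) j
    have hclear0 : ∀ l : Fin m, W₂ l.succ.succ 0 = 0 := fun l => by
      rw [hW₂def, congrW_row, Fin.sum_univ_succ, Fin.sum_univ_succ]
      simp [G₂, cases_one, Fin.sum_univ_succ, hne1, h01]
      simp only [P, Q]
      linear_combination (-(W₁ l.succ.succ 0)) * hDi
    have hclear1 : ∀ l : Fin m, W₂ l.succ.succ 1 = 0 := fun l => by
      rw [hW₂def, congrW_row, Fin.sum_univ_succ, Fin.sum_univ_succ]
      simp [G₂, cases_one, Fin.sum_univ_succ, hne1, h01]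
      simp only [P, Q]
      linear_combination (-(W₁ l.succ.succ 1)) * hDi
    have htop : W₂ 0 0 = W₁ 0 0 ∧ W₂ 0 1 = 1 ∧ W₂ 1 0 = W₁ 1 0 ∧ W₂ 1 1 = W₁ 1 1 := by
      refine ⟨?_, ?_, ?_, ?_⟩ <;>
        (rw [hW₂def, congrW_row, Fin.sum_univ_succ, Fin.sum_univ_succ]
         simp [G₂, cases_one, Fin.sum_univ_succ, hne1, h01, Fin.succ_ne_zero])
    let W' : Matrix (Fin m) (Fin m) T := Matrix.of fun i j => W₂ i.succ.succ j.succ.succ
    have hz : ∀ (k : Fin (m + 2)) (l : Fin m), W₂ l.succ.succ k = 0 → W₂ k l.succ.succ = 0 := fun k l h => by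
      have := hent₂ k l.succ.succ
      rw [h, map_zero] at this
      exact heu.mul_right_eq_zero.1 this.symm
    have hblk : W₂ = blk (W₁ 0 0) 1 (W₁ 1 0) (W₁ 1 1) W' := by
      ext i j
      refine Fin.cases ?_ (fun i' => ?_) i <;> refine Fin.cases ?_ (fun j' => ?_) j
      · simp [blk, htop]
      · refine Fin.cases ?_ (fun j'' => ?_) j'
        · simp [blk, cases_one, htop]
        · simp [blk, cases_one, hz 0 j'' (hclear0 j'')]
      · refine Fin.cases ?_ (fun i'' => ?_) i'
        · simp [blk, cases_one, htop]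
        · simp [blk, cases_one, hclear0]
      · refine Fin.cases ?_ (fun i'' => ?_) i' <;> refine Fin.cases ?_ (fun j'' => ?_) j'
        · simp [blk, cases_one, htop]
        · simp [blk, cases_one, hz 1 j'' (hclear1 j'')]
        · simp [blk, cases_one, hclear1]
        · simp [blk, cases_one, W']
    have hW' : sTr σ W' = e • W' := Matrix.ext fun i j => hent₂ i.succ.succ j.succ.succ
    have hu' : IsUnit W' := by
      obtain ⟨V, hV⟩ := hu₂.exists_right_inv
      refine IsUnit.of_mul_eq_one (M := Matrix (Fin m) (Fin m) T) (Matrix.of fun i j => V i.succ.succ j.succ.succ) ?_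
      ext i j
      have h1 := congrFun (congrFun hV i.succ.succ) j.succ.succ
      rw [Matrix.mul_apply, Fin.sum_univ_succ, Fin.sum_univ_succ] at h1
      simp only [hclear0, zero_mul, zero_add] at h1
      rw [show (Fin.succ (0 : Fin (m + 1))) = 1 from rfl, hclear1, zero_mul, zero_add] at h1
      simpa [Matrix.mul_apply, W', Matrix.one_apply] using h1
    have hval' : ∀ x, val σ W' x x ∈ Ring.jacobson T := fun x => by
      have := hval₂ (Fin.cons 0 (Fin.cons 0 x))
      simpa [val_eq_sum, Fin.sum_univ_succ, W'] using this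
    obtain ⟨hev, hnorm⟩ := ih m (by omega) W' hW' hu' hval'
    refine ⟨hev.add ⟨1, rfl⟩, fun h2 he => ?_⟩
    obtain ⟨G', hG'⟩ := hnorm h2 he
    subst he
    obtain ⟨h2i, hh2⟩ := h2.exists_left_inv
    set a := W₁ 0 0 with hadef
    set b := W₁ 1 1 with hbdef
    have hσa : σ a = -a := by rw [hadef, hent₁]; ring
    have hσb : σ b = -b := by rw [hbdef, hent₁]; ring
    have hw10 : W₁ 1 0 = -1 := by linear_combination -h10
    have haJ : a ∈ Ring.jacobson T := hd₁ 0
    -- a square root congruent to 1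
    obtain ⟨s₀, hs₀σ, -, hs₀⟩ := exists_sqrt hσ hfix hsqrt (a := 1 + a * b)
      (by rw [map_add, map_one, map_mul, hσa, hσb, neg_mul_neg])
      (isUnit_add_mem_jacobson hfix isUnit_one (Ideal.mul_mem_right _ _ haJ))
    obtain ⟨s, hsσ, hs, hs1⟩ : ∃ s, σ s = s ∧ s * s = 1 + a * b ∧ IsUnit (1 + s) := by
      by_cases h1 : IsUnit (1 + s₀)
      · exact ⟨s₀, hs₀σ, hs₀, h1⟩
      · refine ⟨-s₀, by rw [map_neg, hs₀σ], by rw [neg_mul_neg, hs₀], ?_⟩
        have hJ := (isUnit_or_mem hσ hfix htriv).resolve_left h1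
        have := isUnit_add_mem_jacobson hfix h2 ((Ring.jacobson T).neg_mem hJ)
        convert this using 1
        ring
    obtain ⟨γ, hγ⟩ := hs1.exists_left_inv
    have hγσ : σ γ = γ := by
      have h1 : σ γ * (1 + s) = 1 := by
        have := congrArg σ hγ
        rwa [map_mul, map_add, map_one, hsσ] at this
      calc σ γ = σ γ * (γ * (1 + s)) := by rw [hγ, mul_one]
        _ = γ := by rw [mul_left_comm, h1, mul_one]
    have hq : IsUnit (1 + γ * a * b) :=
      isUnit_add_mem_jacobson hfix isUnit_one (Ideal.mul_mem_right _ _ (Ideal.mul_mem_left _ _ haJ))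
    obtain ⟨qi, hqi⟩ := hq.exists_left_inv
    set c' := σ qi with hc'
    set δ := -(h2i * (c' * b * qi)) with hδ
    have hσh : σ h2i = h2i := by
      have h1 : σ h2i * 2 = 1 := by
        have := congrArg σ hh2
        rwa [map_mul, map_ofNat, map_one] at this
      calc σ h2i = σ h2i * (h2i * 2) := by rw [hh2, mul_one]
        _ = h2i := by rw [mul_left_comm, h1, mul_one]
    have hσc : σ c' = qi := by rw [hc', hσ]
    have hσδ : σ δ = h2i * (c' * b * qi) := by
      rw [hδ, map_neg, map_mul, map_mul, map_mul, hσb, hσh, hσc, ← hc']; ring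
    have hσγa : σ (γ * a) = -(γ * a) := by rw [map_mul, hγσ, hσa]; ring
    have huu : (1 * a + γ * a * -1) * σ (1 : T) + (1 * 1 + γ * a * b) * σ (γ * a) = 0 := by
      rw [map_one, hσγa]
      have key : 1 - 2 * γ - γ * γ * (a * b) = 0 := by
        linear_combination (γ * γ) * hs - (γ * (1 + s) + 1 - 2 * γ) * hγ
      linear_combination a * key
    have huv : (1 * a + γ * a * -1) * σ δ + (1 * 1 + γ * a * b) * σ (δ * (γ * a) + c') = 1 := by
      rw [map_add, map_mul, hσc]
      rw [map_one] at huu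
      linear_combination hqi + (σ δ) * huu
    refine ⟨bord (bord G') * blk 1 (γ * a) δ (δ * (γ * a) + c') 1 * (G₂ * G₁), ?_⟩
    rw [← congrW_congrW, ← congrW_congrW (G := G₂), ← hW₁def, ← hW₂def, ← congrW_congrW, hblk, congrW_blk,
      show congrW σ (1 : Matrix (Fin m) (Fin m) T) W' = W' by simp [congrW, sTr_one], hw10, huu, huv]
    have hvu : (δ * a + (δ * (γ * a) + c') * -1) * σ (1 : T) + (δ * 1 + (δ * (γ * a) + c') * b) * σ (γ * a) = -1 := by
      have h1 := congrArg σ huv
      simp only [map_add, map_mul, map_one, map_neg, hσ _, hσa, hσb, hγσ, hσc] at h1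
      rw [map_one, hσγa]
      linear_combination -h1
    have hvv : (δ * a + (δ * (γ * a) + c') * -1) * σ δ + (δ * 1 + (δ * (γ * a) + c') * b) * σ (δ * (γ * a) + c') = 0 := by
      have h3 : δ - σ δ = -(c' * b * qi) := by
        rw [hσδ, hδ]; linear_combination (-(c' * b * qi)) * hh2
      rw [map_add, map_mul, hσc, hσγa]
      rw [map_one, hσγa] at huu
      linear_combination (δ * σ δ) * huu + h3 + (δ) * hqi - (σ δ) * (congrArg σ hqi |>.trans (map_one σ) |> fun h => (by
        simp only [map_mul, map_add, map_one, hγσ, hσa, hσb, ← hc'] at h; exact h : c' * (1 + γ * -a * -b) = 1))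
    rw [hvu, hvv, ← bord2_eq_blk, congrW_bord2, hG']
    rfl

end Local

end Groth.Agent.AzInvLib
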