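import Groth.Agent.AzInvLib.Cover

/-!
# Gluing elements over a finite cover by localizations
-/

set_option autoImplicit false

universe u w

open TensorProduct

namespace Groth.Agent.AzInvLib

variable {S : Type u} [CommRing S] {A : Type w} [Ring A] [Algebra S A] {k : ℕ} (f : Fin k → S)

/-- The product of the localizations. -/
abbrev AwayPi : Type u := Π i, Localization.Away (f i)

/-- The element of the base change to the cover with components `c i ⊗ x i`. -/
noncomputable def glue (c : AwayPi f) (x : Fin k → A) : AwayPi f ⊗[S] A :=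
  ∑ i, (Pi.single i (c i) : AwayPi f) ⊗ₜ[S] x i

theorem glue_mul (c d : AwayPi f) (x y : Fin k → A) : glue f c x * glue f d y = glue f (c * d) (x * y) := by
  classical
  rw [glue, glue, glue, Finset.sum_mul_sum]
  refine Finset.sum_congr rfl fun i _ => ?_
  rw [Finset.sum_eq_single i ?_ (by simp), Algebra.TensorProduct.tmul_mul_tmul, ← Pi.single_mul]
  · rfl
  · intro j _ hj
    rw [Algebra.TensorProduct.tmul_mul_tmul]
    have : (Pi.single i (c i) : AwayPi f) * Pi.single j (d j) = 0 := by
      ext l
      rcases eq_or_ne l i with rfl | hl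
      · simp [Pi.single_eq_of_ne hj.symm]
      · simp [Pi.single_eq_of_ne hl]
    rw [this, TensorProduct.zero_tmul]

theorem glue_const (c : AwayPi f) (a : A) : glue f c (fun _ => a) = c ⊗ₜ[S] a := by
  classical
  rw [glue, ← TensorProduct.sum_tmul]
  congr 1
  exact Finset.univ_sum_single c

theorem glue_algebraMap (c : AwayPi f) (s : Fin k → S) :
    glue f c (fun i => algebraMap S A (s i)) = (fun i => c i * algebraMap S _ (s i) : AwayPi f) ⊗ₜ[S] (1 : A) := by
  classical
  rw [← glue_const]
  refine Finset.sum_congr rfl fun i _ => ?_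
  show (Pi.single i (c i) : AwayPi f) ⊗ₜ[S] algebraMap S A (s i) = (Pi.single i (c i * algebraMap S _ (s i)) : AwayPi f) ⊗ₜ[S] (1 : A)
  rw [Algebra.algebraMap_eq_smul_one, ← TensorProduct.smul_tmul, ← Pi.single_smul, Algebra.smul_def, mul_comm]

/-- The family of inverses of the covering elements. -/
noncomputable def invPi : AwayPi f := fun i => IsLocalization.Away.invSelf (f i)

theorem glue_inv : glue f (invPi f) (fun i => algebraMap S A (f i)) = 1 := by
  rw [glue_algebraMap, Algebra.TensorProduct.one_def]
  congr 1
  funext i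
  rw [invPi, mul_comm, IsLocalization.Away.mul_invSelf]
  rfl

/-- Local inverses glue to a global inverse. -/
theorem exists_unit_glue (u v v' : Fin k → A) (hv : ∀ i, v i * u i = algebraMap S A (f i))
    (hv' : ∀ i, u i * v' i = algebraMap S A (f i)) : ∃ U : (AwayPi f ⊗[S] A)ˣ, ↑U = glue f 1 u := by
  have h1 : glue f (invPi f) v * glue f 1 u = 1 := by
    rw [glue_mul, mul_one, show v * u = fun i => algebraMap S A (f i) from funext hv, glue_inv]
  have h2 : glue f 1 u * glue f (invPi f) v' = 1 := by
    rw [glue_mul, one_mul, show u * v' = fun i => algebraMap S A (f i) from funext hv', glue_inv]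
  have e := left_inv_eq_right_inv h1 h2
  exact ⟨⟨_, _, e ▸ h2, h1⟩, rfl⟩

end Groth.Agent.AzInvLib
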