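import Groth.Agent.AzInvLib.Iso

/-!
# Gluing compatible isomorphisms over finite products
-/

set_option autoImplicit false
set_option linter.style.haveILetI false

universe u v w w'

open TensorProduct

namespace Groth.Agent.AzInvLib

variable {S : Type u} {R : Type v} [CommRing S] [CommRing R] [Algebra S R] {lam : R ≃ₐ[S] R}
variable {A : Type w} [Ring A] [Algebra S A] [Algebra R A]
variable {A' : Type w'} [Ring A'] [Algebra S A'] [Algebra R A']
variable {ι : Type} [Fintype ι] (U : ι → Type u) [∀ i, CommRing (U i)] [∀ i, Algebra S (U i)]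

/-- The components. -/
noncomputable abbrev comp' (B : Type*) [Ring B] [Algebra S B] (i : ι) : (Π j, U j) ⊗[S] B →ₐ[S] U i ⊗[S] B :=
  trans' (U i) (Pi.evalAlgHom S U i) B

theorem bijective_comp' (B : Type*) [Ring B] [Algebra S B] :
    Function.Bijective (fun z i => comp' (S := S) U B i z) := by
  classical
  have e : (fun z i => comp' (S := S) U B i z) = ⇑(TensorProduct.piLeft (R := S) (M := U) (N := B)) := by
    funext z i
    induction z using TensorProduct.induction_on with
    | zero => simp
    | add a b ha hb => simp only [map_add, Pi.add_apply, ha, hb]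
    | tmul c a => simp [comp', trans']
  rw [e]
  exact LinearEquiv.bijective _

theorem exists_piHom (f : ∀ i, U i ⊗[S] A →ₐ[U i] U i ⊗[S] A') :
    ∃ F : (Π j, U j) ⊗[S] A →ₐ[Π j, U j] (Π j, U j) ⊗[S] A',
      ∀ i z, comp' U A' i (F z) = f i (comp' U A i z) := by
  classical
  let E := Equiv.ofBijective _ (bijective_comp' (S := S) U A')
  have hE : ∀ z i, E z i = comp' U A' i z := fun z i => rfl
  have hEs : ∀ y i, comp' U A' i (E.symm y) = y i := fun y i => by rw [← hE, E.apply_symm_apply]
  let ρ : A →ₐ[S] (Π j, U j) ⊗[S] A' :=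
    { toFun := fun a => E.symm fun i => f i ((1 : U i) ⊗ₜ[S] a)
      map_one' := E.injective (funext fun i => by
        rw [hE, hE, hEs, map_one, ← Algebra.TensorProduct.one_def, map_one])
      map_mul' := fun a b => E.injective (funext fun i => by
        rw [hE, hE, map_mul, hEs, hEs, hEs, ← map_mul, Algebra.TensorProduct.tmul_mul_tmul, one_mul])
      map_zero' := E.injective (funext fun i => by
        rw [hE, hE, hEs, map_zero, TensorProduct.tmul_zero, map_zero])
      map_add' := fun a b => E.injective (funext fun i => by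
        rw [hE, hE, map_add, hEs, hEs, hEs, ← map_add, TensorProduct.tmul_add])
      commutes' := fun s => E.injective (funext fun i => by
        rw [hE, hE, hEs, AlgHom.commutes, Algebra.algebraMap_eq_smul_one, TensorProduct.tmul_smul,
          ← Algebra.TensorProduct.one_def, ← Algebra.algebraMap_eq_smul_one]
        exact ((f i).restrictScalars S).commutes s) }
  refine ⟨Algebra.TensorProduct.lift (Algebra.ofId _ _) ρ fun s a => Algebra.commutes s _, fun i z => ?_⟩
  induction z using TensorProduct.induction_on with
  | zero => simp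
  | add a b ha hb => simp only [map_add, ha, hb]
  | tmul c a =>
    rw [Algebra.TensorProduct.lift_tmul, map_mul, show comp' U A' i (ρ a) = f i ((1 : U i) ⊗ₜ[S] a) from hEs _ i,
      show comp' U A i (c ⊗ₜ[S] a) = (c i ⊗ₜ[S] (1 : A)) * ((1 : U i) ⊗ₜ[S] a) by simp [comp', trans'], map_mul]
    congr 1
    rw [Algebra.ofId_apply, Algebra.TensorProduct.algebraMap_apply, show comp' U A' i
      ((algebraMap (Π j, U j) (Π j, U j) c) ⊗ₜ[S] (1 : A')) = c i ⊗ₜ[S] (1 : A') by simp [comp', trans']]
    have := (f i).commutes (c i)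
    simp only [Algebra.TensorProduct.algebraMap_apply, Algebra.algebraMap_self, RingHom.id_apply] at this
    exact this.symm

variable [IsScalarTower S R A] [IsScalarTower S R A']

/-- Gluing. -/
theorem exists_piIso (t : AzInv.LamInv R A lam) (t' : AzInv.LamInv R A' lam) (φ : ∀ i, LIso S R (U i) A A')
    (h : ∀ i, (φ i).Intertwines t t') : ∃ Φ : LIso S R (Π j, U j) A A', Φ.Intertwines t t' := by
  obtain ⟨F, hF⟩ := exists_piHom U fun i => (φ i).f.toAlgHom
  obtain ⟨G, hG⟩ := exists_piHom U fun i => (φ i).f.symm.toAlgHom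
  have hinjA := (bijective_comp' (S := S) U A).1
  have hinjA' := (bijective_comp' (S := S) U A').1
  refine ⟨⟨AlgEquiv.ofAlgHom F G (AlgHom.ext fun z => hinjA' (funext fun i => by simp [hF, hG]))
    (AlgHom.ext fun z => hinjA (funext fun i => by simp [hF, hG])), fun r x => hinjA' (funext fun i => ?_)⟩,
    fun x => hinjA' (funext fun i => ?_)⟩
  · simp only [AlgEquiv.ofAlgHom_apply, map_mul, hF]
    have h1 := (φ i).compat r 1
    rw [mul_one, map_one, mul_one] at h1
    congr 1
  · simp only [AlgEquiv.ofAlgHom_apply, hF]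
    show (φ i).f (comp' U A i (t.bc S lam _ x)) = comp' U A' i (t'.bc S lam _ (F x))
    rw [← trans'_bc, ← trans'_bc, h i]
    congr 1
    exact (hF i x).symm

end Groth.Agent.AzInvLib
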