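import Groth.Prelude.Def_AzInv
import Mathlib

/-!
# Isomorphisms after base change of the fixed ring, compatible with the scalars of the ring with involution
-/

set_option autoImplicit false
set_option linter.style.haveILetI false

universe u v w w' w''

open TensorProduct

namespace Groth.Agent.AzInvLib

variable (S : Type u) (R : Type v) [CommRing S] [CommRing R] [Algebra S R]

/-- An isomorphism of `T ⊗ A` with `T ⊗ A'` compatible with `R`. -/
structure LIso (T : Type*) [CommRing T] [Algebra S T] (A : Type w) [Ring A] [Algebra S A] [Algebra R A]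
    (A' : Type w') [Ring A'] [Algebra S A'] [Algebra R A'] where
  /-- the isomorphism -/
  f : T ⊗[S] A ≃ₐ[T] T ⊗[S] A'
  compat : ∀ (r : R) (x : T ⊗[S] A),
    f (((1 : T) ⊗ₜ[S] algebraMap R A r) * x) = ((1 : T) ⊗ₜ[S] algebraMap R A' r) * f x

variable {S R} {lam : R ≃ₐ[S] R}
variable {A : Type w} [Ring A] [Algebra S A] [Algebra R A]
variable {A' : Type w'} [Ring A'] [Algebra S A'] [Algebra R A']
variable {A'' : Type w''} [Ring A''] [Algebra S A''] [Algebra R A'']
variable {T : Type*} [CommRing T] [Algebra S T]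

/-- The inverse. -/
def LIso.symm (φ : LIso S R T A A') : LIso S R T A' A where
  f := φ.f.symm
  compat r x := by
    apply φ.f.injective
    rw [φ.f.apply_symm_apply, φ.compat, φ.f.apply_symm_apply]

/-- The composition. -/
def LIso.trans (φ : LIso S R T A A') (ψ : LIso S R T A' A'') : LIso S R T A A'' where
  f := φ.f.trans ψ.f
  compat r x := by simp only [AlgEquiv.trans_apply, φ.compat, ψ.compat]

section Involutions

variable [IsScalarTower S R A] [IsScalarTower S R A'] [IsScalarTower S R A'']

/-- The isomorphism carries `t` to `t'`. -/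
def LIso.Intertwines (φ : LIso S R T A A') (t : AzInv.LamInv R A lam) (t' : AzInv.LamInv R A' lam) : Prop :=
  ∀ x, φ.f (t.bc S lam T x) = t'.bc S lam T (φ.f x)

theorem LIso.Intertwines.symm {φ : LIso S R T A A'} {t : AzInv.LamInv R A lam} {t' : AzInv.LamInv R A' lam}
    (h : φ.Intertwines t t') : φ.symm.Intertwines t' t := fun x => by
  apply φ.f.injective
  show φ.f (φ.f.symm _) = φ.f (t.bc S lam T (φ.f.symm x))
  rw [h, φ.f.apply_symm_apply, φ.f.apply_symm_apply]

theorem LIso.Intertwines.trans {φ : LIso S R T A A'} {ψ : LIso S R T A' A''} {t : AzInv.LamInv R A lam}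
    {t' : AzInv.LamInv R A' lam} {t'' : AzInv.LamInv R A'' lam} (h : φ.Intertwines t t') (h' : ψ.Intertwines t' t'') :
    (φ.trans ψ).Intertwines t t'' := fun x => by
  show ψ.f (φ.f _) = _
  rw [h, h']
  rfl

end Involutions

section Push

variable (T' : Type*) [CommRing T'] [Algebra S T'] (g : T →ₐ[S] T')

/-- Transition map. -/
noncomputable abbrev trans' (B : Type*) [Ring B] [Algebra S B] : T ⊗[S] B →ₐ[S] T' ⊗[S] B :=
  Algebra.TensorProduct.map g (AlgHom.id S B)

/-- Push of a hom. -/
noncomputable def pushHom (f : T ⊗[S] A →ₐ[T] T ⊗[S] A') : T' ⊗[S] A →ₐ[T'] T' ⊗[S] A' :=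
  Algebra.TensorProduct.lift (Algebra.ofId T' _)
    ((trans' T' g A').comp ((f.restrictScalars S).comp Algebra.TensorProduct.includeRight))
    fun s a => Algebra.commutes s _

theorem pushHom_trans' (f : T ⊗[S] A →ₐ[T] T ⊗[S] A') (x : T ⊗[S] A) :
    pushHom T' g f (trans' T' g A x) = trans' T' g A' (f x) := by
  induction x using TensorProduct.induction_on with
  | zero => simp
  | add a b ha hb => simp only [map_add, ha, hb]
  | tmul c a =>
    have h1 : f (c ⊗ₜ[S] a) = (c ⊗ₜ[S] (1 : A')) * f ((1 : T) ⊗ₜ[S] a) := by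
      have := f.commutes c
      rw [Algebra.TensorProduct.algebraMap_apply, Algebra.TensorProduct.algebraMap_apply, Algebra.algebraMap_self,
        RingHom.id_apply] at this
      rw [← this, ← map_mul, Algebra.TensorProduct.tmul_mul_tmul, mul_one, one_mul]
    simp [pushHom, trans', h1, Algebra.ofId_apply, Algebra.TensorProduct.algebraMap_apply]

theorem ext_trans' {B : Type*} [Semiring B] [Algebra T' B] {F G : T' ⊗[S] A →ₐ[T'] B}
    (h : ∀ x, F (trans' T' g A x) = G (trans' T' g A x)) : F = G := by
  refine AlgHom.ext fun z => ?_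
  induction z using TensorProduct.induction_on with
  | zero => simp
  | add a b ha hb => simp only [map_add, ha, hb]
  | tmul c a =>
    have h1 := h ((1 : T) ⊗ₜ[S] a)
    simp only [trans', Algebra.TensorProduct.map_tmul, map_one, AlgHom.id_apply] at h1
    rw [show c ⊗ₜ[S] a = c • ((1 : T') ⊗ₜ[S] a) by rw [TensorProduct.smul_tmul', smul_eq_mul, mul_one],
      map_smul, map_smul, h1]

/-- Push of an isomorphism. -/
noncomputable def pushEquiv (f : T ⊗[S] A ≃ₐ[T] T ⊗[S] A') : T' ⊗[S] A ≃ₐ[T'] T' ⊗[S] A' :=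
  AlgEquiv.ofAlgHom (pushHom T' g f.toAlgHom) (pushHom T' g f.symm.toAlgHom)
    (ext_trans' T' g fun x => by simp [pushHom_trans'])
    (ext_trans' T' g fun x => by simp [pushHom_trans'])

theorem pushEquiv_trans' (f : T ⊗[S] A ≃ₐ[T] T ⊗[S] A') (x : T ⊗[S] A) :
    pushEquiv T' g f (trans' T' g A x) = trans' T' g A' (f x) := pushHom_trans' T' g _ x

theorem ext_linear {B : Type*} [AddCommGroup B] [Module T' B] {F G : T' ⊗[S] A →ₗ[T'] B}
    (h : ∀ x, F (trans' T' g A x) = G (trans' T' g A x)) : F = G := by
  refine LinearMap.ext fun z => ?_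
  induction z using TensorProduct.induction_on with
  | zero => simp
  | add a b ha hb => simp only [map_add, ha, hb]
  | tmul c a =>
    have h1 := h ((1 : T) ⊗ₜ[S] a)
    simp only [trans', Algebra.TensorProduct.map_tmul, map_one, AlgHom.id_apply] at h1
    rw [show c ⊗ₜ[S] a = c • ((1 : T') ⊗ₜ[S] a) by rw [TensorProduct.smul_tmul', smul_eq_mul, mul_one],
      map_smul, map_smul, h1]

/-- Push of a compatible isomorphism. -/
noncomputable def LIso.push (φ : LIso S R T A A') : LIso S R T' A A' where
  f := pushEquiv T' g φ.f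
  compat r x := by
    have e1 : ∀ y, pushEquiv T' g φ.f (((1 : T') ⊗ₜ[S] algebraMap R A r) * trans' T' g A y) =
        ((1 : T') ⊗ₜ[S] algebraMap R A' r) * pushEquiv T' g φ.f (trans' T' g A y) := fun y => by
      have h1 : (1 : T') ⊗ₜ[S] algebraMap R A r = trans' T' g A ((1 : T) ⊗ₜ algebraMap R A r) := by simp [trans']
      have h2 : (1 : T') ⊗ₜ[S] algebraMap R A' r = trans' T' g A' ((1 : T) ⊗ₜ algebraMap R A' r) := by simp [trans']
      rw [h1, h2, ← map_mul, pushEquiv_trans', pushEquiv_trans', ← map_mul, φ.compat]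
    induction x using TensorProduct.induction_on with
    | zero => simp
    | add a b ha hb => simp only [mul_add, map_add, ha, hb]
    | tmul c a =>
      rw [show c ⊗ₜ[S] a = c • (trans' T' g A ((1 : T) ⊗ₜ a)) by
        simp [trans', TensorProduct.smul_tmul'], mul_smul_comm, map_smul, map_smul, e1, mul_smul_comm]

variable [IsScalarTower S R A] [IsScalarTower S R A']

theorem trans'_bc (t : AzInv.LamInv R A lam) (x : T ⊗[S] A) :
    t.bc S lam T' (trans' T' g A x) = trans' T' g A (t.bc S lam T x) := by
  induction x using TensorProduct.induction_on with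
  | zero => simp
  | add a b ha hb => simp only [map_add, ha, hb]
  | tmul c a => simp [trans']

theorem LIso.Intertwines.push {φ : LIso S R T A A'} {t : AzInv.LamInv R A lam} {t' : AzInv.LamInv R A' lam}
    (h : φ.Intertwines t t') : (φ.push T' g).Intertwines t t' := by
  have e : (pushEquiv T' g φ.f).toLinearMap ∘ₗ t.bc S lam T' = t'.bc S lam T' ∘ₗ (pushEquiv T' g φ.f).toLinearMap :=
    ext_linear T' g fun x => by
      show pushEquiv T' g φ.f (t.bc S lam T' (trans' T' g A x)) = t'.bc S lam T' (pushEquiv T' g φ.f (trans' T' g A x))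
      rw [trans'_bc, pushEquiv_trans', pushEquiv_trans', trans'_bc, h]
  exact fun x => LinearMap.congr_fun e x

end Push

section Kappa

variable (T) (A) (ι : Type) [Fintype ι] [DecidableEq ι]

/-- `T ⊗ M(A) → M(T ⊗ A)`. -/
noncomputable def kappaHom : T ⊗[S] Matrix ι ι A →ₐ[T] Matrix ι ι (T ⊗[S] A) :=
  Algebra.TensorProduct.lift (Algebra.ofId T _) (Algebra.TensorProduct.includeRight : A →ₐ[S] T ⊗[S] A).mapMatrix
    fun s a => Algebra.commutes s _

theorem kappaHom_tmul (c : T) (M : Matrix ι ι A) (i j : ι) : kappaHom A T ι (c ⊗ₜ[S] M) i j = c ⊗ₜ[S] M i j := by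
  simp [kappaHom, Algebra.ofId_apply, Matrix.algebraMap_eq_diagonal, Algebra.TensorProduct.algebraMap_apply]

/-- The inverse map. -/
noncomputable def kappaInv : Matrix ι ι (T ⊗[S] A) → T ⊗[S] Matrix ι ι A :=
  fun M => ∑ i, ∑ j, ((Matrix.singleLinearMap S i j : A →ₗ[S] Matrix ι ι A).lTensor T) (M i j)

theorem bijective_kappaHom : Function.Bijective (kappaHom (S := S) A T ι) := by
  have h1 : ∀ z, kappaInv A T ι (kappaHom (S := S) A T ι z) = z := fun z => by
    induction z using TensorProduct.induction_on with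
    | zero => simp [kappaInv]
    | add a b ha hb =>
      simp only [kappaInv, map_add, Matrix.add_apply, Finset.sum_add_distrib] at ha hb ⊢
      rw [ha, hb]
    | tmul c M =>
      simp only [kappaInv, kappaHom_tmul, LinearMap.lTensor_tmul, ← TensorProduct.tmul_sum,
        ]
      exact congrArg (c ⊗ₜ[S] ·) (Matrix.matrix_eq_sum_single M).symm
  have h2 : ∀ M, kappaHom (S := S) A T ι (kappaInv A T ι M) = M := fun M => by
    have h3 : ∀ (i j : ι) (z : T ⊗[S] A),
        kappaHom (S := S) A T ι ((Matrix.singleLinearMap S i j : A →ₗ[S] Matrix ι ι A).lTensor T z) = Matrix.single i j z := by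
      intro i j z
      induction z using TensorProduct.induction_on with
      | zero => simp
      | add a b ha hb => rw [map_add, map_add, ha, hb, Matrix.single_add]
      | tmul c a =>
        ext k l
        rw [LinearMap.lTensor_tmul, kappaHom_tmul]
        show c ⊗ₜ[S] Matrix.single i j a k l = Matrix.single i j (c ⊗ₜ[S] a) k l
        rw [Matrix.single_apply, Matrix.single_apply]
        split_ifs <;> simp
    simp only [kappaInv, map_sum, h3, ← Matrix.matrix_eq_sum_single]
  exact ⟨Function.LeftInverse.injective h1, Function.RightInverse.surjective h2⟩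

/-- `T ⊗ M(A) = M(T ⊗ A)`. -/
noncomputable def kappa : T ⊗[S] Matrix ι ι A ≃ₐ[T] Matrix ι ι (T ⊗[S] A) :=
  AlgEquiv.ofBijective (kappaHom A T ι) (bijective_kappaHom A T ι)

theorem kappa_tmul (c : T) (M : Matrix ι ι A) (i j : ι) : kappa A T ι (c ⊗ₜ[S] M) i j = c ⊗ₜ[S] M i j :=
  kappaHom_tmul A T ι c M i j

theorem kappa_trans' {T' : Type*} [CommRing T'] [Algebra S T'] (g : T →ₐ[S] T') (x : T ⊗[S] Matrix ι ι A) :
    kappa A T' ι (trans' T' g (Matrix ι ι A) x) = (kappa A T ι x).map (trans' T' g A) := by
  induction x using TensorProduct.induction_on with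
  | zero => simp
  | add a b ha hb => simp only [map_add, ha, hb, Matrix.map_add _ (map_add _)]
  | tmul c M => ext i j; simp [trans', kappa_tmul]

theorem kappa_bc_matrix [IsScalarTower S R A] (t : AzInv.LamInv R A lam) (x : T ⊗[S] Matrix ι ι A) :
    kappa A T ι ((t.matrix ι).bc S lam T x) = AzInv.lamTr (t.bc S lam T) (kappa A T ι x) := by
  induction x using TensorProduct.induction_on with
  | zero => ext i j; simp
  | add a b ha hb => ext i j; simp only [map_add, ha, hb, Matrix.add_apply, AzInv.lamTr_apply]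
  | tmul c M => ext i j; simp [kappa_tmul]

theorem kappa_algebraMap (r : R) :
    kappa A T ι ((1 : T) ⊗ₜ[S] algebraMap R (Matrix ι ι A) r) = Matrix.scalar ι ((1 : T) ⊗ₜ[S] algebraMap R A r) := by
  ext i j
  rw [kappa_tmul, Matrix.algebraMap_matrix_apply, Matrix.scalar_apply, Matrix.diagonal_apply]
  split_ifs <;> simp

variable {T} {A}

/-- Matrices over a compatible isomorphism. -/
noncomputable def LIso.matrix (φ : LIso S R T A A') : LIso S R T (Matrix ι ι A) (Matrix ι ι A') where
  f := ((kappa A T ι).trans φ.f.mapMatrix).trans (kappa A' T ι).symm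
  compat r x := by
    apply (kappa A' T ι).injective
    simp only [AlgEquiv.trans_apply, map_mul, AlgEquiv.apply_symm_apply, kappa_algebraMap]
    congr 1
    ext i j
    have h1 := φ.compat r 1
    rw [mul_one, map_one, mul_one] at h1
    rw [AlgEquiv.mapMatrix_apply, Matrix.map_apply, Matrix.scalar_apply, Matrix.scalar_apply]
    simp only [Matrix.diagonal_apply]
    split_ifs
    · exact h1
    · exact map_zero _

theorem LIso.Intertwines.matrix [IsScalarTower S R A] [IsScalarTower S R A'] {φ : LIso S R T A A'}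
    {t : AzInv.LamInv R A lam} {t' : AzInv.LamInv R A' lam} (h : φ.Intertwines t t') :
    (φ.matrix ι).Intertwines (t.matrix ι) (t'.matrix ι) := fun x => by
  apply (kappa A' T ι).injective
  show kappa A' T ι ((kappa A' T ι).symm (φ.f.mapMatrix (kappa A T ι _))) =
    kappa A' T ι ((t'.matrix ι).bc S lam T ((kappa A' T ι).symm (φ.f.mapMatrix (kappa A T ι x))))
  rw [AlgEquiv.apply_symm_apply, kappa_bc_matrix, kappa_bc_matrix, AlgEquiv.apply_symm_apply]
  ext i j
  simp only [AlgEquiv.mapMatrix_apply, Matrix.map_apply, AzInv.lamTr_apply]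
  exact h _

end Kappa

end Groth.Agent.AzInvLib
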