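import Groth.Agent.AzInvLib.EtaleSplitting
import Groth.Agent.AzInvLib.EtaleSection
import Groth.Prelude.Def_AzInv

/-!
# Azumaya algebras split etale-locally on the fixed ring
-/

set_option autoImplicit false
set_option linter.style.haveILetI false

universe u v w

open TensorProduct

namespace Groth.Agent.AzInvLib

variable {S : Type u} {R : Type v} [CommRing S] [CommRing R] [Algebra S R] {lam : R ≃+* R}

/-- An etale faithfully flat algebra over `R` has a section after an etale faithfully flat extension of `S`. -/
theorem exists_etale_section_global (hlam : Function.Involutive lam) (hS : RInv.IsFixedRing S R lam)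
    (E : Type v) [CommRing E] [Algebra R E] [Algebra.Etale R E] [Module.FaithfullyFlat R E] :
    ∃ (S' : Type u) (_ : CommRing S') (_ : Algebra S S') (_ : Algebra.Etale S S') (_ : Module.FaithfullyFlat S S')
      (τ : E →+* S' ⊗[S] R), ∀ r, τ (algebraMap R E r) = (1 : S') ⊗ₜ[S] r := by
  classical
  have hloc := fun p : PrimeSpectrum S => exists_etale_section hlam hS p.asIdeal E
    fun Q _ => PrimeSpectrum.comap_surjective_of_faithfullyFlat (A := R) (B := E) Q
  choose T i₁ i₂ het P τ hP hPp hτ using hloc
  haveI : ∀ p, Module.Flat S (T p) := fun p => by haveI := het p; infer_instance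
  have hopen : ∀ p : PrimeSpectrum S, IsOpen (Set.range (PrimeSpectrum.comap (algebraMap S (T p)))) := fun p => by
    haveI := het p
    exact (PrimeSpectrum.isOpenMap_comap_of_hasGoingDown_of_finitePresentation).isOpen_range
  obtain ⟨t, ht⟩ := CompactSpace.isCompact_univ.elim_finite_subcover
    (fun p => Set.range (PrimeSpectrum.comap (algebraMap S (T p)))) hopen
    fun p _ => Set.mem_iUnion.2 ⟨p, ⟨P p, hP p⟩, PrimeSpectrum.ext (hPp p)⟩
  let U : t → Type u := fun i => T i.1
  haveI : ∀ i : t, Algebra.Etale S (U i) := fun i => het i.1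
  haveI : Module.Flat S (Π i, U i) := Module.Flat.of_linearEquiv (DirectSum.linearEquivFunOnFintype S t U).symm
  haveI : Module.FaithfullyFlat S (Π i, U i) := Module.FaithfullyFlat.of_comap_surjective fun q => by
    obtain ⟨p, hp, q', hq'⟩ := Set.mem_iUnion₂.1 (ht (Set.mem_univ q))
    exact ⟨PrimeSpectrum.comap (Pi.evalRingHom U ⟨p, hp⟩) q', hq'⟩
  let ι : ∀ i : t, U i ⊗[S] R →ₗ[S] (Π i, U i) ⊗[S] R := fun i => (LinearMap.single S U i).rTensor R
  have hmul : ∀ (i j : t) (x : U i ⊗[S] R) (y : U j ⊗[S] R),
      ι i x * ι j y = if h : i = j then ι i (x * h ▸ y) else 0 := by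
    intro i j x y
    rcases eq_or_ne i j with rfl | hij
    · rw [dif_pos rfl]
      induction x using TensorProduct.induction_on with
      | zero => simp
      | add a b ha hb => rw [map_add, add_mul, ha, hb, add_mul, map_add]
      | tmul a r =>
        induction y using TensorProduct.induction_on with
        | zero => simp
        | add c d hc hd => rw [map_add, mul_add, hc, hd, mul_add, map_add]
        | tmul c r' => simp [ι, ← Pi.single_mul]
    · rw [dif_neg hij]
      induction x using TensorProduct.induction_on with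
      | zero => simp
      | add a b ha hb => rw [map_add, add_mul, ha, hb, add_zero]
      | tmul a r =>
        induction y using TensorProduct.induction_on with
        | zero => simp
        | add c d hc hd => rw [map_add, mul_add, hc, hd, add_zero]
        | tmul c r' =>
          have : (Pi.single i a : Π i, U i) * Pi.single j c = 0 := by
            ext l
            rcases eq_or_ne l i with rfl | hl
            · simp [Pi.single_eq_of_ne hij]
            · simp [Pi.single_eq_of_ne hl]
          simp [ι, this]
  have hone : ∀ r : R, ∑ i, ι i ((1 : U i) ⊗ₜ[S] r) = (1 : Π i, U i) ⊗ₜ[S] r := fun r => by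
    simp only [ι, LinearMap.rTensor_tmul, LinearMap.single_apply, ← TensorProduct.sum_tmul]
    congr 1
    exact Finset.univ_sum_single (1 : Π i, U i)
  refine ⟨Π i, U i, inferInstance, inferInstance, inferInstance, inferInstance,
    { toFun := fun e => ∑ i, ι i (τ i.1 e)
      map_one' := ?_
      map_mul' := fun a b => ?_
      map_zero' := by simp
      map_add' := fun a b => by simp [Finset.sum_add_distrib] }, fun r => ?_⟩
  · simp only [map_one, Algebra.TensorProduct.one_def]
    exact hone 1
  · simp only [map_mul, Finset.sum_mul_sum]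
    refine Finset.sum_congr rfl fun i _ => ?_
    rw [Finset.sum_eq_single i (fun j _ hj => by rw [hmul, dif_neg hj.symm]) (by simp), hmul, dif_pos rfl]
  · show ∑ i, ι i (τ i.1 (algebraMap R E r)) = _
    simp only [hτ]
    exact hone r

variable (A : Type w) [Ring A] [Algebra S A] [Algebra R A] [IsScalarTower S R A]

/-- An Azumaya algebra of constant degree becomes a matrix algebra after an etale cover of the fixed ring. -/
theorem exists_split_fixed (hlam : Function.Involutive lam) (hS : RInv.IsFixedRing S R lam) (n : ℕ)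
    (hA : AzInv.IsAzumayaDeg R A n) :
    ∃ (S' : Type u) (_ : CommRing S') (_ : Algebra S S') (_ : Algebra.Etale S S')
      (_ : Module.FaithfullyFlat S S') (f : S' ⊗[S] A ≃ₐ[S'] Matrix (Fin n) (Fin n) (S' ⊗[S] R)),
      ∀ (r : R) (x : S' ⊗[S] A),
        f (((1 : S') ⊗ₜ[S] algebraMap R A r) * x) = Matrix.scalar (Fin n) ((1 : S') ⊗ₜ[S] r) * f x := by
  classical
  haveI := hA.1
  haveI : Small.{v} A := Module.Finite.small.{v} R A
  let eA : A ≃ₐ[R] Shrink.{v} A := (Shrink.algEquiv R A).symm
  haveI : IsAzumaya R (Shrink.{v} A) := IsAzumaya.of_AlgEquiv R A (Shrink.{v} A) eA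
  obtain ⟨E, _, _, _, _, ⟨e⟩⟩ := exists_etale_splitting R (Shrink.{v} A) n fun p => by
    rw [← congrFun (Module.rankAtStalk_eq_of_equiv eA.toLinearEquiv) p]; exact hA.2 p
  obtain ⟨S', _, _, _, _, τ, hτ⟩ := exists_etale_section_global hlam hS E
  let e' : A →ₐ[R] Matrix (Fin n) (Fin n) E :=
    ((e.toAlgHom.restrictScalars R).comp Algebra.TensorProduct.includeRight).comp eA.toAlgHom
  let mτ : Matrix (Fin n) (Fin n) E →+* Matrix (Fin n) (Fin n) (S' ⊗[S] R) := τ.mapMatrix
  have hρR : ∀ r, mτ (e' (algebraMap R A r)) = Matrix.scalar (Fin n) ((1 : S') ⊗ₜ[S] r) := fun r => by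
    rw [AlgHom.commutes]
    ext i j
    rw [RingHom.mapMatrix_apply, Matrix.map_apply, Matrix.algebraMap_matrix_apply, Matrix.scalar_apply,
      Matrix.diagonal_apply]
    split_ifs <;> simp [hτ]
  let ρ : A →ₐ[S] Matrix (Fin n) (Fin n) (S' ⊗[S] R) :=
    { mτ.comp (e' : A →+* Matrix (Fin n) (Fin n) E) with
      commutes' := fun s => by
        show mτ (e' (algebraMap S A s)) = _
        rw [IsScalarTower.algebraMap_apply S R A, hρR, Algebra.algebraMap_eq_smul_one (A := R),
          ← TensorProduct.smul_tmul, ← Algebra.algebraMap_eq_smul_one]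
        rfl }
  let F : S' ⊗[S] A →ₐ[S'] Matrix (Fin n) (Fin n) (S' ⊗[S] R) :=
    Algebra.TensorProduct.lift (Algebra.ofId S' _) ρ fun s a => Algebra.commutes s _
  let j : S' ⊗[S] R →ₐ[S] S' ⊗[S] A := Algebra.TensorProduct.map (AlgHom.id S S') (IsScalarTower.toAlgHom S R A)
  have hj : ∀ t z, Commute (j t) z := fun t z => by
    induction t using TensorProduct.induction_on with
    | zero => simp
    | add a b ha hb => rw [map_add]; exact Commute.add_left ha hb
    | tmul s r =>
      induction z using TensorProduct.induction_on with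
      | zero => simp
      | add a b ha hb => exact Commute.add_right ha hb
      | tmul s' a =>
        show _ * _ = _ * _
        simp [j, mul_comm s s', Algebra.commutes]
  letI algRT : Algebra R (S' ⊗[S] A) :=
    RingHom.toAlgebra' (j.toRingHom.comp (Algebra.TensorProduct.includeRight : R →ₐ[S] S' ⊗[S] R).toRingHom)
      fun r z => by exact (hj ((Algebra.TensorProduct.includeRight : R →ₐ[S] S' ⊗[S] R) r) z).eq
  let jE : E →ₐ[R] S' ⊗[S] A :=
    { j.toRingHom.comp τ with commutes' := fun r => congrArg j (hτ r) }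
  let iA : A →ₐ[R] S' ⊗[S] A :=
    { (Algebra.TensorProduct.includeRight : A →ₐ[S] S' ⊗[S] A).toRingHom with
      commutes' := fun r => by
        show (1 : S') ⊗ₜ[S] algebraMap R A r = j ((1 : S') ⊗ₜ[S] r)
        simp [j] }
  let Φ : E ⊗[R] Shrink.{v} A →ₐ[R] S' ⊗[S] A :=
    Algebra.TensorProduct.lift jE (iA.comp eA.symm.toAlgHom) fun x a => hj _ _
  have hFj : ∀ t, F (j t) = Matrix.scalar (Fin n) t := fun t => by
    induction t using TensorProduct.induction_on with
    | zero => simp
    | add a b ha hb => simp only [map_add, ha, hb]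
    | tmul s r =>
      simp only [j, F, Algebra.TensorProduct.map_tmul, AlgHom.id_apply, IsScalarTower.coe_toAlgHom',
        Algebra.TensorProduct.lift_tmul]
      show _ * mτ (e' (algebraMap R A r)) = _
      rw [hρR, Algebra.ofId_apply, Matrix.algebraMap_eq_diagonal, Matrix.scalar_apply, Matrix.scalar_apply,
        Matrix.diagonal_mul_diagonal]
      congr 1
      funext i
      simp
  have hFΦ : ∀ y, F (Φ y) = mτ (e y) := fun y => by
    induction y using TensorProduct.induction_on with
    | zero => simp
    | add a b ha hb => simp only [map_add, ha, hb]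
    | tmul x a =>
      rw [show x ⊗ₜ[R] a = (x ⊗ₜ[R] 1) * ((1 : E) ⊗ₜ[R] a) by simp, map_mul, map_mul, map_mul, map_mul]
      congr 1
      · have h1 : e (x ⊗ₜ[R] (1 : Shrink.{v} A)) = Matrix.scalar (Fin n) x := e.commutes x
        rw [h1, show Φ (x ⊗ₜ[R] 1) = j (τ x) by simp [Φ, jE], hFj]
        ext i k
        simp [mτ, Matrix.diagonal_apply, apply_ite τ]
      · obtain ⟨a, rfl⟩ := eA.surjective a
        rw [show Φ ((1 : E) ⊗ₜ[R] eA a) = (1 : S') ⊗ₜ[S] a by simp [Φ, iA]]
        show F ((1 : S') ⊗ₜ[S] a) = _
        simp only [F, Algebra.TensorProduct.lift_tmul, map_one, one_mul]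
        rfl
  let G : Matrix (Fin n) (Fin n) (S' ⊗[S] R) → S' ⊗[S] A :=
    fun M => ∑ k, ∑ l, j (M k l) * Φ (e.symm (Matrix.single k l 1))
  have hFG : ∀ M, F (G M) = M := fun M => by
    simp only [G, map_sum, map_mul, hFj, hFΦ, AlgEquiv.apply_symm_apply]
    conv_rhs => rw [Matrix.matrix_eq_sum_single M]
    refine Finset.sum_congr rfl fun k _ => Finset.sum_congr rfl fun l _ => ?_
    ext a b
    simp [mτ, Matrix.scalar_apply, Matrix.single_apply, apply_ite τ]
  have hGadd : ∀ M N, G (M + N) = G M + G N := fun M N => by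
    simp [G, Finset.sum_add_distrib, add_mul]
  have hGF : ∀ z, G (F z) = z := fun z => by
    induction z using TensorProduct.induction_on with
    | zero => simp [G]
    | add a b ha hb => rw [map_add, hGadd, ha, hb]
    | tmul s a =>
      set M := e ((1 : E) ⊗ₜ[R] eA a) with hM
      have hFs : ∀ k l, F (s ⊗ₜ[S] a) k l = (s ⊗ₜ[S] (1 : R)) * τ (M k l) := fun k l => by
        simp only [F, Algebra.TensorProduct.lift_tmul, Algebra.ofId_apply, Matrix.algebraMap_eq_diagonal,
          Matrix.diagonal_mul, Pi.algebraMap_apply]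
        rfl
      have hjM : ∀ x, j (τ x) = Φ (x ⊗ₜ[R] 1) := fun x => by simp [Φ, jE]
      simp only [G, hFs, map_mul, hjM, mul_assoc]
      simp only [← map_mul Φ]
      rw [show j (s ⊗ₜ[S] (1 : R)) = s ⊗ₜ[S] (1 : A) by simp [j]]
      simp only [← Finset.mul_sum, ← map_sum]
      have : ∑ k, ∑ l, (M k l ⊗ₜ[R] (1 : Shrink.{v} A)) * e.symm (Matrix.single k l 1) = (1 : E) ⊗ₜ[R] eA a := by
        apply e.injective
        rw [← hM]
        simp only [map_sum, map_mul, AlgEquiv.apply_symm_apply]
        conv_rhs => rw [Matrix.matrix_eq_sum_single M]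
        refine Finset.sum_congr rfl fun k _ => Finset.sum_congr rfl fun l _ => ?_
        rw [show e (M k l ⊗ₜ[R] (1 : Shrink.{v} A)) = Matrix.scalar (Fin n) (M k l) from e.commutes _]
        ext a b
        simp [Matrix.scalar_apply, Matrix.single_apply]
      rw [this]
      simp [Φ, iA]
  refine ⟨S', inferInstance, inferInstance, inferInstance, inferInstance,
    AlgEquiv.ofBijective F ⟨Function.LeftInverse.injective hGF, Function.RightInverse.surjective hFG⟩, fun r x => ?_⟩
  show F _ = _ * F x
  rw [map_mul, ← hFj]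
  congr 2

end Groth.Agent.AzInvLib
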