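import Groth.Agent.AzInvLib.EtaleSection
import Groth.Agent.AzInvLib.SplitFixed
import Groth.Agent.AzInvLib.Iso
import Groth.Agent.RInvLib.Basic
import Groth.Agent.HenselLib.HullFlat
import Mathlib

/-!
# The ring with involution over the strict henselization of the fixed ring at a prime
-/

set_option autoImplicit false
set_option linter.style.haveILetI false

universe u v w

open TensorProduct

namespace Groth.Agent.AzInvLib

open Groth.Agent.HenselLib

variable {S : Type u} {R : Type v} [CommRing S] [CommRing R] [Algebra S R] {lam : R ≃ₐ[S] R}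

/-- The strict henselization at `p`. -/
abbrev SH (p : PrimeSpectrum S) : Type u := Hull S (AlgebraicClosure p.asIdeal.ResidueField)

instance (p : PrimeSpectrum S) : HenselianLocalRing (SH p) := henselianLocalRing_hull

variable (lam) in
/-- The base change of the involution. -/
noncomputable def sig (T : Type*) [CommRing T] [Algebra S T] : (T ⊗[S] R) ≃+* (T ⊗[S] R) :=
  (Algebra.TensorProduct.congr (AlgEquiv.refl : T ≃ₐ[S] T) lam).toRingEquiv

@[simp] theorem sig_tmul (T : Type*) [CommRing T] [Algebra S T] (c : T) (r : R) :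
    sig lam T (c ⊗ₜ[S] r) = c ⊗ₜ[S] lam r := by simp [sig]

theorem sig_involutive (hlam : ∀ r, lam (lam r) = r) (T : Type*) [CommRing T] [Algebra S T] :
    Function.Involutive (sig lam T) := fun z => by
  induction z using TensorProduct.induction_on with
  | zero => simp
  | add a b ha hb => simp only [map_add, ha, hb]
  | tmul c r => simp [hlam]

theorem isFixedRing_sig (hfix : RInv.IsFixedRing S R lam.toRingEquiv) (T : Type u) [CommRing T] [Algebra S T]
    [Module.Flat S T] : RInv.IsFixedRing T (T ⊗[S] R) (sig lam T) := by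
  let δ : R →ₗ[S] R := lam.toLinearMap - LinearMap.id
  have hex : Function.Exact (Algebra.linearMap S R) δ := fun r => by
    show lam r - r = 0 ↔ _
    rw [sub_eq_zero]
    exact hfix.2 r
  have hex' := Module.Flat.lTensor_exact T hex
  have e : ∀ c : T, algebraMap T (T ⊗[S] R) c = (Algebra.linearMap S R).lTensor T (c ⊗ₜ[S] (1 : S)) := fun c => by
    simp
  refine ⟨fun a b hab => ?_, fun z => ?_⟩
  · rw [e, e] at hab
    simpa using congrArg (TensorProduct.rid S T) (Module.Flat.lTensor_preserves_injective_linearMap _ hfix.1 hab)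
  · have hd : δ.lTensor T z = sig lam T z - z := by
      induction z using TensorProduct.induction_on with
      | zero => simp
      | add a b ha hb => rw [map_add, map_add, ha, hb]; abel
      | tmul c r => simp [δ, TensorProduct.tmul_sub]
    rw [← sub_eq_zero, ← hd, hex' z]
    refine ⟨fun ⟨w, hw⟩ => ?_, fun ⟨c, hc⟩ => ⟨c ⊗ₜ[S] (1 : S), by rw [← e, hc]⟩⟩
    refine ⟨TensorProduct.rid S T w, ?_⟩
    rw [e, ← hw]
    congr 1
    rw [← TensorProduct.rid_symm_apply, LinearEquiv.symm_apply_apply]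

theorem comap_maximalIdeal_SH (p : PrimeSpectrum S) :
    (IsLocalRing.maximalIdeal (SH p)).comap (algebraMap S (SH p)) = p.asIdeal := by
  rw [show IsLocalRing.maximalIdeal (SH p) = RingHom.ker (hullPt S _) from maximalIdeal_hull]
  ext s
  rw [Ideal.mem_comap, RingHom.mem_ker, AlgHom.commutes,
    IsScalarTower.algebraMap_apply S p.asIdeal.ResidueField (AlgebraicClosure p.asIdeal.ResidueField),
    map_eq_zero, Ideal.algebraMap_residueField_eq_zero]

theorem isUnit_algebraMap_SH {p : PrimeSpectrum S} {s : S} (h : IsUnit (algebraMap S (SH p) s)) : s ∉ p.asIdeal := by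
  intro hs
  rw [← comap_maximalIdeal_SH p, Ideal.mem_comap, IsLocalRing.mem_maximalIdeal] at hs
  exact hs h

/-- Etale algebras with a point over `p` map to the strict henselization. -/
theorem exists_map_SH (p : PrimeSpectrum S) (S' : Type u) [CommRing S'] [Algebra S S'] [Algebra.Etale S S']
    (h : p ∈ Set.range (PrimeSpectrum.comap (algebraMap S S'))) : Nonempty (S' →ₐ[S] SH p) := by
  have e : (⟨RingHom.ker (algebraMap S (AlgebraicClosure p.asIdeal.ResidueField)), RingHom.ker_isPrime _⟩ :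
      PrimeSpectrum S) = p := by
    ext s
    rw [RingHom.mem_ker, IsScalarTower.algebraMap_apply S p.asIdeal.ResidueField (AlgebraicClosure p.asIdeal.ResidueField),
      map_eq_zero, Ideal.algebraMap_residueField_eq_zero]
  obtain ⟨σ⟩ := nonempty_algHom_of_etale.{u, u} (R := S) (E := S') (F := AlgebraicClosure p.asIdeal.ResidueField)
    (by rw [e]; exact h)
  obtain ⟨f, -⟩ := exists_map_of_etale σ
  exact ⟨f⟩

theorem exists_sqrt_SH
    (hsq : ∀ (S₁ : Type u) [CommRing S₁] [Algebra S S₁] [Algebra.Etale S S₁] (x : S₁ˣ),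
      ∃ (S₂ : Type u) (_ : CommRing S₂) (_ : Algebra S₁ S₂) (_ : Algebra.Etale S₁ S₂)
        (_ : Module.FaithfullyFlat S₁ S₂) (y : S₂), y * y = algebraMap S₁ S₂ ↑x)
    (p : PrimeSpectrum S) (x : (SH p)ˣ) : ∃ y : SH p, y * y = x := by
  let K := AlgebraicClosure p.asIdeal.ResidueField
  obtain ⟨P, x₀, hx₀⟩ := exists_rep (x : SH p)
  have hpt : P.pt x₀ ≠ 0 := fun h => by
    have h1 := (x.isUnit.map (hullPt S K)).ne_zero
    rw [← hx₀, hullPt_ι] at h1
    exact h1 h
  let L := Localization.Away x₀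
  haveI := Algebra.Etale.of_isLocalizationAway (R := P.Ring) (A := L) x₀
  haveI : Algebra.Etale S L := Algebra.Etale.comp S P.Ring L
  have hpu : IsUnit (P.pt.toRingHom x₀) := isUnit_iff_ne_zero.2 hpt
  let σL : L →ₐ[S] K :=
    { IsLocalization.Away.lift x₀ hpu with
      commutes' := fun s => by
        show IsLocalization.Away.lift x₀ hpu (algebraMap S L s) = _
        rw [IsScalarTower.algebraMap_apply S P.Ring L, IsLocalization.Away.lift_eq]
        exact P.pt.commutes s }
  obtain ⟨Q, g, e, -, hg⟩ := P.exists_hom σL (IsScalarTower.toAlgHom S P.Ring L)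
    (AlgHom.ext fun y => IsLocalization.Away.lift_eq x₀ hpu y)
  have hQu : IsUnit (g.map x₀) := by
    rw [hg]
    exact (IsLocalization.Away.algebraMap_isUnit x₀).map e.symm.toAlgHom
  obtain ⟨S₂, _, _, _, _, y, hy⟩ := hsq Q.Ring hQu.unit
  letI : Algebra S S₂ := ((algebraMap Q.Ring S₂).comp (algebraMap S Q.Ring)).toAlgebra
  haveI : IsScalarTower S Q.Ring S₂ := IsScalarTower.of_algebraMap_eq' (R := S) (S := Q.Ring) (A := S₂) rfl
  haveI : Algebra.Etale S S₂ := Algebra.Etale.comp S Q.Ring S₂
  letI : Algebra Q.Ring K := Q.pt.toRingHom.toAlgebra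
  haveI : IsScalarTower S Q.Ring K := IsScalarTower.of_algHom Q.pt
  obtain ⟨τ⟩ := nonempty_algHom_of_etale.{u, u} (R := Q.Ring) (E := S₂) (F := K)
    (PrimeSpectrum.comap_surjective_of_faithfullyFlat (A := Q.Ring) (B := S₂) _)
  obtain ⟨Q₂, g₂, e₂, -, hg₂⟩ := Q.exists_hom (τ.restrictScalars S) (IsScalarTower.toAlgHom S Q.Ring S₂)
    (AlgHom.ext fun z => τ.commutes z)
  refine ⟨ι Q₂ (e₂.symm y), ?_⟩
  rw [← map_mul, ← map_mul, hy, ← hx₀, ← ι_map g, ← ι_map g₂, hg₂, IsUnit.unit_spec]
  rfl

/-- The ramification condition at `p`. -/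
def IsRam (lam : R ≃ₐ[S] R) (p : PrimeSpectrum S) : Prop :=
  ∀ Q : PrimeSpectrum R, Q.asIdeal.comap (algebraMap S R) = p.asIdeal → ∀ r, lam r - r ∈ Q.asIdeal

theorem isRam_iff (hlam : ∀ r, lam (lam r) = r) (hfix : RInv.IsFixedRing S R lam.toRingEquiv) (p : PrimeSpectrum S) :
    IsRam lam p ↔ ∀ z : SH p ⊗[S] R, sig lam (SH p) z - z ∈ Ring.jacobson (SH p ⊗[S] R) := by
  have hσ := sig_involutive hlam (SH p)
  have hF := isFixedRing_sig hfix (SH p)
  haveI : Algebra.IsIntegral (SH p) (SH p ⊗[S] R) := RInvLib.isIntegral_fixed hσ hF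
  let inc : R →ₐ[S] SH p ⊗[S] R := Algebra.TensorProduct.includeRight
  have hover : ∀ (M : Ideal (SH p ⊗[S] R)), M.comap (algebraMap (SH p) _) = IsLocalRing.maximalIdeal (SH p) →
      (M.comap inc).comap (algebraMap S R) = p.asIdeal := by
    intro M hM
    refine Eq.trans ?_ ((congrArg (Ideal.comap (algebraMap S (SH p))) hM).trans (comap_maximalIdeal_SH p))
    rw [← Ideal.comap_coe inc, Ideal.comap_comap, Ideal.comap_comap,
      AlgHom.comp_algebraMap, ← IsScalarTower.algebraMap_eq]
  have key : ∀ (M : Ideal (SH p ⊗[S] R)) (r : R), lam r - r ∈ M.comap inc ↔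
      sig lam (SH p) ((1 : SH p) ⊗ₜ[S] r) - (1 : SH p) ⊗ₜ[S] r ∈ M := fun M r => by
    rw [Ideal.mem_comap, map_sub, sig_tmul]
    rfl
  constructor
  · intro h z
    rw [RInvLib.mem_jacobson_iff]
    intro M hM
    haveI := hM
    have hMm := RInvLib.comap_maximal hσ hF M
    induction z using TensorProduct.induction_on with
    | zero => simp
    | add a b ha hb => rw [map_add, add_sub_add_comm]; exact add_mem ha hb
    | tmul c r =>
      have h1 : (1 : SH p) ⊗ₜ[S] lam r - (1 : SH p) ⊗ₜ[S] r ∈ M := by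
        have := (key M r).1 (h ⟨M.comap inc, inferInstance⟩ (hover M hMm) r)
        rwa [sig_tmul] at this
      have := M.mul_mem_left (c ⊗ₜ[S] (1 : R)) h1
      rw [mul_sub, Algebra.TensorProduct.tmul_mul_tmul, Algebra.TensorProduct.tmul_mul_tmul, mul_one, one_mul, one_mul] at this
      rwa [sig_tmul]
  · intro h Q hQ r
    obtain ⟨M, -, hM, hMm⟩ := Ideal.exists_ideal_over_prime_of_isIntegral (IsLocalRing.maximalIdeal (SH p))
      (⊥ : Ideal (SH p ⊗[S] R)) (by rw [← RingHom.ker_eq_comap_bot, (RingHom.injective_iff_ker_eq_bot _).1 hF.1]; exact bot_le)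
    haveI := hM
    haveI : M.IsMaximal := Ideal.isMaximal_of_isIntegral_of_isMaximal_comap M (by rw [hMm]; infer_instance)
    have hr : ∀ r, lam r - r ∈ M.comap inc := fun r => (key M r).2 (RInvLib.mem_jacobson_iff.1 (h _) M inferInstance)
    rcases prime_eq_or_eq_comap (lam := lam.toRingEquiv) hlam hfix (M.comap inc) Q.asIdeal
      (by rw [hQ, hover M hMm]) with e | e
    · rw [e]; exact hr r
    · rw [e]
      show lam (lam r - r) ∈ M.comap inc
      have := (M.comap inc).neg_mem (hr r)
      rwa [map_sub, hlam, ← neg_sub]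

theorem not_isRam_of_isQuadEtale (hlam : ∀ r, lam (lam r) = r) (hfix : RInv.IsFixedRing S R lam.toRingEquiv)
    (hq : RInv.IsQuadEtale S R) (p : PrimeSpectrum S) : ¬ IsRam lam p := by
  rw [isRam_iff hlam hfix]
  intro h
  obtain ⟨h1, h2, h3, h4⟩ := hq
  haveI := h1
  haveI := h2
  haveI := h3
  refine RInvLib.not_isQuadEtale_of_trivial (sig_involutive hlam (SH p)) (isFixedRing_sig hfix (SH p)) h
    ⟨inferInstance, inferInstance, inferInstance, fun q => ?_⟩
  rw [Module.rankAtStalk_baseChange, h4]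

/-- Azumaya algebras split at the strict henselization. -/
theorem exists_split_SH (hlam : ∀ r, lam (lam r) = r) (hfix : RInv.IsFixedRing S R lam.toRingEquiv)
    (A : Type w) [Ring A] [Algebra S A] [Algebra R A] [IsScalarTower S R A] (n : ℕ)
    (hA : AzInv.IsAzumayaDeg R A n) (p : PrimeSpectrum S) :
    Nonempty (LIso S R (SH p) A (Matrix (Fin n) (Fin n) R)) := by
  obtain ⟨S', _, _, _, _, f, hf⟩ := exists_split_fixed (lam := lam.toRingEquiv) A hlam hfix n hA
  obtain ⟨g⟩ := exists_map_SH p S' (PrimeSpectrum.comap_surjective_of_faithfullyFlat p)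
  refine ⟨LIso.push (SH p) g ⟨f.trans (kappa R S' (Fin n)).symm, fun r x => ?_⟩⟩
  apply (kappa R S' (Fin n)).injective
  rw [AlgEquiv.trans_apply, AlgEquiv.trans_apply, AlgEquiv.apply_symm_apply, hf, map_mul, kappa_algebraMap,
    AlgEquiv.apply_symm_apply, Algebra.algebraMap_self, RingHom.id_apply]

end Groth.Agent.AzInvLib
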