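import Groth.Agent.HenselLib.HullFlat
import Groth.Agent.HenselLib.Pointed
import Mathlib

/-!
# Tensor products with a hull are unions of tensor products with the stages
-/

set_option autoImplicit false

universe u v

open TensorProduct CategoryTheory

namespace Groth.Agent.AzInvLib

open Groth.Agent.HenselLib

variable {S : Type u} [CommRing S] {K : Type u} [CommRing K] [Algebra S K] (R : Type v) [CommRing R] [Algebra S R]

/-- The map from a stage of the hull tensored with `R`. -/
noncomputable def stageMap (P : Pt S K) : P.Ring ⊗[S] R →ₐ[S] Hull S K ⊗[S] R :=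
  Algebra.TensorProduct.map (ι P) (AlgHom.id S R)

/-- Transition maps. -/
noncomputable def transMap {P Q : Pt S K} (g : P ⟶ Q) : P.Ring ⊗[S] R →ₐ[S] Q.Ring ⊗[S] R :=
  Algebra.TensorProduct.map g.map (AlgHom.id S R)

theorem stageMap_transMap {P Q : Pt S K} (g : P ⟶ Q) (z : P.Ring ⊗[S] R) :
    stageMap R Q (transMap R g z) = stageMap R P z := by
  induction z using TensorProduct.induction_on with
  | zero => simp
  | add a b ha hb => simp only [map_add, ha, hb]
  | tmul a r => simp [stageMap, transMap, ι_map]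

theorem transMap_comp {P Q T : Pt S K} (g : P ⟶ Q) (h : Q ⟶ T) (z : P.Ring ⊗[S] R) :
    transMap R (g ≫ h) z = transMap R h (transMap R g z) := by
  induction z using TensorProduct.induction_on with
  | zero => simp
  | add a b ha hb => simp only [map_add, ha, hb]
  | tmul a r => simp [transMap, Pt.comp_map]

theorem transMap_includeRight {P Q : Pt S K} (g : P ⟶ Q) (r : R) :
    transMap R g (Algebra.TensorProduct.includeRight r) = Algebra.TensorProduct.includeRight r := by
  simp [transMap]

/-- Every element comes from a stage. -/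
theorem exists_stage (z : Hull S K ⊗[S] R) : ∃ (P : Pt S K) (y : P.Ring ⊗[S] R), stageMap R P y = z := by
  induction z using TensorProduct.induction_on with
  | zero =>
    obtain ⟨P, -, -⟩ := exists_rep (0 : Hull S K)
    exact ⟨P, 0, map_zero _⟩
  | tmul h r =>
    obtain ⟨P, x, rfl⟩ := exists_rep h
    exact ⟨P, x ⊗ₜ r, by simp [stageMap]⟩
  | add a b ha hb =>
    obtain ⟨P, x, rfl⟩ := ha
    obtain ⟨Q, y, rfl⟩ := hb
    obtain ⟨T, g, h, -⟩ := IsFilteredOrEmpty.cocone_objs P Q
    exact ⟨T, transMap R g x + transMap R h y, by rw [map_add, stageMap_transMap, stageMap_transMap]⟩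

/-- Finitely many elements come from a common stage. -/
theorem exists_stage_finite {m : ℕ} (z : Fin m → Hull S K ⊗[S] R) :
    ∃ (P : Pt S K) (y : Fin m → P.Ring ⊗[S] R), ∀ i, stageMap R P (y i) = z i := by
  induction m with
  | zero =>
    obtain ⟨P, -, -⟩ := exists_rep (0 : Hull S K)
    exact ⟨P, Fin.elim0, fun i => i.elim0⟩
  | succ m ih =>
    obtain ⟨P, y, hy⟩ := ih fun i => z i.succ
    obtain ⟨Q, x, hx⟩ := exists_stage R (z 0)
    obtain ⟨T, g, h, -⟩ := IsFilteredOrEmpty.cocone_objs P Q
    refine ⟨T, Fin.cons (transMap R h x) (fun i => transMap R g (y i)), fun i => ?_⟩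
    refine Fin.cases ?_ (fun j => ?_) i
    · rw [Fin.cons_zero, stageMap_transMap, hx]
    · rw [Fin.cons_succ, stageMap_transMap, hy]

/-- Elements dying in the limit die at some stage. -/
theorem exists_transMap_eq_zero {P : Pt S K} (z : P.Ring ⊗[S] R) (hz : stageMap R P z = 0) :
    ∃ (Q : Pt S K) (g : P ⟶ Q), transMap R g z = 0 := by
  classical
  obtain ⟨s, rfl⟩ := TensorProduct.exists_finset z
  have hrel : ∑ i : s, (i.1.2 : R) ⊗ₜ[S] ι P i.1.1 = 0 := by
    have h := congrArg (TensorProduct.comm S (Hull S K) R) hz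
    rw [map_zero, map_sum, map_sum] at h
    rw [Finset.univ_eq_attach, Finset.sum_attach s (fun i => i.2 ⊗ₜ[S] ι P i.1)]
    simpa [stageMap] using h
  obtain ⟨k, a, y, hay, ha⟩ := TensorProduct.vanishesTrivially_of_sum_tmul_eq_zero_of_rTensor_injective S
    (Module.Flat.rTensor_preserves_injective_linearMap _ Subtype.val_injective) hrel
  obtain ⟨Q, y', hy'⟩ := exists_rep_fintype y
  obtain ⟨T, g, h, -⟩ := IsFilteredOrEmpty.cocone_objs P Q
  have hstep : ∀ t : Finset s, ∃ (W : Pt S K) (w : T ⟶ W),
      ∀ i ∈ t, w.map (g.map i.1.1) = w.map (h.map (∑ j, a i j • y' j)) := by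
    intro t
    induction t using Finset.induction_on with
    | empty => exact ⟨T, 𝟙 T, by simp⟩
    | insert i t _ ih =>
      obtain ⟨W, w, hw⟩ := ih
      have h0 : ι W (w.map (g.map i.1.1 - h.map (∑ j, a i j • y' j))) = 0 := by
        rw [ι_map, map_sub, ι_map, ι_map, sub_eq_zero, show ι P i.1.1 = ∑ j, a i j • y j from hay i, map_sum]
        simp only [map_smul, hy']
      obtain ⟨V, v, hv⟩ := (exists_eq_zero_iff _).1 h0
      refine ⟨V, w ≫ v, fun j hj => ?_⟩
      rcases Finset.mem_insert.1 hj with rfl | hj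
      · rwa [map_sub, map_sub, sub_eq_zero] at hv
      · simp [Pt.comp_map, hw j hj]
  obtain ⟨W, w, hw⟩ := hstep Finset.univ
  refine ⟨W, g ≫ w, ?_⟩
  rw [map_sum, ← Finset.sum_attach s, ← Finset.univ_eq_attach]
  calc _ = ∑ i : s, w.map (g.map i.1.1) ⊗ₜ[S] (i.1.2 : R) := Finset.sum_congr rfl fun i _ => by simp [transMap, Pt.comp_map]
    _ = ∑ j, w.map (h.map (y' j)) ⊗ₜ[S] (∑ i : s, a i j • (i.1.2 : R)) := by
        simp only [hw _ (Finset.mem_univ _), map_sum, map_smul, TensorProduct.sum_tmul, TensorProduct.tmul_sum,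
          TensorProduct.smul_tmul]
        exact Finset.sum_comm
    _ = 0 := Finset.sum_eq_zero fun j _ => by rw [ha j, TensorProduct.tmul_zero]

/-- Finitely many elements dying in the limit die at a common stage. -/
theorem exists_transMap_eq_zero_finset {P : Pt S K} {α : Type*} (t : Finset α) (z : α → P.Ring ⊗[S] R)
    (hz : ∀ a ∈ t, stageMap R P (z a) = 0) : ∃ (Q : Pt S K) (g : P ⟶ Q), ∀ a ∈ t, transMap R g (z a) = 0 := by
  classical
  induction t using Finset.induction_on with
  | empty => exact ⟨P, 𝟙 P, by simp⟩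
  | insert a t _ ih =>
    obtain ⟨Q, g, hg⟩ := ih fun b hb => hz b (Finset.mem_insert_of_mem hb)
    obtain ⟨T, h, hh⟩ := exists_transMap_eq_zero R (transMap R g (z a))
      (by rw [stageMap_transMap, hz a (Finset.mem_insert_self _ _)])
    refine ⟨T, g ≫ h, fun b hb => ?_⟩
    rw [transMap_comp]
    rcases Finset.mem_insert.1 hb with rfl | hb
    · exact hh
    · rw [hg b hb, map_zero]

end Groth.Agent.AzInvLib
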