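import Groth.Agent.AzInvLib.Types
import Groth.Agent.CSA.EtaleSpread
import Mathlib

/-!
# The locus of orthogonality, and involutions with `2` invertible
-/

set_option autoImplicit false
set_option linter.style.haveILetI false

universe u v w w'

open TensorProduct Matrix Polynomial

namespace Groth.Agent.AzInvLib

variable {S : Type u} [CommRing S]

/-- Square roots exist etale-locally if `2` is a unit. -/
theorem hsq_of_isUnit_two (h2 : IsUnit (2 : S)) :
    ∀ (S₁ : Type u) [CommRing S₁] [Algebra S S₁] [Algebra.Etale S S₁] (x : S₁ˣ),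
      ∃ (S₂ : Type u) (_ : CommRing S₂) (_ : Algebra S₁ S₂) (_ : Algebra.Etale S₁ S₂)
        (_ : Module.FaithfullyFlat S₁ S₂) (y : S₂), y * y = algebraMap S₁ S₂ ↑x := by
  intro S₁ _ _ _ x
  rcases subsingleton_or_nontrivial S₁ with h | h
  · exact ⟨S₁, inferInstance, inferInstance, inferInstance, inferInstance, 0, Subsingleton.elim _ _⟩
  let q : S₁[X] := X ^ 2 - C (x : S₁)
  have hq : q.Monic := monic_X_pow_sub_C _ two_ne_zero
  have h2' : IsUnit (2 : S₁) := by
    have := h2.map (algebraMap S S₁)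
    rwa [map_ofNat] at this
  obtain ⟨c, hc⟩ := h2'.exists_left_inv
  have hsep : q.Separable := by
    refine ⟨-C (↑x⁻¹ : S₁), C ((↑x⁻¹ : S₁) * c) * X, ?_⟩
    have h1 : C (↑x⁻¹ : S₁) * C (x : S₁) = 1 := by rw [← C_mul, Units.inv_mul, C_1]
    have h3 : C c * (2 : S₁[X]) = 1 := by rw [← C_ofNat, ← C_mul, hc, C_1]
    rw [show derivative q = 2 * X by simp [q]; ring, C_mul]
    linear_combination h1 + (C (↑x⁻¹ : S₁) * X ^ 2) * h3
  haveI := Groth.Agent.SmoothLib.etale_adjoinRoot_of_separable q hq hsep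
  haveI := hq.free_adjoinRoot
  haveI : Nontrivial (AdjoinRoot q) := by
    haveI : Nonempty (Fin (AdjoinRoot.powerBasis' hq).dim) :=
      ⟨⟨0, by rw [AdjoinRoot.powerBasis'_dim, natDegree_X_pow_sub_C]; exact two_pos⟩⟩
    exact (AdjoinRoot.powerBasis' hq).basis.repr.toEquiv.nontrivial
  refine ⟨AdjoinRoot q, inferInstance, inferInstance, inferInstance, inferInstance, AdjoinRoot.root q, ?_⟩
  have this : Polynomial.aeval (AdjoinRoot.root q) q = 0 := (AdjoinRoot.aeval_eq q).trans AdjoinRoot.mk_self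
  simp only [q, map_sub, map_pow, aeval_X, aeval_C] at this
  rw [← sq]
  exact sub_eq_zero.1 this

variable {R : Type v} [CommRing R] [Algebra S R] {lam : R ≃ₐ[S] R}
  (hlam : ∀ r, lam (lam r) = r) (hfix : RInv.IsFixedRing S R lam.toRingEquiv)
variable {A : Type w} [Ring A] [Algebra S A] [Algebra R A] [IsScalarTower S R A]
variable {A' : Type w'} [Ring A'] [Algebra S A'] [Algebra R A'] [IsScalarTower S R A']

theorem isUnit_two_SH (h2 : IsUnit (2 : S)) (p : PrimeSpectrum S) : IsUnit (2 : SH p ⊗[S] R) := by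
  have := h2.map (algebraMap S (SH p ⊗[S] R))
  rwa [map_ofNat] at this

include hlam hfix in
/-- Orthogonality of matrices, with `2` invertible in the ramified case. -/
theorem orth_matrix_iff (h2 : IsUnit (2 : S)) {p : PrimeSpectrum S} {n : ℕ} (hn : 0 < n)
    (φ : LIso S R (SH p) A (Matrix (Fin n) (Fin n) R)) (t : AzInv.LamInv R A lam) (hram : IsRam lam p) {m : ℕ} (hm : 0 < m) :
    Orth hlam p (m * n) (t.matrix (Fin m)) ↔ Orth hlam p n t := by
  refine ⟨fun h => ?_, fun h => h.matrix hlam m⟩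
  rcases orth_or_symp hlam hfix p (hsq_of_isUnit_two h2) hn (Or.inl h2) φ t with h' | ⟨-, -, -, hs⟩
  · exact h'
  · exact absurd h (hs.not_orth_matrix hlam hfix hn hram (isUnit_two_SH h2 p) hm)

include hlam hfix in
/-- Off the ramification locus the localized extension is quadratic etale. -/
theorem isQuadEtale_localization (p : PrimeSpectrum S) (h : ¬ IsRam lam p) :
    RInv.IsQuadEtale (Localization.AtPrime p.asIdeal) (Localization.AtPrime p.asIdeal ⊗[S] R) := by
  let Sp := Localization.AtPrime p.asIdeal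
  have hF := isFixedRing_sig hfix Sp
  have hσ := sig_involutive hlam Sp
  haveI : Algebra.IsIntegral Sp (Sp ⊗[S] R) := RInvLib.isIntegral_fixed hσ hF
  refine RInvLib.isQuadEtale_of_nontrivial hσ hF ?_
  simp only [IsRam, not_forall] at h
  obtain ⟨Q, hQ, r, hr⟩ := h
  have hunit : ∀ y : p.asIdeal.primeCompl, IsUnit (algebraMap S Q.asIdeal.ResidueField (y : S)) := fun y => by
    rw [isUnit_iff_ne_zero, IsScalarTower.algebraMap_apply S R Q.asIdeal.ResidueField, Ne,
      Ideal.algebraMap_residueField_eq_zero, ← Ideal.mem_comap, hQ]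
    exact y.2
  let φ : Sp →ₐ[S] Q.asIdeal.ResidueField :=
    IsLocalization.liftAlgHom (M := p.asIdeal.primeCompl) (S := Sp) (f := Algebra.ofId S Q.asIdeal.ResidueField) hunit
  let ev : Sp ⊗[S] R →ₐ[S] Q.asIdeal.ResidueField :=
    Algebra.TensorProduct.lift φ (IsScalarTower.toAlgHom S R Q.asIdeal.ResidueField) fun _ _ => Commute.all _ _
  haveI := RingHom.ker_isPrime ev.toRingHom
  haveI : (RingHom.ker ev.toRingHom).IsMaximal := by
    refine Ideal.isMaximal_of_isIntegral_of_isMaximal_comap (R := Sp) _ ?_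
    have : (RingHom.ker ev.toRingHom).comap (algebraMap Sp (Sp ⊗[S] R)) = IsLocalRing.maximalIdeal Sp := by
      refine le_antisymm (IsLocalRing.le_maximalIdeal (Ideal.comap_ne_top _ (RingHom.ker_ne_top _))) ?_
      rw [← Localization.AtPrime.map_eq_maximalIdeal, Ideal.map_le_iff_le_comap, Ideal.comap_comap,
        ← IsScalarTower.algebraMap_eq]
      intro s hs
      rw [Ideal.mem_comap, RingHom.mem_ker, AlgHom.toRingHom_eq_coe, RingHom.coe_coe, AlgHom.commutes,
        IsScalarTower.algebraMap_apply S R Q.asIdeal.ResidueField, Ideal.algebraMap_residueField_eq_zero,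
        ← Ideal.mem_comap, hQ]
      exact hs
    rw [this]; infer_instance
  refine ⟨(1 : Sp) ⊗ₜ[S] r, fun hJ => hr ?_⟩
  have h1 := RInvLib.mem_jacobson_iff.1 hJ (RingHom.ker ev.toRingHom) inferInstance
  rw [sig_tmul, RingHom.mem_ker, ← TensorProduct.tmul_sub] at h1
  rw [← Ideal.algebraMap_residueField_eq_zero]
  simpa [ev] using h1

theorem finite_projective_matrix [Module.Finite R A] [Module.Projective R A] (m : ℕ) :
    Module.Finite R (Matrix (Fin m) (Fin m) A) ∧ Module.Projective R (Matrix (Fin m) (Fin m) A) := by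
  have e : (TensorProduct R (Matrix (Fin m) (Fin m) R) A) ≃ₗ[R] Matrix (Fin m) (Fin m) A :=
    (TensorProduct.comm R _ _).trans (matrixEquivTensor (Fin m) R A).symm.toLinearEquiv
  exact ⟨Module.Finite.equiv e, Module.Projective.of_equiv e⟩

/-- A split algebra with matrices. -/
noncomputable def splitMatrix {T : Type u} [CommRing T] [Algebra S T] {n : ℕ}
    (φ : LIso S R T A (Matrix (Fin n) (Fin n) R)) (m : ℕ) :
    LIso S R T (Matrix (Fin m) (Fin m) A) (Matrix (Fin (m * n)) (Fin (m * n)) R) :=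
  (φ.matrix (Fin m)).trans (LIso.ofAlgEquiv (compEquiv R m n))

omit hfix in
theorem orth_congr {p : PrimeSpectrum S} {N M : ℕ} (h : N = M) {t : AzInv.LamInv R A lam} :
    Orth hlam p N t ↔ Orth hlam p M t := by subst h; exact Iff.rfl

include hlam hfix in
/-- Same signs everywhere give the same type. -/
theorem sameType_of_orth_iff (h2 : IsUnit (2 : S)) {n n' : ℕ} (hn : 0 < n) (hn' : 0 < n')
    [Module.Finite R A] [Module.Projective R A] [Module.Finite R A'] [Module.Projective R A']
    (φ : ∀ p : PrimeSpectrum S, LIso S R (SH p) A (Matrix (Fin n) (Fin n) R))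
    (φ' : ∀ p : PrimeSpectrum S, LIso S R (SH p) A' (Matrix (Fin n') (Fin n') R))
    (t : AzInv.LamInv R A lam) (t' : AzInv.LamInv R A' lam)
    (h : ∀ p : PrimeSpectrum S, IsRam lam p → (Orth hlam p n t ↔ Orth hlam p n' t')) :
    AzInv.SameType S lam t t' := by
  obtain ⟨_, _⟩ := finite_projective_matrix (R := R) (A := A) n'
  obtain ⟨_, _⟩ := finite_projective_matrix (R := R) (A := A') n
  refine ⟨n', n, hn', hn, ?_⟩
  let ψ' : ∀ p : PrimeSpectrum S, LIso S R (SH p) (Matrix (Fin n) (Fin n) A') (Matrix (Fin (n' * n)) (Fin (n' * n)) R) :=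
    fun p => (splitMatrix (φ' p) n).trans (LIso.ofAlgEquiv (Matrix.reindexAlgEquiv R R (finCongr (mul_comm n n'))))
  refine locIso_of_orth_iff hlam hfix (hsq_of_isUnit_two h2) (Nat.mul_pos hn' hn) (Or.inl h2)
    (fun p => splitMatrix (φ p) n') ψ' _ _ fun p hram _ => ?_
  rw [orth_matrix_iff hlam hfix h2 hn (φ p) t hram hn', h p hram,
    orth_congr hlam (mul_comm n' n), orth_matrix_iff hlam hfix h2 hn' (φ' p) t' hram hn]

include hlam hfix in
/-- Where `2` is invertible and the quotient ramified, orthogonality is open and closed. -/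
theorem isClopen_orth (h2 : IsUnit (2 : S)) (hram : ∀ p : PrimeSpectrum S, IsRam lam p) {n : ℕ} (hn : 0 < n)
    [Module.Finite R A] [Module.Projective R A]
    (φ : ∀ p : PrimeSpectrum S, LIso S R (SH p) A (Matrix (Fin n) (Fin n) R)) (t : AzInv.LamInv R A lam) :
    IsClopen {p : PrimeSpectrum S | Orth hlam p n t} := by
  refine ⟨isOpen_compl_iff.1 ?_, isOpen_setOf_liso t (AzInv.LamInv.transpose lam (Fin n) hlam)⟩
  by_cases hev : Even n
  · convert isOpen_setOf_liso t (sympInv hlam n hev) using 1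
    ext p
    refine ⟨fun h => ?_, fun ⟨ψ, hψ⟩ => Symp.not_orth hlam hfix hn (hram p) (isUnit_two_SH h2 p) ⟨hev, ψ, hψ⟩⟩
    rcases orth_or_symp hlam hfix p (hsq_of_isUnit_two h2) hn (Or.inl h2) (φ p) t with h' | ⟨-, -, -, hev', ψ, hψ⟩
    · exact absurd h' h
    · exact ⟨ψ, hψ⟩
  · convert isOpen_empty using 1
    ext p
    refine ⟨fun h => ?_, fun h => h.elim⟩
    rcases orth_or_symp hlam hfix p (hsq_of_isUnit_two h2) hn (Or.inl h2) (φ p) t with h' | ⟨-, -, -, hev', -⟩
    · exact absurd h' h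
    · exact absurd hev' hev

end Groth.Agent.AzInvLib
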