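import Groth.Agent.AzInvLib.AtPrime
import Groth.Agent.AzInvLib.GlueIso

/-!
# Types of involutions: from the strict henselizations to etale covers
-/

set_option autoImplicit false
set_option linter.style.haveILetI false

universe u v w w'

open TensorProduct Matrix

namespace Groth.Agent.AzInvLib

open Groth.Agent.HenselLib CategoryTheory

variable {S : Type u} {R : Type v} [CommRing S] [CommRing R] [Algebra S R] {lam : R ≃ₐ[S] R}
  (hlam : ∀ r, lam (lam r) = r) (hfix : RInv.IsFixedRing S R lam.toRingEquiv)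
variable {A : Type w} [Ring A] [Algebra S A] [Algebra R A] [IsScalarTower S R A]
variable {A' : Type w'} [Ring A'] [Algebra S A'] [Algebra R A'] [IsScalarTower S R A']

section OfAlgEquiv

variable {T : Type*} [CommRing T] [Algebra S T]

/-- A global isomorphism. -/
noncomputable def LIso.ofAlgEquiv (g : A ≃ₐ[R] A') : LIso S R T A A' where
  f := Algebra.TensorProduct.congr (AlgEquiv.refl : T ≃ₐ[T] T) (g.restrictScalars S)
  compat r x := by
    rw [map_mul, Algebra.TensorProduct.congr_apply, Algebra.TensorProduct.map_tmul]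
    congr 1
    simp

theorem LIso.ofAlgEquiv_intertwines (g : A ≃ₐ[R] A') {t : AzInv.LamInv R A lam} {t' : AzInv.LamInv R A' lam}
    (h : AzInv.IsInvHom t t' g) : (LIso.ofAlgEquiv (S := S) (T := T) g).Intertwines t t' := fun x => by
  induction x using TensorProduct.induction_on with
  | zero => simp
  | add a b ha hb => simp only [map_add, ha, hb]
  | tmul c a =>
    show Algebra.TensorProduct.congr (AlgEquiv.refl : T ≃ₐ[T] T) (g.restrictScalars S) (t.bc S lam T (c ⊗ₜ a)) =
      t'.bc S lam T (Algebra.TensorProduct.congr (AlgEquiv.refl : T ≃ₐ[T] T) (g.restrictScalars S) (c ⊗ₜ a))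
    simp [h a]

end OfAlgEquiv

variable {p : PrimeSpectrum S}

theorem Orth.transport {n : ℕ} {t : AzInv.LamInv R A lam} {t' : AzInv.LamInv R A' lam}
    (φ : LIso S R (SH p) A A') (hφ : φ.Intertwines t t') (h : Orth hlam p n t') : Orth hlam p n t :=
  ⟨φ.trans h.choose, hφ.trans h.choose_spec⟩

variable (R) in
/-- `M_m(M_n R) = M_{mn}(R)`. -/
def compEquiv (m n : ℕ) : Matrix (Fin m) (Fin m) (Matrix (Fin n) (Fin n) R) ≃ₐ[R] Matrix (Fin (m * n)) (Fin (m * n)) R :=
  (Matrix.compAlgEquiv (Fin m) (Fin n) R R).trans (Matrix.reindexAlgEquiv R R finProdFinEquiv)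

theorem compEquiv_apply (m n : ℕ) (M : Matrix (Fin m) (Fin m) (Matrix (Fin n) (Fin n) R)) (a b : Fin (m * n)) :
    compEquiv R m n M a b = M (finProdFinEquiv.symm a).1 (finProdFinEquiv.symm b).1 (finProdFinEquiv.symm a).2
      (finProdFinEquiv.symm b).2 := rfl

theorem compEquiv_transpose (m n : ℕ) (M : Matrix (Fin m) (Fin m) (Matrix (Fin n) (Fin n) R)) :
    compEquiv R m n ((AzInv.LamInv.transpose lam (Fin n) hlam).matrix (Fin m) M) =
      AzInv.LamInv.transpose lam (Fin (m * n)) hlam (compEquiv R m n M) := by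
  ext a b
  simp [compEquiv_apply]

/-- Orthogonal is stable under matrices. -/
theorem Orth.matrix {n : ℕ} {t : AzInv.LamInv R A lam} (h : Orth hlam p n t) (m : ℕ) :
    Orth hlam p (m * n) (t.matrix (Fin m)) :=
  ⟨(h.choose.matrix (Fin m)).trans (LIso.ofAlgEquiv (compEquiv R m n)),
    (h.choose_spec.matrix (Fin m)).trans (LIso.ofAlgEquiv_intertwines _ (compEquiv_transpose hlam m n))⟩

include hfix in
/-- Matrices over a symplectic involution are not orthogonal. -/
theorem Symp.not_orth_matrix {n : ℕ} (hn : 0 < n) {t : AzInv.LamInv R A lam} (hram : IsRam lam p)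
    (h2 : IsUnit (2 : SH p ⊗[S] R)) (h : Symp hlam p n t) {m : ℕ} (hm : 0 < m) :
    ¬ Orth hlam p (m * n) (t.matrix (Fin m)) := by
  obtain ⟨hev, φ, hφ⟩ := h
  let D : (Matrix (Fin (m * n)) (Fin (m * n)) R)ˣ :=
    ⟨compEquiv R m n (Matrix.diagonal fun _ => ↑(stdJ R n hev)), compEquiv R m n (Matrix.diagonal fun _ => ↑(stdJ R n hev)⁻¹),
      by rw [← map_mul, Matrix.diagonal_mul_diagonal]; simp, by rw [← map_mul, Matrix.diagonal_mul_diagonal]; simp⟩
  have hD : AzInv.LamInv.transpose lam (Fin (m * n)) hlam (↑D : Matrix _ _ R) = (-1 : R) • (↑D : Matrix _ _ R) := by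
    show AzInv.LamInv.transpose lam (Fin (m * n)) hlam (compEquiv R m n _) = _
    rw [← compEquiv_transpose]
    show _ = (-1 : R) • compEquiv R m n _
    rw [← map_smul]
    congr 1
    ext1 i j
    rw [AzInv.LamInv.matrix_apply, Matrix.smul_apply]
    rcases eq_or_ne i j with rfl | hij
    · rw [Matrix.diagonal_apply_eq]; exact transpose_stdJ hlam n hev
    · rw [Matrix.diagonal_apply_ne _ hij.symm, Matrix.diagonal_apply_ne _ hij]; simp
  refine not_orth_of_skew hlam hfix p hram h2 (Nat.mul_pos hm hn) _ D hD (neg_one_mul_neg_one lam)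
    ((φ.matrix (Fin m)).trans (LIso.ofAlgEquiv (compEquiv R m n)))
    ((hφ.matrix (Fin m)).trans (LIso.ofAlgEquiv_intertwines _ fun M => ?_))
  rw [AzInv.LamInv.conj_apply, ← compEquiv_transpose]
  show _ = compEquiv R m n _ * _ * compEquiv R m n _
  rw [← map_mul, ← map_mul]
  congr 1
  ext1 i j
  rw [Matrix.mul_diagonal, Matrix.diagonal_mul, AzInv.LamInv.matrix_apply, AzInv.LamInv.matrix_apply, sympInv,
    AzInv.LamInv.conj_apply]

include hfix in
theorem Symp.not_orth {n : ℕ} (hn : 0 < n) {t : AzInv.LamInv R A lam} (hram : IsRam lam p)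
    (h2 : IsUnit (2 : SH p ⊗[S] R)) (h : Symp hlam p n t) : ¬ Orth hlam p n t :=
  not_orth_of_skew hlam hfix p hram h2 hn t _ (transpose_stdJ hlam n h.choose) (neg_one_mul_neg_one lam) h.choose_spec.choose
    h.choose_spec.choose_spec

include hfix in
/-- The size is determined. -/
theorem card_eq (φ : LIso S R (SH p) A A') {N N' : ℕ} (ψ : LIso S R (SH p) A (Matrix (Fin N) (Fin N) R))
    (ψ' : LIso S R (SH p) A' (Matrix (Fin N') (Fin N') R)) : N = N' := by
  haveI := nontrivial_base R hfix p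
  let χ := (ψ.symm.trans φ).trans ψ'
  let γ := ((kappa (S := S) R (SH p) (Fin N)).symm.trans χ.f).trans (kappa R (SH p) (Fin N'))
  have hg : ∀ r : R, γ (Matrix.scalar (Fin N) ((1 : SH p) ⊗ₜ[S] r)) = Matrix.scalar (Fin N') ((1 : SH p) ⊗ₜ[S] r) := fun r => by
    have h1 := χ.compat r 1
    rw [mul_one, map_one, mul_one] at h1
    have e : Matrix.scalar (Fin N) ((1 : SH p) ⊗ₜ[S] r) = kappa R (SH p) (Fin N) ((1 : SH p) ⊗ₜ[S] algebraMap R _ r) := by
      rw [kappa_algebraMap, Algebra.algebraMap_self, RingHom.id_apply]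
    show kappa R (SH p) (Fin N') (χ.f ((kappa R (SH p) (Fin N)).symm _)) = _
    rw [e, AlgEquiv.symm_apply_apply, h1, kappa_algebraMap, Algebra.algebraMap_self, RingHom.id_apply]
  have hz : ∀ z, γ (Matrix.scalar (Fin N) z) = Matrix.scalar (Fin N') z := fun z => by
    induction z using TensorProduct.induction_on with
    | zero => simp
    | add a b ha hb => simp only [map_add, ha, hb]
    | tmul c r =>
      have e : ∀ M : ℕ, Matrix.scalar (Fin M) (c ⊗ₜ[S] r) = c • Matrix.scalar (Fin M) ((1 : SH p) ⊗ₜ[S] r) := fun M => by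
        ext i j
        rcases eq_or_ne i j with rfl | h
        · simp [TensorProduct.smul_tmul']
        · simp [Matrix.diagonal_apply_ne _ h]
      rw [e, e, map_smul, hg]
  let γT : Matrix (Fin N) (Fin N) (SH p ⊗[S] R) ≃ₗ[SH p ⊗[S] R] Matrix (Fin N') (Fin N') (SH p ⊗[S] R) :=
    { γ.toAddEquiv with
      map_smul' := fun z M => by
        show γ (z • M) = z • γ M
        rw [Matrix.smul_eq_diagonal_mul, ← Matrix.scalar_apply, map_mul, hz, Matrix.scalar_apply,
          ← Matrix.smul_eq_diagonal_mul] }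
  have h1 := γT.finrank_eq
  rw [Module.finrank_matrix, Module.finrank_matrix, Module.finrank_self, Fintype.card_fin, Fintype.card_fin] at h1
  exact Nat.mul_self_inj.1 (by simpa using h1)

variable (hsq : ∀ (S₁ : Type u) [CommRing S₁] [Algebra S S₁] [Algebra.Etale S S₁] (x : S₁ˣ),
      ∃ (S₂ : Type u) (_ : CommRing S₂) (_ : Algebra S₁ S₂) (_ : Algebra.Etale S₁ S₂)
        (_ : Module.FaithfullyFlat S₁ S₂) (y : S₂), y * y = algebraMap S₁ S₂ ↑x)

/-- Local isomorphisms give an isomorphism at every strict henselization. -/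
theorem exists_liso_of_locIso {t : AzInv.LamInv R A lam} {t' : AzInv.LamInv R A' lam}
    (h : AzInv.LocIsoEt S lam t t') (p : PrimeSpectrum S) :
    ∃ φ : LIso S R (SH p) A A', φ.Intertwines t t' := by
  obtain ⟨S', _, _, _, _, f, hf, hft⟩ := h
  obtain ⟨g⟩ := exists_map_SH p S' (PrimeSpectrum.comap_surjective_of_faithfullyFlat p)
  let φ : LIso S R S' A A' := ⟨f, hf⟩
  have hφ : φ.Intertwines t t' := hft
  exact ⟨φ.push (SH p) g, hφ.push (SH p) g⟩

/-- The locus where a compatible isomorphism exists is open. -/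
theorem isOpen_setOf_liso [Module.Finite R A] [Module.Projective R A] [Module.Finite R A'] [Module.Projective R A']
    (t : AzInv.LamInv R A lam) (t' : AzInv.LamInv R A' lam) :
    IsOpen {p : PrimeSpectrum S | ∃ φ : LIso S R (SH p) A A', φ.Intertwines t t'} := by
  refine isOpen_iff_forall_mem_open.2 fun p ⟨φ, hφ⟩ => ?_
  obtain ⟨Q, ψ, hψ⟩ := exists_stage_iso t t' φ hφ
  refine ⟨Set.range (PrimeSpectrum.comap (algebraMap S Q.Ring)), fun q hq => ?_,
    (PrimeSpectrum.isOpenMap_comap_of_hasGoingDown_of_finitePresentation).isOpen_range, ?_⟩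
  · obtain ⟨g⟩ := exists_map_SH q Q.Ring hq
    exact ⟨ψ.push (SH q) g, hψ.push (SH q) g⟩
  · refine ⟨⟨RingHom.ker Q.pt.toRingHom, RingHom.ker_isPrime _⟩, ?_⟩
    ext s
    show Q.pt (algebraMap S Q.Ring s) = 0 ↔ _
    rw [AlgHom.commutes, IsScalarTower.algebraMap_apply S p.asIdeal.ResidueField (AlgebraicClosure p.asIdeal.ResidueField),
      map_eq_zero, Ideal.algebraMap_residueField_eq_zero]

/-- Isomorphisms at every strict henselization glue to an etale cover. -/
theorem locIso_of_forall [Module.Finite R A] [Module.Projective R A] [Module.Finite R A'] [Module.Projective R A']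
    {t : AzInv.LamInv R A lam} {t' : AzInv.LamInv R A' lam}
    (h : ∀ p : PrimeSpectrum S, ∃ φ : LIso S R (SH p) A A', φ.Intertwines t t') : AzInv.LocIsoEt S lam t t' := by
  classical
  have hloc : ∀ p : PrimeSpectrum S, ∃ (Q : Pt S (AlgebraicClosure p.asIdeal.ResidueField)) (ψ : LIso S R Q.Ring A A'),
      ψ.Intertwines t t' := fun p => exists_stage_iso t t' (h p).choose (h p).choose_spec
  choose Q ψ hψ using hloc
  obtain ⟨s, hs⟩ := CompactSpace.isCompact_univ.elim_finite_subcover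
    (fun p => Set.range (PrimeSpectrum.comap (algebraMap S (Q p).Ring)))
    (fun p => (PrimeSpectrum.isOpenMap_comap_of_hasGoingDown_of_finitePresentation).isOpen_range)
    fun p _ => Set.mem_iUnion.2 ⟨p, ⟨RingHom.ker (Q p).pt.toRingHom, RingHom.ker_isPrime _⟩, by
      ext x
      show (Q p).pt (algebraMap S (Q p).Ring x) = 0 ↔ _
      rw [AlgHom.commutes,
        IsScalarTower.algebraMap_apply S p.asIdeal.ResidueField (AlgebraicClosure p.asIdeal.ResidueField),
        map_eq_zero, Ideal.algebraMap_residueField_eq_zero]⟩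
  let U : Fin s.card → Type u := fun i => (Q (s.equivFin.symm i).1).Ring
  haveI : ∀ i, Algebra.Etale S (U i) := fun i => inferInstanceAs (Algebra.Etale S (Q (s.equivFin.symm i).1).Ring)
  haveI : Module.Flat S (Π i, U i) := Module.Flat.of_linearEquiv (DirectSum.linearEquivFunOnFintype S (Fin s.card) U).symm
  haveI : Module.FaithfullyFlat S (Π i, U i) := Module.FaithfullyFlat.of_comap_surjective fun q => by
    obtain ⟨p, hp, q', hq'⟩ := Set.mem_iUnion₂.1 (hs (Set.mem_univ q))
    obtain ⟨i, hi⟩ : ∃ i, (s.equivFin.symm i).1 = p := ⟨s.equivFin ⟨p, hp⟩, by simp⟩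
    subst hi
    exact ⟨PrimeSpectrum.comap (Pi.evalRingHom U i) q', hq'⟩
  obtain ⟨Φ, hΦ⟩ := exists_piIso U t t' (fun i => ψ _) fun i => hψ _
  exact ⟨Π i, U i, inferInstance, inferInstance, inferInstance, inferInstance, Φ.f, Φ.compat, hΦ⟩

include hlam hfix hsq

/-- The main criterion: same degree and same sign at every prime. -/
theorem locIso_of_orth_iff {n : ℕ} (hn : 0 < n) (hcond : IsUnit (2 : S) ∨ (∀ p : PrimeSpectrum S, ¬ IsRam lam p) ∨ Odd n)
    [Module.Finite R A] [Module.Projective R A] [Module.Finite R A'] [Module.Projective R A']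
    (φ : ∀ p : PrimeSpectrum S, LIso S R (SH p) A (Matrix (Fin n) (Fin n) R)) (φ' : ∀ p : PrimeSpectrum S, LIso S R (SH p) A' (Matrix (Fin n) (Fin n) R))
    (t : AzInv.LamInv R A lam) (t' : AzInv.LamInv R A' lam)
    (h : ∀ p : PrimeSpectrum S, IsRam lam p → IsUnit (2 : SH p ⊗[S] R) → (Orth hlam p n t ↔ Orth hlam p n t')) :
    AzInv.LocIsoEt S lam t t' := by
  refine locIso_of_forall fun p => ?_
  have hc : IsUnit (2 : S) ∨ ¬ IsRam lam p ∨ Odd n := hcond.imp id (Or.imp (fun h => h p) id)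
  rcases orth_or_symp hlam hfix p hsq hn hc (φ p) t with ⟨ψ, hψ⟩ | ⟨hram, h2, -, hsymp⟩
  · rcases orth_or_symp hlam hfix p hsq hn hc (φ' p) t' with ⟨ψ', hψ'⟩ | ⟨hram, h2, -, hsymp'⟩
    · exact ⟨ψ.trans ψ'.symm, hψ.trans hψ'.symm⟩
    · exact absurd ((h p hram h2).1 ⟨ψ, hψ⟩) (hsymp'.not_orth hlam hfix hn hram h2)
  · rcases orth_or_symp hlam hfix p hsq hn hc (φ' p) t' with ho | ⟨-, -, -, hev, ψ', hψ'⟩
    · exact absurd ((h p hram h2).2 ho) (hsymp.not_orth hlam hfix hn hram h2)
    · obtain ⟨hev2, ψ, hψ⟩ := hsymp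
      exact ⟨ψ.trans ψ'.symm, LIso.Intertwines.trans hψ (LIso.Intertwines.symm hψ')⟩

omit hsq in
/-- Nonexistence lemma for the same type. -/
theorem false_of_orth_symp {n n' m m' : ℕ} (hn' : 0 < n') (hm' : 0 < m') {t : AzInv.LamInv R A lam}
    {t' : AzInv.LamInv R A' lam} (hram : IsRam lam p) (h2 : IsUnit (2 : SH p ⊗[S] R))
    (φ : LIso S R (SH p) (Matrix (Fin m) (Fin m) A) (Matrix (Fin m') (Fin m') A'))
    (hφ : φ.Intertwines (t.matrix (Fin m)) (t'.matrix (Fin m')))
    (ho : Orth hlam p n t) (hs : Symp hlam p n' t') : False := by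
  refine hs.not_orth_matrix hlam hfix hn' hram h2 hm' ?_
  obtain ⟨ψ, hψ⟩ := ho.matrix hlam m
  have hev := hs
  obtain ⟨-, ψ', -⟩ := hev
  rw [← card_eq hfix φ ψ ((ψ'.matrix (Fin m')).trans (LIso.ofAlgEquiv (compEquiv R m' n')))]
  exact Orth.transport hlam φ.symm hφ.symm ⟨ψ, hψ⟩

/-- Involutions of the same type have the same signs. -/
theorem orth_iff_of_sameType {n n' : ℕ} (hn : 0 < n) (hn' : 0 < n')
    {t : AzInv.LamInv R A lam} {t' : AzInv.LamInv R A' lam} (h : AzInv.SameType S lam t t') (p : PrimeSpectrum S)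
    (φ : LIso S R (SH p) A (Matrix (Fin n) (Fin n) R)) (φ' : LIso S R (SH p) A' (Matrix (Fin n') (Fin n') R))
    (hc : IsUnit (2 : S) ∨ ¬ IsRam lam p ∨ (Odd n ∧ Odd n')) :
    Orth hlam p n t ↔ Orth hlam p n' t' := by
  obtain ⟨m, m', hm, hm', hloc⟩ := h
  obtain ⟨Φ, hΦ⟩ := exists_liso_of_locIso hloc p
  constructor
  · intro ho
    rcases orth_or_symp hlam hfix p hsq hn' (hc.imp id (Or.imp id And.right)) φ' t' with h' | ⟨hram, h2, -, hs⟩
    · exact h'
    · exact (false_of_orth_symp hlam hfix hn' hm' hram h2 Φ hΦ ho hs).elim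
  · intro ho
    rcases orth_or_symp hlam hfix p hsq hn (hc.imp id (Or.imp id And.left)) φ t with h' | ⟨hram, h2, -, hs⟩
    · exact h'
    · exact (false_of_orth_symp hlam hfix hn hm hram h2 Φ.symm hΦ.symm ho hs).elim

omit hfix hsq in
/-- The neutral type. -/
theorem self_matrix_eq (ι : Type) [Fintype ι] [DecidableEq ι] :
    (AzInv.LamInv.self lam hlam).matrix ι = AzInv.LamInv.transpose lam ι hlam := by
  ext M i j
  simp

/-- Involutions orthogonal everywhere have the neutral type. -/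
theorem sameType_self {n : ℕ} (hn : 0 < n) [Module.Finite R A] [Module.Projective R A] (t : AzInv.LamInv R A lam)
    (h : ∀ p : PrimeSpectrum S, Orth hlam p n t) : AzInv.SameType S lam t (AzInv.LamInv.self lam hlam) := by
  let e1 : A ≃ₗ[R] Matrix (Fin 1) (Fin 1) A :=
    (LinearEquiv.funUnique (Fin 1) R A).symm.trans (LinearEquiv.funUnique (Fin 1) R (Fin 1 → A)).symm
  haveI : Module.Projective R (Matrix (Fin 1) (Fin 1) A) := Module.Projective.of_equiv e1
  haveI : Module.Finite R (Matrix (Fin 1) (Fin 1) A) := Module.Finite.equiv e1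
  refine ⟨1, n, one_pos, hn, ?_⟩
  rw [self_matrix_eq]
  refine locIso_of_forall fun p => ?_
  obtain ⟨ψ, hψ⟩ := (h p).matrix hlam 1
  let e : Matrix (Fin (1 * n)) (Fin (1 * n)) R ≃ₐ[R] Matrix (Fin n) (Fin n) R :=
    Matrix.reindexAlgEquiv R R (finCongr (one_mul n))
  exact ⟨ψ.trans (LIso.ofAlgEquiv e), hψ.trans (LIso.ofAlgEquiv_intertwines e fun M => by ext i j; simp [e])⟩

end Groth.Agent.AzInvLib
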